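import Groth.Agent.FlatModel.Local

/-!
Openness of the flat locus of a finitely presented module over a finitely presented algebra, over an
arbitrary base ring.
-/

namespace Groth.Agent.FlatModel

open MvPolynomial TensorProduct

universe u

variable {R : Type u} [CommRing R] {S : Type u} [CommRing S] [Algebra R S] [Algebra.FinitePresentation R S]
  (M : Type u) [AddCommGroup M] [Module S M] [Module R M] [IsScalarTower R S M] [Module.FinitePresentation S M]

/-- Flatness at a prime spreads out. -/
theorem exists_flat_nhd (q : Ideal S) [q.IsPrime] (h : Module.Flat R (LocalizedModule q.primeCompl M)) :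
    ∃ g ∉ q, ∀ W : Submonoid S, g ∈ W → Module.Flat R (LocalizedModule W M) := by
  classical
  obtain ⟨n, φ, hφ, hkerφ⟩ := Algebra.FinitePresentation.out (R := R) (A := S)
  let := φ.toRingHom.toAlgebra
  let := Module.compHom M φ.toRingHom
  have : IsScalarTower (MvPolynomial (Fin n) R) S M := ⟨fun p s m => mul_smul (φ p) s m⟩
  have : IsScalarTower R (MvPolynomial (Fin n) R) M := ⟨fun r p m => by
    show φ (r • p) • m = r • φ p • m
    rw [map_smul, smul_assoc]⟩
  have hkA : (LinearMap.ker (Algebra.linearMap (MvPolynomial (Fin n) R) S)).FG := hkerφ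
  have : Module.FinitePresentation (MvPolynomial (Fin n) R) S :=
    Module.finitePresentation_of_surjective (Algebra.linearMap (MvPolynomial (Fin n) R) S) hφ hkA
  have : Module.FinitePresentation (MvPolynomial (Fin n) R) M := Module.FinitePresentation.trans _ M S
  obtain ⟨a, π, hπ⟩ := Module.Finite.exists_fin' (MvPolynomial (Fin n) R) M
  obtain ⟨G, hG⟩ := Module.FinitePresentation.fg_ker π hπ
  let c : Finset R := G.biUnion fun v => Finset.univ.biUnion fun i => (v i).coeffs
  let R₀ : Subalgebra ℤ R := Algebra.adjoin ℤ (c : Set R)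
  have : Algebra.FiniteType ℤ R₀ := (Subalgebra.fg_iff_finiteType R₀).1 (Subalgebra.fg_adjoin_finset c)
  have : IsNoetherianRing R₀ := Algebra.FiniteType.isNoetherianRing ℤ R₀
  have hGdesc : ∀ v ∈ G, ∃ w : V a n R₀, mapV (algebraMap R₀ R) w = v := by
    intro v hv
    have : ∀ i, ∃ q : MvPolynomial (Fin n) R₀, MvPolynomial.map (algebraMap R₀ R) q = v i := fun i =>
      MvPolynomial.mem_range_map_iff_coeffs_subset.2 fun x hx =>
        ⟨⟨x, Algebra.subset_adjoin (Finset.mem_biUnion.2 ⟨v, hv, Finset.mem_biUnion.2 ⟨i, Finset.mem_univ _, hx⟩⟩)⟩, rfl⟩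
    choose w hw using this
    exact ⟨w, funext hw⟩
  choose! lv hlv using hGdesc
  let K₀ : Submodule (MvPolynomial (Fin n) R₀) (V a n R₀) := Submodule.span _ (lv '' G)
  have hker : LinearMap.ker π = KK K₀ R := by
    apply le_antisymm
    · rw [← hG, Submodule.span_le]
      intro v hv
      exact Submodule.subset_span ⟨lv v, Submodule.subset_span ⟨v, hv, rfl⟩, hlv v hv⟩
    · rw [KK, Submodule.span_le]
      rintro _ ⟨w, hw, rfl⟩
      refine Submodule.span_le.2 ?_ (mapV_mem_span (algebraMap R₀ R) hw)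
      rintro _ ⟨w, ⟨v, hv, rfl⟩, rfl⟩
      rw [hlv v hv]
      exact hG.le (Submodule.subset_span hv)
  have hsmul : ∀ (J : Ideal R) (p : MvPolynomial (Fin n) R) (y : M ⊗[R] J), φ p • y = p • y := by
    intro J p y
    induction y using TensorProduct.induction_on with
    | zero => simp
    | tmul m j => rw [smul_tmul', smul_tmul']; rfl
    | add y z hy hz => rw [smul_add, smul_add, hy, hz]
  have key : ∀ W : Submonoid S, Module.Flat R (LocalizedModule W M) ↔ PtFlat K₀ R (W.comap φ) := by
    intro W
    rw [flat_localized_iff W (LocalizedModule.mkLinearMap W M), ptFlat_iff K₀ (W.comap φ) π hπ hker]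
    refine forall₂_congr fun J y => imp_congr_right fun _ => ⟨?_, ?_⟩
    · rintro ⟨s, hs, hsy⟩
      obtain ⟨p, rfl⟩ := hφ s
      exact ⟨p, hs, (hsmul J p y) ▸ hsy⟩
    · rintro ⟨p, hp, hpy⟩
      exact ⟨φ p, hp, (hsmul J p y).trans hpy⟩
  obtain ⟨g, hg, hflat⟩ := exists_ptFlat_powers K₀ (q.comap φ) ((key q.primeCompl).1 h)
  exact ⟨φ g, hg, fun W hW => (key W).2 (hflat.mono K₀ (Submonoid.powers_le.2 hW))⟩

/-- The flat locus is open. -/
theorem isOpen_flatLocus :
    IsOpen {q : PrimeSpectrum S | Module.Flat R (LocalizedModule q.asIdeal.primeCompl M)} := by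
  rw [isOpen_iff_forall_mem_open]
  intro q hq
  obtain ⟨g, hg, h⟩ := exists_flat_nhd M q.asIdeal hq
  exact ⟨PrimeSpectrum.basicOpen g, fun p hp => h _ hp, PrimeSpectrum.isOpen_basicOpen, hg⟩

end Groth.Agent.FlatModel
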