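import Groth.Agent.FlatModel.Vec
import Groth.Agent.GenFree.Basic

/-!
Descent of flatness of a finitely presented module over a polynomial ring to a finitely generated
subalgebra of the base: if `R ⊗ (A₀ᵃ/K₀)` is flat over `R`, so is `R₁ ⊗ (A₀ᵃ/K₀)` for some finitely
generated `R₁ ⊆ R`.  Flatness of `Vᵃ/K` is used in the form `K ∩ J V = J K` for all ideals `J`.
-/

namespace Groth.Agent.FlatModel

open MvPolynomial TensorProduct

universe u

variable {a n : ℕ} {R₀ : Type u} [CommRing R₀]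

/-- The base change of a submodule of relations. -/
noncomputable def KK (K₀ : Submodule (MvPolynomial (Fin n) (R₀)) (V a n R₀)) (R' : Type u) [CommRing R'] [Algebra R₀ R'] :
    Submodule (MvPolynomial (Fin n) (R')) (V a n R') :=
  Submodule.span (MvPolynomial (Fin n) (R')) (mapV (algebraMap R₀ R') '' K₀)

/-- Vectors with all coefficients in `J`. -/
noncomputable def CJ (a n : ℕ) {R' : Type u} [CommRing R'] (J : Ideal R') :
    Submodule (MvPolynomial (Fin n) R') (V a n R') :=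
  Submodule.pi Set.univ fun _ => J.map C

/-- The relations cut out a flat module: `K ∩ J V = J K`. -/
def FlatC (K₀ : Submodule (MvPolynomial (Fin n) (R₀)) (V a n R₀)) (R' : Type u) [CommRing R'] [Algebra R₀ R'] : Prop :=
  ∀ J : Ideal R', ∀ x ∈ KK K₀ R', x ∈ CJ a n J → x ∈ (J.map C : Ideal (MvPolynomial (Fin n) (R'))) • KK K₀ R'

variable {R' : Type u} [CommRing R']

theorem mem_CJ {J : Ideal R'} {x : V a n R'} : x ∈ CJ a n J ↔ ∀ i, x i ∈ (J.map C : Ideal (MvPolynomial (Fin n) (R'))) := by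
  simp [CJ]

theorem C_smul (r : R') (v : V a n R') : (C r : (MvPolynomial (Fin n) (R'))) • v = r • v := by
  ext i; simp [MvPolynomial.smul_eq_C_mul]

theorem smul_le_CJ (J : Ideal R') (N : Submodule (MvPolynomial (Fin n) (R')) (V a n R')) : (J.map C : Ideal (MvPolynomial (Fin n) (R'))) • N ≤ CJ a n J :=
  Submodule.smul_le.2 fun _ hr m _ => mem_CJ.2 fun i => Ideal.mul_mem_right (m i) _ hr

/-- The monomial basis. -/
noncomputable def B (a n : ℕ) (R' : Type u) [CommRing R'] :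
    Module.Basis (Σ _ : Fin a, Fin n →₀ ℕ) R' (V a n R') :=
  Pi.basis fun _ => MvPolynomial.basisMonomials (Fin n) R'

theorem B_apply (e : Σ _ : Fin a, Fin n →₀ ℕ) : B a n R' e = Pi.single e.1 (monomial e.2 1) := by
  simp [B]

theorem repr_mem {J : Ideal R'} {x : V a n R'} (hx : x ∈ CJ a n J) (e : Σ _ : Fin a, Fin n →₀ ℕ) :
    (B a n R').repr x e ∈ J := by
  have : (B a n R').repr x e = (x e.1).coeff e.2 := by simp [B]; rfl
  rw [this]
  exact MvPolynomial.mem_map_C_iff.1 (mem_CJ.1 hx e.1) e.2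

variable [Algebra R₀ R'] (K₀ : Submodule (MvPolynomial (Fin n) (R₀)) (V a n R₀))

variable (R') in
/-- `mapV` as a linear map. -/
noncomputable def mapL : V a n R₀ →ₗ[R₀] V a n R' where
  toFun := mapV (algebraMap R₀ R')
  map_add' := mapV_add _
  map_smul' r v := by
    ext i
    simp [MvPolynomial.smul_eq_C_mul, Algebra.smul_def, MvPolynomial.algebraMap_eq]

theorem mapL_B (e : Σ _ : Fin a, Fin n →₀ ℕ) : mapL R' (B a n R₀ e) = B a n R' e := by
  ext i : 1
  show mapV _ _ i = _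
  rw [B_apply, B_apply, mapV_apply]
  by_cases h : i = e.1
  · subst h; simp
  · simp [h]

theorem mapL_mem_KK {w : V a n R₀} (hw : w ∈ K₀) : mapL R' w ∈ KK K₀ R' :=
  Submodule.subset_span ⟨w, hw, rfl⟩

/-- Generators of `Q K` as an additive monoid. -/
theorem smul_KK_le_closure (Q : Ideal R') {x : V a n R'} (hx : x ∈ (Q.map C : Ideal (MvPolynomial (Fin n) (R'))) • KK K₀ R') :
    x ∈ AddSubmonoid.closure {y | ∃ r ∈ Q, ∃ w ∈ K₀, y = r • mapL R' w} := by
  rw [KK, Ideal.map, Submodule.span_smul_span] at hx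
  induction hx using Submodule.span_induction with
  | mem x hx =>
    obtain ⟨_, ⟨r, hr, rfl⟩, _, ⟨w, hw, rfl⟩, rfl⟩ := hx
    exact AddSubmonoid.subset_closure ⟨r, hr, w, hw, C_smul r _⟩
  | zero => exact zero_mem _
  | add x y _ _ hx hy => exact add_mem hx hy
  | smul c x _ hx =>
    clear * - hx
    induction c using MvPolynomial.induction_on' with
    | monomial d s =>
      induction hx using AddSubmonoid.closure_induction with
      | mem y hy =>
        obtain ⟨r, hr, w, hw, rfl⟩ := hy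
        refine AddSubmonoid.subset_closure ⟨s * r, Ideal.mul_mem_left _ _ hr, (monomial d 1 : (MvPolynomial (Fin n) (R₀))) • w, K₀.smul_mem _ hw, ?_⟩
        show _ = (s * r) • mapV _ _
        rw [mapV_smul, MvPolynomial.map_monomial, map_one]
        ext i : 1
        simp only [Pi.smul_apply, smul_eq_mul, mul_smul_comm, ← smul_mul_assoc]
        congr 1
        simp [MvPolynomial.smul_monomial, mul_comm]
      | zero => simp
      | add y z _ _ hy hz => rw [smul_add]; exact add_mem hy hz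
    | add p q hp hq => rw [add_smul]; exact add_mem hp hq

/-- `I K` for an ideal of the base is a span of images. -/
theorem map_smul_KK_eq_span (I : Ideal R₀) :
    (((I.map (algebraMap R₀ R')).map C : Ideal (MvPolynomial (Fin n) (R'))) • KK K₀ R') =
      Submodule.span (MvPolynomial (Fin n) (R')) (mapV (algebraMap R₀ R') '' {y | ∃ c ∈ I, ∃ w ∈ K₀, y = (C c : (MvPolynomial (Fin n) (R₀))) • w}) := by
  rw [Ideal.map_map, Ideal.map, KK, Submodule.span_smul_span]
  congr 1
  ext y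
  constructor
  · rintro ⟨_, ⟨c, hc, rfl⟩, _, ⟨w, hw, rfl⟩, rfl⟩
    exact ⟨_, ⟨c, hc, w, hw, rfl⟩, by simp [mapV_smul]⟩
  · rintro ⟨_, ⟨c, hc, w, hw, rfl⟩, rfl⟩
    exact ⟨_, ⟨c, hc, rfl⟩, _, ⟨w, hw, rfl⟩, by simp [mapV_smul]⟩

/-- `(M/pM)` is free after inverting `f`: witnesses. -/
def Good (p : Ideal R₀) (f : R₀) : Prop :=
  ∃ (ι : Type u) (s : ι → V a n (R₀ ⧸ p)),
    (∀ v : ι →₀ R₀ ⧸ p, Finsupp.linearCombination (R₀ ⧸ p) s v ∈ KK K₀ (R₀ ⧸ p) → v = 0) ∧
    ∀ y : V a n (R₀ ⧸ p), ∃ (k : ℕ) (v : ι →₀ R₀ ⧸ p),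
      (Ideal.Quotient.mk p f) ^ k • y - Finsupp.linearCombination (R₀ ⧸ p) s v ∈ KK K₀ (R₀ ⧸ p)

theorem exists_good [IsNoetherianRing R₀] (p : Ideal R₀) [p.IsPrime] : ∃ f, f ∉ p ∧ Good K₀ p f := by
  let W := V a n (R₀ ⧸ p) ⧸ KK K₀ (R₀ ⧸ p)
  obtain ⟨fb, hfb, ι, φ, hφ, hr⟩ := GenFree.exists_gfree (R := R₀ ⧸ p) (M := W) ((MvPolynomial (Fin n) (R₀ ⧸ p)))
  obtain ⟨f, rfl⟩ := Ideal.Quotient.mk_surjective fb
  choose s hs using fun i : ι => (KK K₀ (R₀ ⧸ p)).mkQ_surjective (φ (Finsupp.single i 1))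
  have key : ∀ v, ((KK K₀ (R₀ ⧸ p)).mkQ.restrictScalars (R₀ ⧸ p)) (Finsupp.linearCombination (R₀ ⧸ p) s v) = φ v := by
    intro v
    rw [← LinearMap.comp_apply]
    congr 1
    ext i
    simp [← hs i]
  refine ⟨f, fun h => hfb (Ideal.Quotient.eq_zero_iff_mem.2 h), ι, s, fun v hv => hφ ?_, fun y => ?_⟩
  · rw [map_zero, ← key]
    exact (Submodule.Quotient.mk_eq_zero _).2 hv
  · obtain ⟨k, v, hv⟩ := hr ((KK K₀ (R₀ ⧸ p)).mkQ y)
    refine ⟨k, v, (Submodule.Quotient.mk_eq_zero _).1 ?_⟩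
    rw [← Submodule.mkQ_apply, map_sub, LinearMap.map_smul_of_tower, ← hv, ← key v]
    exact sub_self _

theorem exists_cover [IsNoetherianRing R₀] (I : Ideal R₀) :
    ∃ S : Finset (Ideal R₀ × R₀), (∀ x ∈ S, Good K₀ x.1 x.2) ∧
      ∀ q : Ideal R₀, q.IsPrime → I ≤ q → ∃ x ∈ S, x.1 ≤ q ∧ x.2 ∉ q := by
  classical
  induction I using WellFoundedGT.induction with
  | _ I ih =>
    by_cases hI : I = ⊤
    · exact ⟨∅, by simp, fun q hq h => absurd (top_le_iff.1 (hI ▸ h)) hq.ne_top⟩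
    by_cases hp : I.IsPrime
    · obtain ⟨f, hf, hg⟩ := exists_good K₀ I
      obtain ⟨S, hS, hS'⟩ := ih (I ⊔ Ideal.span {f})
        (lt_of_le_of_ne le_sup_left fun h => hf (h ▸ Ideal.mem_sup_right (Ideal.mem_span_singleton_self f)))
      refine ⟨insert (I, f) S, by simp [hg]; exact fun x y h => hS (x, y) h, fun q hq hle => ?_⟩
      by_cases hfq : f ∈ q
      · obtain ⟨x, hx, h⟩ := hS' q hq (sup_le hle ((Ideal.span_singleton_le_iff_mem _).2 hfq))
        exact ⟨x, Finset.mem_insert_of_mem hx, h⟩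
      · exact ⟨(I, f), Finset.mem_insert_self _ _, hle, hfq⟩
    · obtain ⟨x, hx, y, hy, hxy⟩ := (Ideal.not_isPrime_iff.1 hp).resolve_left hI
      have hlt : ∀ z ∉ I, I < I ⊔ Ideal.span {z} := fun z hz =>
        lt_of_le_of_ne le_sup_left fun h => hz (h ▸ Ideal.mem_sup_right (Ideal.mem_span_singleton_self z))
      obtain ⟨S, hS, hS'⟩ := ih _ (hlt x hx)
      obtain ⟨T, hT, hT'⟩ := ih _ (hlt y hy)
      refine ⟨S ∪ T, fun z hz => (Finset.mem_union.1 hz).elim (hS z) (hT z), fun q hq hle => ?_⟩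
      rcases hq.mem_or_mem (hle hxy) with h | h
      · obtain ⟨z, hz, h'⟩ := hS' q hq (sup_le hle ((Ideal.span_singleton_le_iff_mem _).2 h))
        exact ⟨z, Finset.mem_union_left _ hz, h'⟩
      · obtain ⟨z, hz, h'⟩ := hT' q hq (sup_le hle ((Ideal.span_singleton_le_iff_mem _).2 h))
        exact ⟨z, Finset.mem_union_right _ hz, h'⟩

/-- Over a stratum, relations in `J V` are killed into `J K` by an element off the primes there. -/
theorem exists_smul_mem [IsNoetherianRing R'] {p : Ideal R₀} {f : R₀} (hg : Good K₀ p f)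
    (g : MvPolynomial (Fin n) R')
    (hT : ∀ t ∈ K₀, t ∈ CJ a n p → g • mapV (algebraMap R₀ R') t ∈
      (((p.map (algebraMap R₀ R')).map C : Ideal (MvPolynomial (Fin n) (R')))) • KK K₀ R')
    (J : Ideal R') {x : V a n R'} (hx : x ∈ KK K₀ R') (hxJ : x ∈ CJ a n J)
    (P : Ideal (MvPolynomial (Fin n) (R'))) [P.IsPrime] (hpP : ∀ c ∈ p, C (algebraMap R₀ R' c) ∈ P) (hfP : C (algebraMap R₀ R' f) ∉ P) (hgP : g ∉ P) :
    ∃ s ∉ P, s • x ∈ (J.map C : Ideal (MvPolynomial (Fin n) (R'))) • KK K₀ R' := by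
  classical
  obtain ⟨ι, s, hindep, hgen⟩ := hg
  let f' := algebraMap R₀ R' f
  let P' := p.map (algebraMap R₀ R')
  choose ke ve hke using fun e : (Σ _ : Fin a, Fin n →₀ ℕ) => hgen (B a n (R₀ ⧸ p) e)
  choose κ hκK hκ using fun e => mem_image_of_mem_span (g := algebraMap R₀ (R₀ ⧸ p)) Ideal.Quotient.mk_surjective K₀ (hke e)
  let L₀ : ℕ → (V a n R₀ →ₗ[R₀] V a n R₀) := fun k =>
    (B a n R₀).constr R₀ fun e => if ke e ≤ k then f ^ (k - ke e) • κ e else 0
  let L : ℕ → (V a n R' →ₗ[R'] V a n R') := fun k =>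
    (B a n R').constr R' fun e => mapL R' (if ke e ≤ k then f ^ (k - ke e) • κ e else 0)
  let U : ℕ → (V a n R₀ →ₗ[R₀] (ι →₀ R₀ ⧸ p)) := fun k =>
    (B a n R₀).constr R₀ fun e => if ke e ≤ k then (Ideal.Quotient.mk p f) ^ (k - ke e) • ve e else 0
  have hLK : ∀ k e, (if ke e ≤ k then f ^ (k - ke e) • κ e else 0) ∈ K₀ := fun k e => by
    split_ifs
    exacts [K₀.smul_of_tower_mem _ (hκK e), zero_mem _]
  have hL₀K : ∀ k w, L₀ k w ∈ K₀ := fun k w => by
    simp only [L₀, Module.Basis.constr_apply, Finsupp.sum]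
    exact Submodule.sum_mem _ fun e _ => K₀.smul_of_tower_mem _ (hLK k e)
  have hLL : ∀ k w, L k (mapL R' w) = mapL R' (L₀ k w) := fun k w => by
    rw [← LinearMap.restrictScalars_apply R₀ (L k), ← LinearMap.comp_apply, ← LinearMap.comp_apply]
    congr 1
    refine (B a n R₀).ext fun e => ?_
    simp [L, L₀, mapL_B]
  have hLJ : ∀ k y, y ∈ CJ a n J → L k y ∈ (J.map C : Ideal (MvPolynomial (Fin n) (R'))) • KK K₀ R' := fun k y hy => by
    simp only [L, Module.Basis.constr_apply, Finsupp.sum]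
    refine Submodule.sum_mem _ fun e _ => ?_
    rw [← C_smul]
    exact Submodule.smul_mem_smul (Ideal.mem_map_of_mem _ (repr_mem hy e)) (mapL_mem_KK K₀ (hLK k e))
  -- the key property of `L₀`
  have hD : ∀ w ∈ K₀, ∃ k₀, ∀ k ≥ k₀, g • (f' ^ k • mapL R' w - L k (mapL R' w)) ∈ (P'.map C : Ideal (MvPolynomial (Fin n) (R'))) • KK K₀ R' := by
    intro w hw
    refine ⟨((B a n R₀).repr w).support.sup ke, fun k hk => ?_⟩
    let d := f ^ k • w - L₀ k w
    have hdK : d ∈ K₀ := sub_mem (K₀.smul_of_tower_mem _ hw) (hL₀K k w)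
    have hπ : mapL (R₀ ⧸ p) d = Finsupp.linearCombination (R₀ ⧸ p) s (U k w) := by
      have hw' := (B a n R₀).linearCombination_repr w
      rw [Finsupp.linearCombination_apply, Finsupp.sum] at hw'
      simp only [d]
      rw [← hw', Finset.smul_sum, map_sum, ← Finset.sum_sub_distrib, map_sum, map_sum, map_sum]
      refine Finset.sum_congr rfl fun e he => ?_
      have hek : ke e ≤ k := (Finset.le_sup (f := ke) he).trans hk
      simp only [L₀, U, map_smul, Module.Basis.constr_basis, if_pos hek, map_sub, LinearMap.map_smul_of_tower]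
      rw [smul_comm (f ^ k), ← smul_sub]
      congr 1
      rw [show mapL (R₀ ⧸ p) (κ e) = mapV (algebraMap R₀ (R₀ ⧸ p)) (κ e) from rfl, hκ e, mapL_B,
        ← algebraMap_smul (R₀ ⧸ p) (f ^ k), ← algebraMap_smul (R₀ ⧸ p) (f ^ (k - ke e)), map_pow, map_pow,
        Ideal.Quotient.algebraMap_eq, smul_sub, smul_smul, ← pow_add, Nat.sub_add_cancel hek, sub_sub_cancel]
    have hU : U k w = 0 := hindep _ (hπ ▸ mapL_mem_KK K₀ hdK)
    rw [hU, map_zero] at hπ
    have hdp : d ∈ CJ a n p := mem_CJ.2 fun i => by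
      have h : MvPolynomial.map (algebraMap R₀ (R₀ ⧸ p)) (d i) = 0 := congrFun hπ i
      rw [← RingHom.mem_ker, MvPolynomial.ker_map, Ideal.Quotient.algebraMap_eq, Ideal.mk_ker] at h
      exact h
    have := hT d hdK hdp
    rw [show mapV (algebraMap R₀ R') d = mapL R' d from rfl, map_sub, map_smul, ← hLL,
      ← algebraMap_smul R' (f ^ k), map_pow] at this
    exact this
  have hstep : ∀ (Q : Ideal R') (y : V a n R'), y ∈ (Q.map C : Ideal (MvPolynomial (Fin n) (R'))) • KK K₀ R' →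
      ∃ k₀, ∀ k ≥ k₀, g • (f' ^ k • y - L k y) ∈ ((Q * P').map C : Ideal (MvPolynomial (Fin n) (R'))) • KK K₀ R' := by
    intro Q y hy
    have hy' := smul_KK_le_closure K₀ Q hy
    clear hy
    induction hy' using AddSubmonoid.closure_induction with
    | mem y hy =>
      obtain ⟨r, hr, w, hw, rfl⟩ := hy
      obtain ⟨k₀, hk₀⟩ := hD w hw
      refine ⟨k₀, fun k hk => ?_⟩
      rw [map_smul, smul_comm, ← smul_sub, smul_comm g, Ideal.map_mul, Submodule.mul_smul, ← C_smul]
      exact Submodule.smul_mem_smul (Ideal.mem_map_of_mem _ hr) (hk₀ k hk)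
    | zero => exact ⟨0, fun k _ => by simp⟩
    | add y z _ _ hy hz =>
      obtain ⟨k₁, h₁⟩ := hy; obtain ⟨k₂, h₂⟩ := hz
      refine ⟨max k₁ k₂, fun k hk => ?_⟩
      rw [smul_add, map_add, add_sub_add_comm, smul_add]
      exact add_mem (h₁ k (le_trans (le_max_left _ _) hk)) (h₂ k (le_trans (le_max_right _ _) hk))
  have hiter : ∀ m : ℕ, ∃ (k l : ℕ) (z : V a n R'), z ∈ ((P' ^ m).map C : Ideal (MvPolynomial (Fin n) (R'))) • KK K₀ R' ∧ z ∈ CJ a n J ∧
      g ^ l • f' ^ k • x - z ∈ (J.map C : Ideal (MvPolynomial (Fin n) (R'))) • KK K₀ R' := by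
    intro m
    induction m with
    | zero =>
      refine ⟨0, 0, x, ?_, hxJ, by simp⟩
      rw [pow_zero, Ideal.one_eq_top, Ideal.map_top, Submodule.top_smul]
      exact hx
    | succ m ih =>
      obtain ⟨k, l, z, hz, hzJ, hxz⟩ := ih
      obtain ⟨k₀, hk₀⟩ := hstep _ z hz
      have hLz := hLJ k₀ z hzJ
      refine ⟨k₀ + k, l + 1, g • (f' ^ k₀ • z - L k₀ z), ?_, ?_, ?_⟩
      · rw [pow_succ]; exact hk₀ k₀ le_rfl
      · exact Submodule.smul_mem _ _ (sub_mem (Submodule.smul_of_tower_mem _ _ hzJ) (smul_le_CJ J _ hLz))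
      · rw [show g ^ (l + 1) • f' ^ (k₀ + k) • x - g • (f' ^ k₀ • z - L k₀ z) =
            g • (f' ^ k₀ • (g ^ l • f' ^ k • x - z) + L k₀ z) from by
          rw [smul_sub (f' ^ k₀), smul_comm (f' ^ k₀) (g ^ l), smul_smul (f' ^ k₀), ← pow_add, pow_succ', mul_smul, ← smul_sub]
          congr 1
          abel]
        exact Submodule.smul_mem _ _ (add_mem (Submodule.smul_of_tower_mem _ _ hxz) hLz)
  let JK : Submodule (MvPolynomial (Fin n) (R')) (V a n R') := (J.map C : Ideal (MvPolynomial (Fin n) (R'))) • KK K₀ R'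
  let Ip : Ideal (MvPolynomial (Fin n) (R')) := P'.map C
  obtain ⟨c, hc⟩ := Ideal.exists_pow_inf_eq_pow_smul Ip (Submodule.span (MvPolynomial (Fin n) (R')) {JK.mkQ x})
  obtain ⟨k, l, z, hz, -, hxz⟩ := hiter (c + 1)
  have hzx : JK.mkQ z = (g ^ l * C (f' ^ k) : (MvPolynomial (Fin n) (R'))) • JK.mkQ x := by
    rw [← map_smul, mul_smul, C_smul]
    exact ((Submodule.Quotient.eq JK).2 hxz).symm
  have h1 : JK.mkQ z ∈ Ip ^ (c + 1) • ⊤ ⊓ Submodule.span (MvPolynomial (Fin n) (R')) {JK.mkQ x} := by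
    refine ⟨?_, hzx ▸ Submodule.smul_mem _ _ (Submodule.mem_span_singleton_self _)⟩
    have := Submodule.mem_map_of_mem (f := JK.mkQ) hz
    rw [Submodule.map_smul'', Ideal.map_pow] at this
    exact Submodule.smul_mono le_rfl le_top this
  rw [hc _ (Nat.le_succ c), show c.succ - c = 1 by omega, pow_one] at h1
  obtain ⟨b, hb, hbz⟩ := Submodule.mem_smul_span_singleton.1 (Submodule.smul_mono le_rfl inf_le_right h1)
  refine ⟨g ^ l * C (f' ^ k) - b, fun h => ?_, ?_⟩
  · have hbP : b ∈ P := by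
      have hle : Ip ≤ P := by
        show ((p.map (algebraMap R₀ R')).map C) ≤ P
        rw [Ideal.map_map, Ideal.map_le_iff_le_comap]
        exact hpP
      exact hle hb
    have := add_mem h hbP
    rw [sub_add_cancel, map_pow] at this
    rcases ‹P.IsPrime›.mem_or_mem this with h | h
    · exact hgP (‹P.IsPrime›.mem_of_pow_mem _ h)
    · exact hfP (‹P.IsPrime›.mem_of_pow_mem _ h)
  · rw [← Submodule.Quotient.mk_eq_zero, ← Submodule.mkQ_apply, map_smul, sub_smul, hbz, hzx, sub_self]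

/-- Flatness of the relations descends to a finitely generated subalgebra. -/
theorem exists_fg_flatC [IsNoetherianRing R₀] {R : Type u} [CommRing R] [Algebra R₀ R] (h : FlatC K₀ R) :
    ∃ R₁ : Subalgebra R₀ R, R₁.FG ∧ FlatC K₀ R₁ := by
  classical
  obtain ⟨S, hS, hcover⟩ := exists_cover K₀ ⊥
  let T : Ideal R₀ → (R₁ : Subalgebra R₀ R) → Set (V a n R₀) := fun p R₁ => {t | mapV (algebraMap R₀ R₁) t ∈
    ((((p.map (algebraMap R₀ R₁)).map C : Ideal (MvPolynomial (Fin n) (R₁)))) • KK K₀ R₁)}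
  have hmono : ∀ p (R₁ R₂ : Subalgebra R₀ R), R₁ ≤ R₂ → T p R₁ ⊆ T p R₂ := by
    intro p R₁ R₂ hle t ht
    simp only [T, Set.mem_setOf_eq, map_smul_KK_eq_span] at ht ⊢
    have := span_mono_subalgebra hle ht
    rwa [mapV_algebraMap] at this
  have hone : ∀ p, ∀ t ∈ K₀, t ∈ CJ a n p → ∃ R₁ : Subalgebra R₀ R, R₁.FG ∧ t ∈ T p R₁ := by
    intro p t ht htp
    have h1 : mapV (algebraMap R₀ R) t ∈ CJ a n (p.map (algebraMap R₀ R)) := mem_CJ.2 fun i =>
      MvPolynomial.mem_map_C_iff.2 fun d => by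
        rw [mapV_apply, MvPolynomial.coeff_map]
        exact Ideal.mem_map_of_mem _ (MvPolynomial.mem_map_C_iff.1 (mem_CJ.1 htp i) d)
    have h2 := h _ _ (mapL_mem_KK K₀ ht) h1
    rw [map_smul_KK_eq_span] at h2
    obtain ⟨R₁, hR₁, x₁, hx₁, hx₁t⟩ := exists_fg_span_descent h2
    refine ⟨R₁, hR₁, ?_⟩
    have : x₁ = mapV (algebraMap R₀ R₁) t :=
      mapV_injective (g := R₁.val.toRingHom) Subtype.val_injective (hx₁t.trans (mapV_algebraMap R₁.val t).symm)
    simp only [T, Set.mem_setOf_eq, map_smul_KK_eq_span]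
    exact this ▸ hx₁
  choose G hG using fun p : Ideal R₀ => (IsNoetherian.noetherian (K₀ ⊓ CJ a n p) : (K₀ ⊓ CJ a n p).FG)
  have hfin : ∀ W : Finset (Ideal R₀ × V a n R₀), (∀ w ∈ W, w.2 ∈ K₀ ⊓ CJ a n w.1) →
      ∃ R₁ : Subalgebra R₀ R, R₁.FG ∧ ∀ w ∈ W, w.2 ∈ T w.1 R₁ := by
    intro W
    induction W using Finset.induction with
    | empty => exact fun _ => ⟨⊥, Subalgebra.fg_bot, by simp⟩
    | insert w W _ ih =>
      intro hW
      obtain ⟨R₁, h₁, h₁'⟩ := ih fun z hz => hW z (Finset.mem_insert_of_mem hz)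
      obtain ⟨R₂, h₂, h₂'⟩ := hone w.1 w.2 (hW w (Finset.mem_insert_self _ _)).1 (hW w (Finset.mem_insert_self _ _)).2
      refine ⟨R₁ ⊔ R₂, h₁.sup h₂, fun z hz => ?_⟩
      rcases Finset.mem_insert.1 hz with rfl | hz
      · exact hmono _ _ _ le_sup_right h₂'
      · exact hmono _ _ _ le_sup_left (h₁' z hz)
  obtain ⟨R₁, hR₁, hW⟩ := hfin (S.biUnion fun x => (G x.1).image fun t => (x.1, t)) (by
    intro w hw
    simp only [Finset.mem_biUnion, Finset.mem_image] at hw
    obtain ⟨x, -, t, ht, rfl⟩ := hw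
    exact (hG x.1).le (Submodule.subset_span ht))
  refine ⟨R₁, hR₁, fun J x hx hxJ => ?_⟩
  have : Algebra.FiniteType R₀ R₁ := (Subalgebra.fg_iff_finiteType R₁).1 hR₁
  have : IsNoetherianRing R₁ := Algebra.FiniteType.isNoetherianRing R₀ R₁
  by_contra hnot
  let c : Ideal (MvPolynomial (Fin n) (R₁)) := ((J.map C : Ideal (MvPolynomial (Fin n) (R₁))) • KK K₀ R₁).comap (LinearMap.toSpanSingleton (MvPolynomial (Fin n) (R₁)) _ x)
  have hc : c ≠ ⊤ := fun htop => hnot (by
    have h1 : (1 : (MvPolynomial (Fin n) (R₁))) ∈ c := htop ▸ Submodule.mem_top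
    simpa [c, LinearMap.toSpanSingleton_apply] using h1)
  obtain ⟨P, hP, hle⟩ := Ideal.exists_le_maximal c hc
  obtain ⟨⟨p, f⟩, hpf, hpP, hfP⟩ :=
    hcover (P.comap ((C : R₁ →+* (MvPolynomial (Fin n) (R₁))).comp (algebraMap R₀ R₁))) (Ideal.IsPrime.comap _) bot_le
  have hT : ∀ t ∈ K₀, t ∈ CJ a n p → mapV (algebraMap R₀ R₁) t ∈
      (((p.map (algebraMap R₀ R₁)).map C : Ideal (MvPolynomial (Fin n) (R₁)))) • KK K₀ R₁ := by
    intro t ht htp
    have hmem : t ∈ Submodule.span (MvPolynomial (Fin n) (R₀)) (G p : Set (V a n R₀)) := (hG p).ge ⟨ht, htp⟩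
    refine Submodule.span_le.2 ?_ (mapV_mem_span (algebraMap R₀ R₁) hmem)
    rintro _ ⟨t, ht, rfl⟩
    exact hW (p, t) (Finset.mem_biUnion.2 ⟨(p, f), hpf, Finset.mem_image_of_mem _ ht⟩)
  obtain ⟨s, hs, hsx⟩ := exists_smul_mem K₀ (hS _ hpf) 1 (fun t ht htp => by rw [one_smul]; exact hT t ht htp) J hx hxJ P hpP hfP ((Ideal.ne_top_iff_one P).1 hP.ne_top)
  exact hs (hle hsx)

/-- `FlatC` is flatness of the quotient. -/
theorem flatC_iff_flat : FlatC K₀ R' ↔ Module.Flat R' (V a n R' ⧸ KK K₀ R') := by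
  let q : V a n R' →ₗ[R'] V a n R' ⧸ KK K₀ R' := (KK K₀ R').mkQ.restrictScalars R'
  let i : (KK K₀ R').restrictScalars R' →ₗ[R'] V a n R' := ((KK K₀ R').restrictScalars R').subtype
  have hex : Function.Exact i q := fun y => by
    simp [i, q, Submodule.Quotient.mk_eq_zero]
  have hq : Function.Surjective q := (KK K₀ R').mkQ_surjective
  let ev : ∀ (J : Ideal R'), J ⊗[R'] V a n R' →ₗ[R'] V a n R' := fun J =>
    (TensorProduct.lid R' (V a n R')).toLinearMap ∘ₗ J.subtype.rTensor _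
  have hev : ∀ (J : Ideal R') (y : J ⊗[R'] V a n R'), TensorProduct.lid R' _ (J.subtype.rTensor _ (q.lTensor J y)) = q (ev J y) := by
    intro J y
    induction y using TensorProduct.induction_on with
    | zero => simp
    | tmul j v => simp [ev]
    | add y z hy hz => simp only [map_add, hy, hz]
  constructor
  · intro h
    rw [Module.Flat.iff_rTensor_injective]
    intro J _
    rw [injective_iff_map_eq_zero]
    intro y hy
    obtain ⟨y, rfl⟩ := LinearMap.lTensor_surjective J hq y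
    have hxK : ev J y ∈ KK K₀ R' := (Submodule.Quotient.mk_eq_zero _).1 (by
      show q (ev J y) = 0
      rw [← hev, hy, map_zero])
    have hxJ : ev J y ∈ CJ a n J := by
      clear hy hxK
      induction y using TensorProduct.induction_on with
      | zero => simp
      | tmul j v =>
        simp only [ev, LinearMap.comp_apply, LinearMap.rTensor_tmul, LinearEquiv.coe_coe, TensorProduct.lid_tmul, Submodule.subtype_apply]
        exact mem_CJ.2 fun l => by
          rw [← C_smul]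
          exact Ideal.mul_mem_right (v l) _ (Ideal.mem_map_of_mem _ j.2)
      | add y z hy hz => rw [map_add]; exact add_mem hy hz
    obtain ⟨y', hy'⟩ : ∃ y', ev J (i.lTensor J y') = ev J y := by
      have hx := smul_KK_le_closure K₀ J (h J _ hxK hxJ)
      generalize ev J y = x at hx ⊢
      induction hx using AddSubmonoid.closure_induction with
      | mem x hx =>
        obtain ⟨r, hr, w, hw, rfl⟩ := hx
        exact ⟨(⟨r, hr⟩ : J) ⊗ₜ (⟨mapL R' w, mapL_mem_KK K₀ hw⟩ : (KK K₀ R').restrictScalars R'), by simp [ev, i]⟩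
      | zero => exact ⟨0, by simp⟩
      | add x x' _ _ hx hx' =>
        obtain ⟨y₁, rfl⟩ := hx; obtain ⟨y₂, rfl⟩ := hx'
        exact ⟨y₁ + y₂, by simp⟩
    have hinj : Function.Injective (ev J) :=
      (TensorProduct.lid R' (V a n R')).injective.comp
        (Module.Flat.rTensor_preserves_injective_linearMap (M := V a n R') J.subtype Subtype.val_injective)
    exact (lTensor_exact J hex hq y).2 ⟨y', hinj hy'⟩
  · intro hflat J x hx hxJ
    let y : J ⊗[R'] V a n R' := ∑ e ∈ ((B a n R').repr x).support,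
      (⟨(B a n R').repr x e, repr_mem hxJ e⟩ : J) ⊗ₜ B a n R' e
    have hxy : ev J y = x := by
      conv_rhs => rw [← (B a n R').linearCombination_repr x, Finsupp.linearCombination_apply, Finsupp.sum]
      simp [ev, y, map_sum]
    have h0 : q.lTensor J y = 0 := by
      apply Module.Flat.rTensor_preserves_injective_linearMap (M := V a n R' ⧸ KK K₀ R') J.subtype Subtype.val_injective
      apply (TensorProduct.lid R' _).injective
      rw [hev, hxy, map_zero, map_zero]
      exact (Submodule.Quotient.mk_eq_zero _).2 hx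
    obtain ⟨y', hy'⟩ := (lTensor_exact J hex hq y).1 h0
    rw [← hxy, ← hy']
    clear hy' hxy h0
    induction y' using TensorProduct.induction_on with
    | zero => simp
    | tmul j v =>
      simp only [ev, i, LinearMap.comp_apply, LinearMap.lTensor_tmul, LinearMap.rTensor_tmul, LinearEquiv.coe_coe,
        TensorProduct.lid_tmul, Submodule.subtype_apply]
      rw [← C_smul]
      exact Submodule.smul_mem_smul (Ideal.mem_map_of_mem _ j.2) v.2
    | add y z hy hz => simp only [map_add]; exact add_mem hy hz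

end Groth.Agent.FlatModel
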