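import Groth.Agent.FlatModel.Core

/-!
Flatness at a prime, and openness of the flat locus of a finitely presented module over a finitely
presented algebra (over any ring), by descent to finitely generated subrings.
-/

namespace Groth.Agent.FlatModel

open MvPolynomial TensorProduct

universe u v w

/-- Flatness of a localisation, on elements of `M ⊗ J`. -/
theorem flat_localized_iff {R : Type u} [CommRing R] {S : Type v} [CommRing S] [Algebra R S]
    (W : Submonoid S) {M : Type w} [AddCommGroup M] [Module R M] [Module S M] [IsScalarTower R S M]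
    {N : Type w} [AddCommGroup N] [Module R N] [Module S N] [IsScalarTower R S N]
    (f : M →ₗ[S] N) [IsLocalizedModule W f] :
    Module.Flat R N ↔ ∀ J : Ideal R, ∀ y : M ⊗[R] J, J.subtype.lTensor M y = 0 → ∃ s ∈ W, s • y = 0 := by
  rw [Module.Flat.iff_lTensor_injective']
  refine forall_congr' fun J => ?_
  let φ : M ⊗[R] J →ₗ[S] N ⊗[R] J := AlgebraTensorModule.rTensor R J f
  let ψ : M ⊗[R] R →ₗ[S] N ⊗[R] R := AlgebraTensorModule.rTensor R R f
  have hcomm : ∀ y, J.subtype.lTensor N (φ y) = ψ (J.subtype.lTensor M y) := by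
    intro y
    induction y using TensorProduct.induction_on with
    | zero => simp
    | tmul m j => simp [φ, ψ]
    | add y z hy hz => simp only [map_add, hy, hz]
  constructor
  · intro h y hy
    obtain ⟨s, hs⟩ := (IsLocalizedModule.eq_zero_iff W φ).1 (h (show J.subtype.lTensor N (φ y) = J.subtype.lTensor N 0 by
      rw [hcomm, hy, map_zero, map_zero]))
    exact ⟨s, s.2, hs⟩
  · intro h
    rw [injective_iff_map_eq_zero]
    intro z hz
    obtain ⟨⟨y, s⟩, hys⟩ := IsLocalizedModule.surj W φ z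
    have hsmul : J.subtype.lTensor N ((s : S) • z) = (s : S) • J.subtype.lTensor N z :=
      (AlgebraTensorModule.lTensor S N J.subtype).map_smul _ _
    have h1 : ψ (J.subtype.lTensor M y) = 0 := by
      rw [← hcomm, ← hys, Submonoid.smul_def, hsmul, hz, smul_zero]
    obtain ⟨t, ht⟩ := (IsLocalizedModule.eq_zero_iff W ψ).1 h1
    have h2 : J.subtype.lTensor M ((t : S) • y) = 0 := by
      rw [show J.subtype.lTensor M ((t : S) • y) = (t : S) • J.subtype.lTensor M y from
        (AlgebraTensorModule.lTensor S M J.subtype).map_smul _ _]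
      exact ht
    obtain ⟨r, hr, hry⟩ := h ((t : S) • y) h2
    have h3 : (r * t * s : S) • z = 0 := by
      rw [mul_smul, ← Submonoid.smul_def, hys, ← map_smul, mul_smul, hry, map_zero]
    have hu : IsUnit (algebraMap S (Module.End S (N ⊗[R] J)) ((⟨r, hr⟩ : W) * t * s : W)) :=
      IsLocalizedModule.map_units φ _
    exact ((Module.End.isUnit_iff _).1 hu).1 (h3.trans (map_zero _).symm)

section vec

variable {a n : ℕ} {R₀ : Type u} [CommRing R₀] (K₀ : Submodule (MvPolynomial (Fin n) R₀) (V a n R₀))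

/-- The relations cut out a module whose localisation at `W` is flat. -/
def PtFlat (R' : Type u) [CommRing R'] [Algebra R₀ R'] (W : Submonoid (MvPolynomial (Fin n) R')) : Prop :=
  ∀ J : Ideal R', ∀ x ∈ KK K₀ R', x ∈ CJ a n J →
    ∃ s ∈ W, s • x ∈ (J.map C : Ideal (MvPolynomial (Fin n) R')) • KK K₀ R'

theorem PtFlat.mono {R' : Type u} [CommRing R'] [Algebra R₀ R'] {W W' : Submonoid (MvPolynomial (Fin n) R')}
    (h : PtFlat K₀ R' W) (hW : W ≤ W') : PtFlat K₀ R' W' :=
  fun J x hx hxJ => let ⟨s, hs, hsx⟩ := h J x hx hxJ; ⟨s, hW hs, hsx⟩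

/-- `PtFlat` in terms of a module presented by the relations. -/
theorem ptFlat_iff {R' : Type u} [CommRing R'] [Algebra R₀ R'] (W : Submonoid (MvPolynomial (Fin n) R'))
    {M : Type u} [AddCommGroup M] [Module R' M] [Module (MvPolynomial (Fin n) R') M]
    [IsScalarTower R' (MvPolynomial (Fin n) R') M]
    (π : V a n R' →ₗ[MvPolynomial (Fin n) R'] M) (hπ : Function.Surjective π) (hker : LinearMap.ker π = KK K₀ R') :
    PtFlat K₀ R' W ↔ ∀ J : Ideal R', ∀ y : M ⊗[R'] J, J.subtype.lTensor M y = 0 → ∃ s ∈ W, s • y = 0 := by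
  let q : V a n R' →ₗ[R'] M := π.restrictScalars R'
  let i : (KK K₀ R').restrictScalars R' →ₗ[R'] V a n R' := ((KK K₀ R').restrictScalars R').subtype
  have hex : Function.Exact i q := fun y => by
    rw [show q y = π y from rfl, ← LinearMap.mem_ker, hker]
    simp [i]
  have hq : Function.Surjective q := hπ
  let ev : ∀ J : Ideal R', V a n R' ⊗[R'] J →ₗ[R'] V a n R' := fun J =>
    (TensorProduct.rid R' (V a n R')).toLinearMap ∘ₗ J.subtype.lTensor _
  have hev : ∀ (J : Ideal R') (y : V a n R' ⊗[R'] J),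
      TensorProduct.rid R' _ (J.subtype.lTensor _ (q.rTensor J y)) = q (ev J y) := by
    intro J y
    induction y using TensorProduct.induction_on with
    | zero => simp
    | tmul v j => simp [ev]
    | add y z hy hz => simp only [map_add, hy, hz]
  have hsmul : ∀ (J : Ideal R') (s : MvPolynomial (Fin n) R') (y : V a n R' ⊗[R'] J),
      q.rTensor J (s • y) = s • q.rTensor J y := fun J s y =>
    (AlgebraTensorModule.rTensor R' J π).map_smul s y
  have hsev : ∀ (J : Ideal R') (s : MvPolynomial (Fin n) R') (y : V a n R' ⊗[R'] J),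
      ev J (s • y) = s • ev J y := by
    intro J s y
    induction y using TensorProduct.induction_on with
    | zero => simp
    | tmul v j => rw [smul_tmul']; simp [ev, smul_comm s]
    | add y z hy hz => simp only [map_add, smul_add, hy, hz]
  have hinj : ∀ J : Ideal R', Function.Injective (ev J) := fun J =>
    (TensorProduct.rid R' (V a n R')).injective.comp
      (Module.Flat.lTensor_preserves_injective_linearMap (M := V a n R') J.subtype Subtype.val_injective)
  have hsurjJK : ∀ (J : Ideal R') (x : V a n R'), x ∈ (J.map C : Ideal (MvPolynomial (Fin n) R')) • KK K₀ R' →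
      ∃ y', ev J (i.rTensor J y') = x := by
    intro J x hx
    have hx' := smul_KK_le_closure K₀ J hx
    clear hx
    induction hx' using AddSubmonoid.closure_induction with
    | mem x hx =>
      obtain ⟨r, hr, w, hw, rfl⟩ := hx
      exact ⟨(⟨mapL R' w, mapL_mem_KK K₀ hw⟩ : (KK K₀ R').restrictScalars R') ⊗ₜ (⟨r, hr⟩ : J), by simp [ev, i]⟩
    | zero => exact ⟨0, by simp⟩
    | add x x' _ _ hx hx' =>
      obtain ⟨y₁, rfl⟩ := hx; obtain ⟨y₂, rfl⟩ := hx'
      exact ⟨y₁ + y₂, by simp⟩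
  constructor
  · intro h J y hy
    obtain ⟨y, rfl⟩ := LinearMap.rTensor_surjective J hq y
    have hxK : ev J y ∈ KK K₀ R' := by
      rw [← hker, LinearMap.mem_ker]
      show q (ev J y) = 0
      rw [← hev, hy, map_zero]
    have hxJ : ev J y ∈ CJ a n J := by
      clear hy hxK
      induction y using TensorProduct.induction_on with
      | zero => simp
      | tmul v j =>
        simp only [ev, LinearMap.comp_apply, LinearMap.lTensor_tmul, LinearEquiv.coe_coe, TensorProduct.rid_tmul, Submodule.subtype_apply]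
        exact mem_CJ.2 fun l => by
          rw [← C_smul]
          exact Ideal.mul_mem_right (v l) _ (Ideal.mem_map_of_mem _ j.2)
      | add y z hy hz => rw [map_add]; exact add_mem hy hz
    obtain ⟨s, hs, hsx⟩ := h J _ hxK hxJ
    obtain ⟨y', hy'⟩ := hsurjJK J _ hsx
    rw [← hsev] at hy'
    refine ⟨s, hs, ?_⟩
    rw [← hsmul, ← hinj J hy']
    exact (rTensor_exact J hex hq _).2 ⟨y', rfl⟩
  · intro h J x hx hxJ
    let y : V a n R' ⊗[R'] J := ∑ e ∈ ((B a n R').repr x).support,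
      B a n R' e ⊗ₜ (⟨(B a n R').repr x e, repr_mem hxJ e⟩ : J)
    have hxy : ev J y = x := by
      conv_rhs => rw [← (B a n R').linearCombination_repr x, Finsupp.linearCombination_apply, Finsupp.sum]
      simp [ev, y, map_sum]
    have h0 : J.subtype.lTensor M (q.rTensor J y) = 0 := by
      apply (TensorProduct.rid R' M).injective
      rw [hev, hxy, map_zero]
      show π x = 0
      rwa [← LinearMap.mem_ker, hker]
    obtain ⟨s, hs, hsy⟩ := h J _ h0
    refine ⟨s, hs, ?_⟩
    rw [← hsmul] at hsy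
    obtain ⟨y', hy'⟩ := (rTensor_exact J hex hq _).1 hsy
    rw [← hxy, ← hsev, ← hy']
    clear hy' hsy h0 hxy
    induction y' using TensorProduct.induction_on with
    | zero => simp
    | tmul v j =>
      simp only [ev, i, LinearMap.comp_apply, LinearMap.rTensor_tmul, LinearMap.lTensor_tmul, LinearEquiv.coe_coe,
        TensorProduct.rid_tmul, Submodule.subtype_apply]
      rw [← C_smul]
      exact Submodule.smul_mem_smul (Ideal.mem_map_of_mem _ j.2) v.2
    | add y z hy hz => simp only [map_add]; exact add_mem hy hz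

/-- Flatness at a prime spreads to a basic open set, over any base. -/
theorem exists_ptFlat_powers [IsNoetherianRing R₀] {R : Type u} [CommRing R] [Algebra R₀ R]
    (Q : Ideal (MvPolynomial (Fin n) R)) [Q.IsPrime] (h : PtFlat K₀ R Q.primeCompl) :
    ∃ g ∉ Q, PtFlat K₀ R (Submonoid.powers g) := by
  classical
  obtain ⟨S, hS, hcover⟩ := exists_cover K₀ ⊥
  choose G hG using fun p : Ideal R₀ => (IsNoetherian.noetherian (K₀ ⊓ CJ a n p) : (K₀ ⊓ CJ a n p).FG)
  let T : Ideal R₀ → (R₁ : Subalgebra R₀ R) → MvPolynomial (Fin n) R₁ → Set (V a n R₀) := fun p R₁ g =>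
    {t | g • mapV (algebraMap R₀ R₁) t ∈
      ((((p.map (algebraMap R₀ R₁)).map C : Ideal (MvPolynomial (Fin n) R₁))) • KK K₀ R₁)}
  have hmono : ∀ p (R₁ R₂ : Subalgebra R₀ R) (hle : R₁ ≤ R₂) (g : MvPolynomial (Fin n) R₁)
      (g' : MvPolynomial (Fin n) R₂), T p R₁ g ⊆ T p R₂ (g' * MvPolynomial.map (Subalgebra.inclusion hle).toRingHom g) := by
    intro p R₁ R₂ hle g g' t ht
    simp only [T, Set.mem_setOf_eq, map_smul_KK_eq_span] at ht ⊢
    have := span_mono_subalgebra hle ht
    rw [mapV_smul, mapV_algebraMap] at this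
    rw [mul_smul]
    exact Submodule.smul_mem _ _ this
  have hone : ∀ p, ∀ t ∈ K₀, t ∈ CJ a n p → ∃ R₁ : Subalgebra R₀ R, R₁.FG ∧ ∃ g : MvPolynomial (Fin n) R₁,
      MvPolynomial.map R₁.val.toRingHom g ∉ Q ∧ t ∈ T p R₁ g := by
    intro p t ht htp
    have h1 : mapV (algebraMap R₀ R) t ∈ CJ a n (p.map (algebraMap R₀ R)) := mem_CJ.2 fun i =>
      MvPolynomial.mem_map_C_iff.2 fun d => by
        rw [mapV_apply, MvPolynomial.coeff_map]
        exact Ideal.mem_map_of_mem _ (MvPolynomial.mem_map_C_iff.1 (mem_CJ.1 htp i) d)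
    obtain ⟨s, hs, h2⟩ := h _ _ (mapL_mem_KK K₀ ht) h1
    rw [map_smul_KK_eq_span] at h2
    obtain ⟨R₁, hR₁, x₁, hx₁, hx₁t⟩ := exists_fg_span_descent h2
    let R₂ := R₁ ⊔ Algebra.adjoin R₀ (s.coeffs : Set R)
    obtain ⟨g, hg⟩ : s ∈ Set.range (MvPolynomial.map R₂.val.toRingHom) :=
      MvPolynomial.mem_range_map_iff_coeffs_subset.2 fun c hc =>
        ⟨⟨c, (le_sup_right : _ ≤ R₂) (Algebra.subset_adjoin hc)⟩, rfl⟩
    refine ⟨R₂, hR₁.sup (Subalgebra.fg_adjoin_finset _), g, hg.symm ▸ hs, ?_⟩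
    have hx₂ := span_mono_subalgebra (le_sup_left : R₁ ≤ R₂) hx₁
    have : mapV (Subalgebra.inclusion le_sup_left).toRingHom x₁ = g • mapV (algebraMap R₀ R₂) t :=
      mapV_injective (g := R₂.val.toRingHom) Subtype.val_injective (by
        rw [mapV_val_inclusion, hx₁t, mapV_smul, hg, mapV_algebraMap]
        rfl)
    simp only [T, Set.mem_setOf_eq, map_smul_KK_eq_span]
    exact this ▸ hx₂
  have hfin : ∀ W : Finset (Ideal R₀ × V a n R₀), (∀ w ∈ W, w.2 ∈ K₀ ⊓ CJ a n w.1) →
      ∃ R₁ : Subalgebra R₀ R, R₁.FG ∧ ∃ g : MvPolynomial (Fin n) R₁,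
        MvPolynomial.map R₁.val.toRingHom g ∉ Q ∧ ∀ w ∈ W, w.2 ∈ T w.1 R₁ g := by
    intro W
    induction W using Finset.induction with
    | empty =>
      exact fun _ => ⟨⊥, Subalgebra.fg_bot, 1, by
        rw [map_one]; exact (Ideal.ne_top_iff_one Q).1 (Ideal.IsPrime.ne_top ‹_›), by simp⟩
    | insert w W _ ih =>
      intro hW
      obtain ⟨R₁, h₁, g₁, hg₁, h₁'⟩ := ih fun z hz => hW z (Finset.mem_insert_of_mem hz)
      obtain ⟨R₂, h₂, g₂, hg₂, h₂'⟩ := hone w.1 w.2 (hW w (Finset.mem_insert_self _ _)).1 (hW w (Finset.mem_insert_self _ _)).2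
      let i₁ := MvPolynomial.map (σ := Fin n) (Subalgebra.inclusion (le_sup_left : R₁ ≤ R₁ ⊔ R₂)).toRingHom
      let i₂ := MvPolynomial.map (σ := Fin n) (Subalgebra.inclusion (le_sup_right : R₂ ≤ R₁ ⊔ R₂)).toRingHom
      refine ⟨R₁ ⊔ R₂, h₁.sup h₂, i₁ g₁ * i₂ g₂, ?_, fun z hz => ?_⟩
      · rw [map_mul]
        refine Ideal.IsPrime.mul_notMem ‹_› ?_ ?_
        · simp only [i₁, MvPolynomial.map_map]; exact hg₁
        · simp only [i₂, MvPolynomial.map_map]; exact hg₂
      rcases Finset.mem_insert.1 hz with rfl | hz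
      · exact hmono _ _ _ le_sup_right g₂ (i₁ g₁) h₂'
      · rw [mul_comm]
        exact hmono _ _ _ le_sup_left g₁ (i₂ g₂) (h₁' z hz)
  obtain ⟨R₁, hR₁, g₁, hg₁, hW⟩ := hfin (S.biUnion fun x => (G x.1).image fun t => (x.1, t)) (by
    intro w hw
    simp only [Finset.mem_biUnion, Finset.mem_image] at hw
    obtain ⟨x, -, t, ht, rfl⟩ := hw
    exact (hG x.1).le (Submodule.subset_span ht))
  refine ⟨_, hg₁, fun J x hx hxJ => ?_⟩
  obtain ⟨R₂, hR₂, x₂, hx₂, hx₂x⟩ := exists_fg_span_descent hx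
  let R₃ := R₁ ⊔ R₂
  let i₁ := Subalgebra.inclusion (le_sup_left : R₁ ≤ R₃)
  let g := MvPolynomial.map i₁.toRingHom g₁
  let x₃ := mapV (Subalgebra.inclusion (le_sup_right : R₂ ≤ R₃)).toRingHom x₂
  have hx₃ : x₃ ∈ KK K₀ R₃ := span_mono_subalgebra le_sup_right hx₂
  have hx₃x : mapV R₃.val.toRingHom x₃ = x := by rw [mapV_val_inclusion, hx₂x]
  let J₃ : Ideal R₃ := J.comap R₃.val.toRingHom
  have hx₃J : x₃ ∈ CJ a n J₃ := mem_CJ.2 fun i => MvPolynomial.mem_map_C_iff.2 fun d => by
    have := MvPolynomial.mem_map_C_iff.1 (mem_CJ.1 hxJ i) d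
    rw [← hx₃x, mapV_apply, MvPolynomial.coeff_map] at this
    exact this
  have : Algebra.FiniteType R₀ R₃ := (Subalgebra.fg_iff_finiteType R₃).1 (hR₁.sup hR₂)
  have : IsNoetherianRing R₃ := Algebra.FiniteType.isNoetherianRing R₀ R₃
  let c : Ideal (MvPolynomial (Fin n) R₃) :=
    ((J₃.map C : Ideal (MvPolynomial (Fin n) R₃)) • KK K₀ R₃).comap (LinearMap.toSpanSingleton _ _ x₃)
  have hgc : g ∈ c.radical := by
    rw [Ideal.radical_eq_sInf, Ideal.mem_sInf]
    rintro P ⟨hcP, hP⟩
    by_contra hgP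
    obtain ⟨⟨p, f⟩, hpf, hpP, hfP⟩ :=
      hcover (P.comap ((C : R₃ →+* MvPolynomial (Fin n) R₃).comp (algebraMap R₀ R₃))) (Ideal.IsPrime.comap _) bot_le
    have hT : ∀ t ∈ K₀, t ∈ CJ a n p → g • mapV (algebraMap R₀ R₃) t ∈
        (((p.map (algebraMap R₀ R₃)).map C : Ideal (MvPolynomial (Fin n) R₃))) • KK K₀ R₃ := by
      intro t ht htp
      have hmem : t ∈ Submodule.span (MvPolynomial (Fin n) R₀) (G p : Set (V a n R₀)) := (hG p).ge ⟨ht, htp⟩
      have hle : Submodule.span (MvPolynomial (Fin n) R₃) (mapV (algebraMap R₀ R₃) '' (G p : Set (V a n R₀))) ≤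
          (((p.map (algebraMap R₀ R₃)).map C : Ideal (MvPolynomial (Fin n) R₃)) • KK K₀ R₃).comap
            (LinearMap.lsmul (MvPolynomial (Fin n) R₃) (V a n R₃) g) := by
        rw [Submodule.span_le]
        rintro _ ⟨t, ht, rfl⟩
        have h1 := hmono p R₁ R₃ le_sup_left g₁ 1 (hW (p, t) (Finset.mem_biUnion.2 ⟨(p, f), hpf, Finset.mem_image_of_mem _ ht⟩))
        rw [one_mul] at h1
        exact h1
      exact hle (mapV_mem_span (algebraMap R₀ R₃) hmem)
    obtain ⟨s, hs, hsx⟩ := exists_smul_mem K₀ (hS _ hpf) g hT J₃ hx₃ hx₃J P hpP hfP hgP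
    exact hs (hcP hsx)
  obtain ⟨m, hm⟩ := hgc
  refine ⟨_, ⟨m, rfl⟩, ?_⟩
  have hm' : g ^ m • x₃ ∈ (J₃.map C : Ideal (MvPolynomial (Fin n) R₃)) • KK K₀ R₃ := hm
  have hg : MvPolynomial.map R₃.val.toRingHom g = MvPolynomial.map R₁.val.toRingHom g₁ := by
    simp only [g, i₁, MvPolynomial.map_map]; rfl
  have := smul_KK_le_closure K₀ J₃ hm'
  show (MvPolynomial.map R₁.val.toRingHom g₁) ^ m • x ∈ _
  rw [← hx₃x, ← hg, ← map_pow, ← mapV_smul]
  clear hm hm'
  generalize g ^ m • x₃ = y at this ⊢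
  induction this using AddSubmonoid.closure_induction with
  | mem y hy =>
    obtain ⟨r, hr, w, hw, rfl⟩ := hy
    rw [← C_smul, mapV_smul, MvPolynomial.map_C]
    exact Submodule.smul_mem_smul (Ideal.mem_map_of_mem _ hr)
      (show mapV _ (mapV _ w) ∈ _ from (mapV_algebraMap R₃.val w).symm ▸ mapL_mem_KK K₀ hw)
  | zero => rw [mapV_zero]; exact zero_mem _
  | add y z _ _ hy hz => rw [mapV_add]; exact add_mem hy hz

end vec

end Groth.Agent.FlatModel
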