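import Groth.Agent.FlatModel.Open
import Groth.Agent.FlatLoc6.Regular

/-!
Cutting a flat algebra of finite type down to a flat quasi-finite one through a given prime of the base.
-/

namespace Groth.Agent.FlatModel

open IsLocalRing

universe u

variable {R T : Type u} [CommRing R] [CommRing T] [Algebra R T]

/-- `W`-saturation of `I + pT`. -/
def sat (p : Ideal R) (I : Ideal T) (W : Submonoid T) : Ideal T where
  carrier := {t | ∃ w ∈ W, w * t ∈ I ⊔ p.map (algebraMap R T)}
  zero_mem' := ⟨1, one_mem _, by simp⟩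
  add_mem' := by
    rintro x y ⟨a, ha, hax⟩ ⟨b, hb, hby⟩
    refine ⟨a * b, mul_mem ha hb, ?_⟩
    rw [show a * b * (x + y) = b * (a * x) + a * (b * y) by ring]
    exact add_mem (Ideal.mul_mem_left _ _ hax) (Ideal.mul_mem_left _ _ hby)
  smul_mem' := by
    rintro c x ⟨a, ha, hax⟩
    exact ⟨a, ha, by rw [smul_eq_mul, mul_left_comm]; exact Ideal.mul_mem_left _ _ hax⟩

theorem le_sat (p : Ideal R) (I : Ideal T) (W : Submonoid T) : I ⊔ p.map (algebraMap R T) ≤ sat p I W :=
  fun x hx => ⟨1, one_mem _, by rwa [one_mul]⟩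

/-- Dividing by an element regular on the fibre keeps flatness at a prime. -/
theorem flat_slice [IsNoetherianRing R] [IsNoetherianRing T] (p : Ideal R) [p.IsPrime] (Q : Ideal T)
    [Q.IsPrime] [Q.LiesOver p] (I : Ideal T) (W : Submonoid T) (hWQ : W ≤ Q.primeCompl) (f : T) (hfQ : f ∈ Q)
    (hflat : Module.Flat R (LocalizedModule Q.primeCompl (T ⧸ I)))
    (hreg : ∀ t, f * t ∈ sat p I Q.primeCompl → t ∈ sat p I Q.primeCompl) :
    Module.Flat R (LocalizedModule Q.primeCompl (T ⧸ (I ⊔ Ideal.span {f}))) := by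
  classical
  let A := Localization.AtPrime p
  let B := Localization.AtPrime Q
  let := Localization.AtPrime.algebraOfLiesOver p Q
  have : IsLocalHom (algebraMap A B) := Localization.isLocalHom_localRingHom p Q (algebraMap R T) Ideal.LiesOver.over
  let N := LocalizedModule Q.primeCompl (T ⧸ I)
  let N' := LocalizedModule Q.primeCompl (T ⧸ (I ⊔ Ideal.span {f}))
  let := Module.compHom N (algebraMap A B)
  let := Module.compHom N' (algebraMap A B)
  have : IsScalarTower A B N := IsScalarTower.of_algebraMap_smul fun _ _ => rfl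
  have : IsScalarTower A B N' := IsScalarTower.of_algebraMap_smul fun _ _ => rfl
  have : IsScalarTower R A N := IsScalarTower.of_algebraMap_smul fun r x => by
    show algebraMap A B (algebraMap R A r) • x = r • x
    rw [← IsScalarTower.algebraMap_apply, algebraMap_smul]
  have : IsScalarTower R A N' := IsScalarTower.of_algebraMap_smul fun r x => by
    show algebraMap A B (algebraMap R A r) • x = r • x
    rw [← IsScalarTower.algebraMap_apply, algebraMap_smul]
  have hNflat : Module.Flat A N := (Module.flat_iff_of_isLocalization A p.primeCompl N).2 hflat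
  let mk : T ⧸ I →ₗ[T] N := LocalizedModule.mkLinearMap Q.primeCompl (T ⧸ I)
  let P := p.map (algebraMap R T)
  have hmA : (maximalIdeal A).map (algebraMap A B) = P.map (algebraMap T B) := by
    rw [← IsLocalization.AtPrime.map_eq_maximalIdeal p A, Ideal.map_map, Ideal.map_map,
      ← IsScalarTower.algebraMap_eq, ← IsScalarTower.algebraMap_eq]
  have hmem : ∀ n : N, n ∈ FlatLoc6.mN A B N ↔ ∃ u ∈ Q.primeCompl, ∃ t ∈ P, u • n = mk (Ideal.Quotient.mk I t) := by
    intro n
    rw [FlatLoc6.mN, hmA]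
    constructor
    · intro hn
      refine Submodule.smul_induction_on hn ?_ ?_
      · intro b hb x _
        obtain ⟨⟨⟨a, ha⟩, s⟩, hs⟩ := (IsLocalization.mem_map_algebraMap_iff Q.primeCompl B).1 hb
        obtain ⟨⟨m, s'⟩, hm⟩ := IsLocalizedModule.surj Q.primeCompl mk x
        obtain ⟨m, rfl⟩ := Ideal.Quotient.mk_surjective m
        refine ⟨(s : T) * s', mul_mem s.2 s'.2, a * m, Ideal.mul_mem_right _ _ ha, ?_⟩
        have e : (s : T) • b = algebraMap T B a := by
          rw [Algebra.smul_def, mul_comm]; exact hs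
        rw [mul_smul, smul_comm (s' : T) b x, ← Submonoid.smul_def s', hm, ← smul_assoc, e, algebraMap_smul, ← map_smul]
        rfl
      · intro x y hx hy
        obtain ⟨u, hu, t, ht, hux⟩ := hx; obtain ⟨u', hu', t', ht', huy⟩ := hy
        refine ⟨u * u', mul_mem hu hu', u' * t + u * t', add_mem (Ideal.mul_mem_left _ _ ht) (Ideal.mul_mem_left _ _ ht'), ?_⟩
        rw [smul_add, mul_smul, mul_smul, smul_comm u u', hux, huy, ← map_smul mk, ← map_smul mk, ← map_add mk]
        rfl
    · rintro ⟨u, hu, t, ht, hun⟩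
      have h1 : mk (Ideal.Quotient.mk I t) ∈ (P.map (algebraMap T B) • ⊤ : Submodule B N) := by
        rw [show Ideal.Quotient.mk I t = t • (1 : T ⧸ I) by rw [Algebra.smul_def, mul_one]; rfl, map_smul,
          ← algebraMap_smul B t]
        exact Submodule.smul_mem_smul (Ideal.mem_map_of_mem _ ht) Submodule.mem_top
      obtain ⟨ub, hub⟩ := IsLocalization.map_units B (⟨u, hu⟩ : Q.primeCompl)
      have h2 := Submodule.smul_mem _ (↑ub⁻¹ : B) (hun.symm ▸ h1 : u • n ∈ _)
      rwa [← algebraMap_smul B u n, ← hub, smul_smul, Units.inv_mul, one_smul] at h2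
  have hW : ∀ s ∈ W, s ∈ Q.primeCompl := hWQ
  have hregfib : FlatLoc6.RegFib A N (algebraMap T B f) := by
    intro n hn
    obtain ⟨u, hu, t, ht, hut⟩ := (hmem _).1 hn
    obtain ⟨⟨m, s⟩, hm⟩ := IsLocalizedModule.surj Q.primeCompl mk n
    obtain ⟨m, rfl⟩ := Ideal.Quotient.mk_surjective m
    have e : mk (Ideal.Quotient.mk I (u * f * m)) = mk (Ideal.Quotient.mk I ((s : T) * t)) := by
      have e1 : ∀ a b : T, Ideal.Quotient.mk I (a * b) = a • Ideal.Quotient.mk I b := fun a b => rfl
      rw [e1, e1, map_smul, map_smul, ← hm, ← hut, algebraMap_smul, Submonoid.smul_def, mul_smul,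
        smul_comm f (s : T), smul_comm u (s : T)]
    obtain ⟨c, hc⟩ := (IsLocalizedModule.eq_iff_exists Q.primeCompl mk).1 e
    have h1 : (c : T) * (u * f * m) ∈ I ⊔ P := by
      have h2 : (c : T) * (u * f * m) - (c : T) * ((s : T) * t) ∈ I :=
        Ideal.Quotient.eq.1 hc
      rw [← sub_add_cancel ((c : T) * (u * f * m)) ((c : T) * ((s : T) * t))]
      exact add_mem (Ideal.mem_sup_left h2) (Ideal.mem_sup_right (Ideal.mul_mem_left _ _ (Ideal.mul_mem_left _ _ ht)))
    have h2 : m ∈ sat p I Q.primeCompl := hreg m ⟨(c : T) * u, mul_mem c.2 hu, by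
      rw [show (c : T) * u * (f * m) = (c : T) * (u * f * m) by ring]; exact h1⟩
    obtain ⟨w, hw, hwm⟩ := h2
    obtain ⟨i, hi, t', ht', hit⟩ := Submodule.mem_sup.1 hwm
    refine (hmem n).2 ⟨w * s, mul_mem hw s.2, t', ht', ?_⟩
    rw [mul_smul, ← Submonoid.smul_def s, hm, ← map_smul]
    refine congrArg mk (Ideal.Quotient.eq.2 ?_)
    show w * m - t' ∈ I
    rw [← hit]
    simpa using hi
  let π : T ⧸ I →ₗ[T] T ⧸ (I ⊔ Ideal.span {f}) := Submodule.factor le_sup_left
  let qT : N →ₗ[T] N' := IsLocalizedModule.map Q.primeCompl mk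
    (LocalizedModule.mkLinearMap Q.primeCompl (T ⧸ (I ⊔ Ideal.span {f}))) π
  let q : N →ₗ[B] N' := qT.extendScalarsOfIsLocalization Q.primeCompl B
  have hπ : Function.Surjective π := Submodule.factor_surjective _
  have hq : Function.Surjective q := IsLocalizedModule.map_surjective _ _ _ _ hπ
  have hex : Function.Exact (LinearMap.lsmul T (T ⧸ I) f) π := by
    intro x
    obtain ⟨x, rfl⟩ := Ideal.Quotient.mk_surjective x
    rw [show π (Ideal.Quotient.mk I x) = Ideal.Quotient.mk (I ⊔ Ideal.span {f}) x from rfl, Ideal.Quotient.eq_zero_iff_mem]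
    constructor
    · intro hx
      obtain ⟨i, hi, y, hy, rfl⟩ := Submodule.mem_sup.1 hx
      obtain ⟨c, rfl⟩ := Ideal.mem_span_singleton'.1 hy
      refine ⟨Ideal.Quotient.mk I c, Ideal.Quotient.eq.2 ?_⟩
      show f * c - (i + c * f) ∈ I
      rw [show f * c - (i + c * f) = -i by ring]
      exact neg_mem hi
    · rintro ⟨y, hy⟩
      obtain ⟨y, rfl⟩ := Ideal.Quotient.mk_surjective y
      have h1 : f * y - x ∈ I := Ideal.Quotient.eq.1 hy
      rw [show x = -(f * y - x) + f * y by ring]
      exact add_mem (Ideal.mem_sup_left (neg_mem h1)) (Ideal.mem_sup_right (Ideal.mul_mem_right _ _ (Ideal.mem_span_singleton_self f)))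
  have hker : ∀ n, q n = 0 ↔ ∃ k, algebraMap T B f • k = n := by
    intro n
    have hmap : ∀ k, IsLocalizedModule.map Q.primeCompl mk mk (LinearMap.lsmul T (T ⧸ I) f) k = algebraMap T B f • k := by
      intro k
      obtain ⟨⟨x, s⟩, rfl⟩ := IsLocalizedModule.mk'_surjective Q.primeCompl mk k
      rw [Function.uncurry_apply_pair, IsLocalizedModule.map_mk', algebraMap_smul]
      exact IsLocalizedModule.mk'_smul mk f x s
    have := IsLocalizedModule.map_exact Q.primeCompl mk mk
      (LocalizedModule.mkLinearMap Q.primeCompl (T ⧸ (I ⊔ Ideal.span {f}))) _ _ hex n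
    constructor
    · intro hn
      obtain ⟨k, hk⟩ := this.1 hn
      exact ⟨k, (hmap k).symm.trans hk⟩
    · rintro ⟨k, hk⟩
      exact this.2 ⟨k, (hmap k).trans hk⟩
  have : Module.Finite B N := Module.Finite.of_isLocalizedModule Q.primeCompl mk
  have := FlatLoc6.flat_of_cokernel hregfib N' q hq hker
  exact (Module.flat_iff_of_isLocalization A p.primeCompl N').1 this

/-- A flat algebra of finite type is quasi-finite near a finite fibre. -/
theorem exists_quasiFinite_away [Algebra.FiniteType R T] [Module.Flat R T] (p : Ideal R) [hp : p.IsPrime]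
    (hfin : (PrimeSpectrum.comap (algebraMap R T) ⁻¹' {(⟨p, hp⟩ : PrimeSpectrum R)}).Finite)
    (x : PrimeSpectrum T) (hx : PrimeSpectrum.comap (algebraMap R T) x = ⟨p, hp⟩) :
    ∃ (T' : Type u) (_ : CommRing T') (_ : Algebra R T'), Nonempty (T →ₐ[R] T') ∧ Algebra.FiniteType R T' ∧
      Algebra.QuasiFinite R T' ∧ Module.Flat R T' ∧ ∃ q' : Ideal T', q'.IsPrime ∧ q'.LiesOver p := by
  let pp : PrimeSpectrum R := ⟨p, hp⟩
  have : IsJacobsonRing (p.Fiber T) := isJacobsonRing_of_finiteType (A := p.ResidueField)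
  let X₁ : Set (PrimeSpectrum T) := PrimeSpectrum.comap (algebraMap R T) ⁻¹' {pp}
  have : Finite X₁ := hfin
  have : Finite (PrimeSpectrum (p.Fiber T)) := Finite.of_equiv _ (PrimeSpectrum.preimageEquivFiber R T pp)
  have : DiscreteTopology X₁ := DiscreteTopology.of_continuous_injective
    (PrimeSpectrum.preimageHomeomorphFiber R T pp).continuous (PrimeSpectrum.preimageHomeomorphFiber R T pp).injective
  have : Algebra.QuasiFiniteAt R x.asIdeal := by
    refine Algebra.QuasiFiniteAt.of_isOpen_singleton_fiber x ?_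
    have hd : DiscreteTopology ↑(PrimeSpectrum.comap (algebraMap R T) ⁻¹' {PrimeSpectrum.comap (algebraMap R T) x}) :=
      hx.symm ▸ ‹DiscreteTopology X₁›
    exact isOpen_discrete _
  obtain ⟨S', hS', r, hr, hbij⟩ := Algebra.QuasiFiniteAt.exists_fg_and_exists_notMem_and_awayMap_bijective x.asIdeal (R := R)
  have : Module.Finite R S' := ⟨(Submodule.fg_top _).mpr hS'⟩
  have : Algebra.QuasiFinite R (Localization.Away r) := .trans _ S' _
  have hcomm : ∀ c : R, Localization.awayMap S'.val.toRingHom r (algebraMap R (Localization.Away r) c) =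
      algebraMap R (Localization.Away (S'.val.toRingHom r)) c := fun c => by
    rw [IsScalarTower.algebraMap_apply R S' (Localization.Away r), IsScalarTower.algebraMap_apply R T (Localization.Away (S'.val.toRingHom r))]
    exact IsLocalization.map_eq _ _
  have : Algebra.QuasiFinite R (Localization.Away r.1) :=
    Algebra.QuasiFinite.of_surjective_algHom (S := Localization.Away r) (T := Localization.Away (S'.val.toRingHom r))
      ⟨Localization.awayMap S'.val.toRingHom r, hcomm⟩ hbij.2
  have : Algebra.FiniteType R (Localization.Away r.1) :=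
    Algebra.FiniteType.trans (S := T) inferInstance (IsLocalization.finiteType_of_monoid_fg (Submonoid.powers r.1) _)
  obtain ⟨y, hy⟩ : x ∈ Set.range (PrimeSpectrum.comap (algebraMap T (Localization.Away r.1))) := by
    rw [PrimeSpectrum.localization_away_comap_range (Localization.Away r.1) r.1]; exact hr
  refine ⟨Localization.Away r.1, inferInstance, inferInstance,
    ⟨IsScalarTower.toAlgHom R T (Localization.Away r.1)⟩, ‹_›, ‹_›,
    Module.Flat.trans R T (Localization.Away r.1), y.asIdeal, y.isPrime, ⟨?_⟩⟩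
  rw [← hy, ← PrimeSpectrum.comap_comp_apply, ← IsScalarTower.algebraMap_eq] at hx
  exact (congrArg PrimeSpectrum.asIdeal hx).symm

/-- A flat algebra of finite type can be cut to a flat quasi-finite one meeting a given fibre. -/
theorem exists_quasiFinite_slice [IsNoetherianRing R] [Algebra.FiniteType R T] [Module.Flat R T]
    (p : Ideal R) [p.IsPrime] (q : Ideal T) [q.IsPrime] [q.LiesOver p] :
    ∃ (T' : Type u) (_ : CommRing T') (_ : Algebra R T'), Nonempty (T →ₐ[R] T') ∧ Algebra.FiniteType R T' ∧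
      Algebra.QuasiFinite R T' ∧ Module.Flat R T' ∧ ∃ q' : Ideal T', q'.IsPrime ∧ q'.LiesOver p := by
  classical
  have : IsNoetherianRing T := Algebra.FiniteType.isNoetherianRing R T
  have : Algebra.FinitePresentation R T := Algebra.FinitePresentation.of_finiteType.1 ‹_›
  let 𝓘 : Set (Ideal T) := {I | ∃ Q : Ideal T, ∃ _ : Q.IsPrime, Q.LiesOver p ∧ I ≤ Q ∧
    Module.Flat R (LocalizedModule Q.primeCompl (T ⧸ I))}
  have hne : 𝓘.Nonempty := by
    refine ⟨⊥, q, ‹_›, ‹_›, bot_le, ?_⟩
    rw [flat_localized_iff q.primeCompl (LocalizedModule.mkLinearMap q.primeCompl _)]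
    have : Module.Flat R (T ⧸ (⊥ : Ideal T)) :=
      Module.Flat.of_linearEquiv ((Submodule.quotEquivOfEqBot (⊥ : Ideal T) rfl).restrictScalars R)
    intro J y hy
    refine ⟨1, one_mem _, ?_⟩
    rw [one_smul]
    exact Module.Flat.lTensor_preserves_injective_linearMap J.subtype Subtype.val_injective (hy.trans (map_zero _).symm)
  obtain ⟨I, ⟨Q, hQ, hQp, hIQ, hIflat⟩, hmax⟩ := set_has_maximal_iff_noetherian.2 inferInstance 𝓘 hne
  have : Module.FinitePresentation T (T ⧸ I) := Module.finitePresentation_of_finite T _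
  obtain ⟨g, hgQ, hgflat⟩ := exists_flat_nhd (T ⧸ I) Q hIflat
  let gb := Ideal.Quotient.mk I g
  let T₁ := Localization.Away gb
  have hT₁ : IsLocalization (Algebra.algebraMapSubmonoid (T ⧸ I) (Submonoid.powers g)) T₁ := by
    rw [show Algebra.algebraMapSubmonoid (T ⧸ I) (Submonoid.powers g) = Submonoid.powers gb from Submonoid.map_powers _ _]
    infer_instance
  have hT₁flat : Module.Flat R T₁ := by
    have h := (flat_localized_iff (Submonoid.powers g) (LocalizedModule.mkLinearMap (Submonoid.powers g) (T ⧸ I))).1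
      (hgflat _ (Submonoid.mem_powers g))
    exact (flat_localized_iff (Submonoid.powers g) (IsScalarTower.toAlgHom T (T ⧸ I) T₁).toLinearMap).2 h
  have : Algebra.FiniteType R T₁ :=
    Algebra.FiniteType.trans (S := T ⧸ I) inferInstance (IsLocalization.finiteType_of_monoid_fg (Submonoid.powers gb) T₁)
  let π : T →ₐ[R] T₁ := (IsScalarTower.toAlgHom R (T ⧸ I) T₁).comp (Ideal.Quotient.mkₐ R I)
  let pp : PrimeSpectrum R := ⟨p, ‹_›⟩
  let X₁ : Set (PrimeSpectrum T₁) := PrimeSpectrum.comap (algebraMap R T₁) ⁻¹' {pp}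
  let ι : PrimeSpectrum T₁ → PrimeSpectrum T := PrimeSpectrum.comap π.toRingHom
  have hιemb : Topology.IsEmbedding ι := by
    show Topology.IsEmbedding (PrimeSpectrum.comap ((algebraMap (T ⧸ I) T₁).comp (Ideal.Quotient.mk I)))
    rw [PrimeSpectrum.comap_comp]
    exact (PrimeSpectrum.isClosedEmbedding_comap_of_surjective _ _ Ideal.Quotient.mk_surjective).isEmbedding.comp
      (PrimeSpectrum.localization_comap_isEmbedding T₁ (Submonoid.powers gb))
  have hιp : ∀ x, PrimeSpectrum.comap (algebraMap R T) (ι x) = PrimeSpectrum.comap (algebraMap R T₁) x := fun x => by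
    simp only [ι, ← PrimeSpectrum.comap_comp_apply]
    rw [show π.toRingHom.comp (algebraMap R T) = algebraMap R T₁ from π.comp_algebraMap]
  let G : Set (PrimeSpectrum T) := {P | PrimeSpectrum.comap (algebraMap R T) P = pp ∧ I ≤ P.asIdeal ∧ g ∉ P.asIdeal}
  have hG : G = ι '' X₁ := by
    ext P
    constructor
    · rintro ⟨hPp, hIP, hgP⟩
      have hker : RingHom.ker (Ideal.Quotient.mk I) ≤ P.asIdeal := by rw [Ideal.mk_ker]; exact hIP
      let Pb : PrimeSpectrum (T ⧸ I) := ⟨P.asIdeal.map (Ideal.Quotient.mk I),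
        Ideal.map_isPrime_of_surjective Ideal.Quotient.mk_surjective hker⟩
      have hcm : (P.asIdeal.map (Ideal.Quotient.mk I)).comap (Ideal.Quotient.mk I) = P.asIdeal := by
        rw [Ideal.comap_map_of_surjective _ Ideal.Quotient.mk_surjective, ← RingHom.ker_eq_comap_bot]
        exact sup_eq_left.2 hker
      have hPb : Pb ∈ (PrimeSpectrum.basicOpen gb : Set (PrimeSpectrum (T ⧸ I))) := fun h =>
        hgP (Eq.le hcm (show g ∈ (P.asIdeal.map (Ideal.Quotient.mk I)).comap (Ideal.Quotient.mk I) from h))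
      rw [← PrimeSpectrum.localization_away_comap_range T₁ gb] at hPb
      obtain ⟨x, hx⟩ := hPb
      have hιx : ι x = P := by
        show PrimeSpectrum.comap ((algebraMap (T ⧸ I) T₁).comp (Ideal.Quotient.mk I)) x = P
        rw [PrimeSpectrum.comap_comp_apply, hx]
        exact PrimeSpectrum.ext hcm
      exact ⟨x, by rw [Set.mem_preimage, ← hιp, hιx, hPp]; rfl, hιx⟩
    · rintro ⟨x, hx, rfl⟩
      refine ⟨(hιp x).trans hx, fun t ht => ?_, fun h => ?_⟩
      · show algebraMap (T ⧸ I) T₁ (Ideal.Quotient.mk I t) ∈ x.asIdeal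
        rw [Ideal.Quotient.eq_zero_iff_mem.2 ht, map_zero]
        exact zero_mem _
      · exact x.isPrime.ne_top (Ideal.eq_top_of_isUnit_mem _ h
          (IsLocalization.map_units T₁ (⟨gb, Submonoid.mem_powers gb⟩ : Submonoid.powers gb)))
  by_cases hfin : X₁.Finite
  · have hQ₁ : (⟨Q, hQ⟩ : PrimeSpectrum T) ∈ G := ⟨PrimeSpectrum.ext hQp.over.symm, hIQ, hgQ⟩
    rw [hG] at hQ₁
    obtain ⟨x, hx, -⟩ := hQ₁
    obtain ⟨T', h1, h2, ⟨φ⟩, h⟩ := exists_quasiFinite_away (T := T₁) p hfin x hx
    exact ⟨T', h1, h2, ⟨φ.comp π⟩, h⟩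
  · exfalso
    let W : Submonoid T := p.primeCompl.map (algebraMap R T) ⊔ Submonoid.powers g
    have hWG : ∀ P ∈ G, W ≤ P.asIdeal.primeCompl := by
      intro P hP
      refine sup_le ?_ (Submonoid.powers_le.2 hP.2.2)
      rintro _ ⟨s, hs, rfl⟩ h
      exact hs ((congrArg PrimeSpectrum.asIdeal hP.1).le h)
    let M := T ⧸ sat p I W
    have hass : ∀ P ∈ associatedPrimes T M, ∃ P' ∈ G, P'.asIdeal = P := by
      intro P hP
      obtain ⟨hPp, z, hz⟩ := (isAssociatedPrime_iff (M := M)).1 hP
      obtain ⟨z, rfl⟩ := Ideal.Quotient.mk_surjective z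
      have hmem : ∀ t, t ∈ P ↔ t * z ∈ sat p I W := fun t => by
        rw [hz, Submodule.mem_colon_singleton, Submodule.mem_bot]
        exact Ideal.Quotient.eq_zero_iff_mem
      have hz0 : z ∉ sat p I W := fun h => hPp.ne_top ((Ideal.eq_top_iff_one _).2 ((hmem 1).2 (by rwa [one_mul])))
      have hWP : ∀ w ∈ W, w ∉ P := fun w hw hwP => by
        obtain ⟨w', hw', h⟩ := (hmem w).1 hwP
        exact hz0 ⟨w' * w, mul_mem hw' hw, by rwa [mul_assoc]⟩
      refine ⟨⟨P, hPp⟩, ⟨PrimeSpectrum.ext (le_antisymm (fun r hr => ?_) fun r hr => ?_), ?_, ?_⟩, rfl⟩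
      · by_contra hrp
        exact hWP _ (Submonoid.mem_sup_left ⟨r, hrp, rfl⟩) hr
      · exact (hmem _).2 (Ideal.mul_mem_right _ _ (le_sat p I W (Ideal.mem_sup_right (Ideal.mem_map_of_mem _ hr))))
      · exact fun t ht => (hmem _).2 (Ideal.mul_mem_right _ _ (le_sat p I W (Ideal.mem_sup_left ht)))
      · exact hWP g (Submonoid.mem_sup_right (Submonoid.mem_powers g))
    -- infinitely many closed points in the fibre
    let F := p.Fiber T₁
    have : IsJacobsonRing F := isJacobsonRing_of_finiteType (A := p.ResidueField)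
    let e := PrimeSpectrum.preimageOrderIsoFiber R T₁ pp
    have hcl : ¬ (closedPoints (PrimeSpectrum F)).Finite := fun h => hfin (by
      have := JacobsonSpace.discreteTopology h
      rw [closedPoints_eq_univ] at h
      have : Finite (PrimeSpectrum F) := Set.finite_univ_iff.1 h
      exact Set.finite_coe_iff.1 (Finite.of_equiv _ e.toEquiv.symm))
    let j : PrimeSpectrum F → PrimeSpectrum T := fun m => ι (e.symm m).1
    have hj : Function.Injective j := hιemb.injective.comp (Subtype.val_injective.comp e.symm.injective)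
    have hAfin : {P : PrimeSpectrum T | P.asIdeal ∈ associatedPrimes T M}.Finite :=
      (associatedPrimes.finite T M).preimage fun _ _ _ _ h => PrimeSpectrum.ext h
    obtain ⟨m, hm, hmA⟩ : ∃ m ∈ closedPoints (PrimeSpectrum F), (j m).asIdeal ∉ associatedPrimes T M := by
      by_contra hall
      push Not at hall
      exact hcl ((hAfin.preimage hj.injOn).subset fun m hm => hall m hm)
    have hjG : j m ∈ G := by rw [hG]; exact ⟨_, (e.symm m).2, rfl⟩
    have hjmax : ∀ P ∈ G, (j m).asIdeal ≤ P.asIdeal → j m = P := by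
      intro P hP hle
      rw [hG] at hP
      obtain ⟨y, hy, rfl⟩ := hP
      have h1 : (e.symm m).1 ≤ y := by
        rw [PrimeSpectrum.le_iff_specializes, ← hιemb.isInducing.specializes_iff, ← PrimeSpectrum.le_iff_specializes]
        exact hle
      have h2 : m ≤ e ⟨y, hy⟩ := by
        rw [← e.symm_apply_le]; exact h1
      have hmax' : m.asIdeal.IsMaximal := (PrimeSpectrum.isClosed_singleton_iff_isMaximal m).1 hm
      have h3 : m = e ⟨y, hy⟩ := PrimeSpectrum.ext (hmax'.eq_of_le (e ⟨y, hy⟩).isPrime.ne_top h2)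
      show ι (e.symm m).1 = ι y
      rw [h3, OrderIso.symm_apply_apply]
    obtain ⟨f, hf, hfA⟩ : ∃ f ∈ (j m).asIdeal, ∀ P ∈ associatedPrimes T M, f ∉ P := by
      by_contra hall
      push Not at hall
      have hsub : ((j m).asIdeal : Set T) ⊆ ⋃ P ∈ (↑(associatedPrimes.finite T M).toFinset : Set (Ideal T)), (P : Set T) := fun f hf => by
        obtain ⟨P, hP, hfP⟩ := hall f hf
        exact Set.mem_iUnion₂.2 ⟨P, by simpa using hP, hfP⟩
      obtain ⟨P, hP, hle⟩ := (Ideal.subset_union_prime ⊥ ⊥ fun P hP _ _ => ((associatedPrimes.finite T M).mem_toFinset.1 hP).isPrime).1 hsub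
      rw [Set.Finite.mem_toFinset] at hP
      obtain ⟨P', hP', rfl⟩ := hass P hP
      exact hmA (hjmax P' hP' hle ▸ hP)
    have hQ' : (j m).asIdeal.LiesOver p := ⟨(congrArg PrimeSpectrum.asIdeal hjG.1).symm⟩
    have hreg : ∀ t, f * t ∈ sat p I (j m).asIdeal.primeCompl → t ∈ sat p I (j m).asIdeal.primeCompl := by
      rintro t ⟨u, hu, h⟩
      have h1 : f * (u * t) ∈ sat p I W := le_sat p I W (by rwa [mul_left_comm])
      have h2 : u * t ∈ sat p I W := by
        by_contra hne
        have hzd : f ∈ ⋃ P ∈ associatedPrimes T M, (P : Set T) := by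
          rw [biUnion_associatedPrimes_eq_zero_divisors]
          exact ⟨Ideal.Quotient.mk _ (u * t), fun h => hne (Ideal.Quotient.eq_zero_iff_mem.1 h),
            Ideal.Quotient.eq_zero_iff_mem.2 h1⟩
        obtain ⟨P, hP, hfP⟩ := Set.mem_iUnion₂.1 hzd
        exact hfA P hP hfP
      obtain ⟨w, hw, hwt⟩ := h2
      exact ⟨w * u, mul_mem (hWG _ hjG hw) hu, by rwa [mul_assoc]⟩
    have hfI : f ∉ I := fun hfI => by
      obtain ⟨w, hw, h⟩ := hreg 1 ⟨1, one_mem _, by simpa using Ideal.mem_sup_left hfI⟩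
      rw [mul_one] at h
      exact hw (sup_le hjG.2.1 (Ideal.map_le_iff_le_comap.2 (congrArg PrimeSpectrum.asIdeal hjG.1).ge) h)
    refine hmax (I ⊔ Ideal.span {f}) ?_ (lt_of_le_of_ne le_sup_left fun h => hfI (h ▸ Ideal.mem_sup_right (Ideal.mem_span_singleton_self f)))
    exact ⟨(j m).asIdeal, (j m).isPrime, hQ', sup_le hjG.2.1 ((Ideal.span_singleton_le_iff_mem _).2 hf),
      flat_slice p (j m).asIdeal I W (hWG _ hjG) f hf (hgflat _ (hjG.2.2)) hreg⟩

end Groth.Agent.FlatModel
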