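import Groth.Agent.FlatModel.InjModMaxPoly
import Groth.Agent.FlatModel.Open
import Groth.Prelude.Def_CAlgX

/-!
Models over finitely presented algebras of finitely presented modules over essentially finitely
presented local algebras, and the criterion of flatness of a cokernel in that setting.
-/

set_option autoImplicit false

namespace Groth.Agent.FlatModel

open TensorProduct

universe u

/-- A finitely presented module over a localisation is the localisation of a finitely presented module. -/
theorem exists_fp_model {B S : Type u} [CommRing B] [CommRing S] [Algebra B S] (W : Submonoid B)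
    [IsLocalization W S] (M : Type u) [AddCommGroup M] [Module B M] [Module S M] [IsScalarTower B S M]
    [Module.FinitePresentation S M] :
    ∃ (M₀ : Type u) (_ : AddCommGroup M₀) (_ : Module B M₀), Module.FinitePresentation B M₀ ∧
      ∃ f : M₀ →ₗ[B] M, IsLocalizedModule W f := by
  classical
  obtain ⟨a, π, hπ⟩ := Module.Finite.exists_fin' S M
  obtain ⟨G, hG⟩ := Module.FinitePresentation.fg_ker π hπ
  let ι : (Fin a → B) →ₗ[B] (Fin a → S) := LinearMap.pi fun i => (Algebra.linearMap B S).comp (LinearMap.proj i)
  have hι : IsLocalizedModule W ι := IsLocalizedModule.pi W fun _ => Algebra.linearMap B S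
  choose m hm using fun g : Fin a → S => IsLocalizedModule.surj W ι g
  let K : Submodule B (Fin a → B) := Submodule.span B (G.image fun g => (m g).1 : Finset _)
  have hK : K.FG := ⟨_, rfl⟩
  have hloc : K.localized' S W ι = LinearMap.ker π := by
    rw [Submodule.localized'_span, ← hG]
    refine le_antisymm (Submodule.span_le.2 ?_) (Submodule.span_le.2 ?_)
    · rintro _ ⟨_, h, rfl⟩
      obtain ⟨g, hg, rfl⟩ := Finset.mem_image.1 (Finset.mem_coe.1 h)
      rw [← hm g, Submonoid.smul_def, ← algebraMap_smul S ((m g).2 : B) g]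
      exact Submodule.smul_mem _ _ (Submodule.subset_span hg)
    · intro g hg
      obtain ⟨c, hc⟩ := IsLocalization.map_units S (m g).2
      have : g = (↑c⁻¹ : S) • ι (m g).1 := by
        rw [← hm g, Submonoid.smul_def, ← algebraMap_smul S ((m g).2 : B) g, ← hc, smul_smul, c.inv_mul, one_smul]
      rw [this]
      exact Submodule.smul_mem _ _ (Submodule.subset_span ⟨_, Finset.mem_coe.2 (Finset.mem_image_of_mem _ hg), rfl⟩)
  let e : ((Fin a → S) ⧸ K.localized' S W ι) ≃ₗ[S] M :=
    (Submodule.quotEquivOfEq _ _ hloc).trans (π.quotKerEquivOfSurjective hπ)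
  exact ⟨(Fin a → B) ⧸ K, inferInstance, inferInstance,
    Module.finitePresentation_of_surjective K.mkQ K.mkQ_surjective (by rw [Submodule.ker_mkQ]; exact hK),
    (e.restrictScalars B).toLinearMap ∘ₗ K.toLocalizedQuotient' S W ι,
    IsLocalizedModule.of_linearEquiv W _ (e.restrictScalars B)⟩

/-- A localised module is a localised module over an intermediate ring. -/
theorem isLocalizedModule_of_tower {B B' X Y : Type u} [CommRing B] [CommRing B'] [Algebra B B']
    [AddCommGroup X] [Module B X] [Module B' X] [IsScalarTower B B' X]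
    [AddCommGroup Y] [Module B Y] [Module B' Y] [IsScalarTower B B' Y]
    (W : Submonoid B) (W' : Submonoid B') (hW : ∀ w ∈ W, algebraMap B B' w ∈ W')
    (hunit : ∀ w ∈ W', IsUnit (algebraMap B' (Module.End B' Y) w))
    (f : X →ₗ[B'] Y) [IsLocalizedModule W (f.restrictScalars B)] : IsLocalizedModule W' f := by
  refine ⟨fun w => hunit w w.2, fun y => ?_, fun {x₁ x₂} h => ?_⟩
  · obtain ⟨⟨x, t⟩, ht⟩ := IsLocalizedModule.surj W (f.restrictScalars B) y
    refine ⟨⟨x, ⟨_, hW t t.2⟩⟩, ?_⟩
    show algebraMap B B' (t : B) • y = f x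
    rw [algebraMap_smul]
    exact ht
  · obtain ⟨c, hc⟩ := IsLocalizedModule.exists_of_eq (S := W) (f := f.restrictScalars B) h
    refine ⟨⟨_, hW c c.2⟩, ?_⟩
    show algebraMap B B' (c : B) • x₁ = algebraMap B B' (c : B) • x₂
    rw [algebraMap_smul, algebraMap_smul]
    exact hc

/-- The criterion at a prime of a finitely presented algebra. -/
theorem injective_flat_of_injective_mod_max_fp {R : Type u} [CommRing R] [IsLocalRing R]
    {B : Type u} [CommRing B] [Algebra R B] [Algebra.FinitePresentation R B]
    (q : Ideal B) [q.IsPrime] (hq : (IsLocalRing.maximalIdeal R).map (algebraMap R B) ≤ q)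
    {MB NB : Type u} [AddCommGroup MB] [Module B MB] [Module R MB] [IsScalarTower R B MB]
    [Module.FinitePresentation B MB] [AddCommGroup NB] [Module B NB] [Module R NB] [IsScalarTower R B NB]
    [Module.FinitePresentation B NB] [Module.Flat R NB] (uB : MB →ₗ[B] NB)
    (hu : ∀ x : MB, (∃ s ∉ q, s • uB x ∈ IsLocalRing.maximalIdeal R • (⊤ : Submodule R NB)) →
      ∃ s ∉ q, s • x ∈ IsLocalRing.maximalIdeal R • (⊤ : Submodule R MB)) :
    (∀ x, uB x = 0 → ∃ s ∉ q, s • x = 0) ∧
      Module.Flat R (LocalizedModule q.primeCompl (NB ⧸ LinearMap.range uB)) := by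
  obtain ⟨n, φ, hφ, hkerφ⟩ := Algebra.FinitePresentation.out (R := R) (A := B)
  let := φ.toRingHom.toAlgebra
  let := Module.compHom MB φ.toRingHom
  let := Module.compHom NB φ.toRingHom
  have : IsScalarTower (MvPolynomial (Fin n) R) B MB := ⟨fun p s m => mul_smul (φ p) s m⟩
  have : IsScalarTower (MvPolynomial (Fin n) R) B NB := ⟨fun p s m => mul_smul (φ p) s m⟩
  have : IsScalarTower R (MvPolynomial (Fin n) R) MB := ⟨fun r p m => by
    show φ (r • p) • m = r • φ p • m
    rw [map_smul, smul_assoc]⟩
  have : IsScalarTower R (MvPolynomial (Fin n) R) NB := ⟨fun r p m => by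
    show φ (r • p) • m = r • φ p • m
    rw [map_smul, smul_assoc]⟩
  have : Module.FinitePresentation (MvPolynomial (Fin n) R) B :=
    Module.finitePresentation_of_surjective (Algebra.linearMap (MvPolynomial (Fin n) R) B) hφ hkerφ
  have : Module.FinitePresentation (MvPolynomial (Fin n) R) MB := Module.FinitePresentation.trans _ MB B
  have : Module.FinitePresentation (MvPolynomial (Fin n) R) NB := Module.FinitePresentation.trans _ NB B
  let Q : Ideal (MvPolynomial (Fin n) R) := q.comap φ
  have : Q.IsPrime := Ideal.IsPrime.comap _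
  have hQ : (IsLocalRing.maximalIdeal R).map MvPolynomial.C ≤ Q := Ideal.map_le_iff_le_comap.2 fun r hr => by
    show φ (algebraMap R _ r) ∈ q
    rw [AlgHom.commutes]
    exact hq (Ideal.mem_map_of_mem _ hr)
  have hmem : ∀ {X : Type u} [AddCommGroup X] [Module (MvPolynomial (Fin n) R) X] [Module R X]
      [IsScalarTower R (MvPolynomial (Fin n) R) X] (x : X),
      x ∈ ((IsLocalRing.maximalIdeal R).map MvPolynomial.C : Ideal (MvPolynomial (Fin n) R)) •
        (⊤ : Submodule (MvPolynomial (Fin n) R) X) ↔ x ∈ IsLocalRing.maximalIdeal R • (⊤ : Submodule R X) := by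
    intro X _ _ _ _ x
    rw [← MvPolynomial.algebraMap_eq, ← Submodule.restrictScalars_mem R, Submodule.restrictScalars_map_smul_eq,
      Submodule.restrictScalars_top]
  obtain ⟨hinj, hflat⟩ := injective_flat_of_injective_mod_max Q hQ (uB.restrictScalars (MvPolynomial (Fin n) R)) (by
    rintro x ⟨s, hs, hsx⟩
    obtain ⟨t, ht, htx⟩ := hu x ⟨φ s, hs, (hmem _).1 hsx⟩
    obtain ⟨p, rfl⟩ := hφ t
    exact ⟨p, ht, (hmem _).2 htx⟩)
  refine ⟨fun x hx => ?_, ?_⟩
  · obtain ⟨s, hs, hsx⟩ := hinj x hx
    exact ⟨φ s, hs, hsx⟩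
  · rw [flat_localized_iff q.primeCompl (LocalizedModule.mkLinearMap q.primeCompl _)]
    rw [flat_localized_iff Q.primeCompl (LocalizedModule.mkLinearMap Q.primeCompl _)] at hflat
    intro J y hy
    let e := (Submodule.Quotient.restrictScalarsEquiv (MvPolynomial (Fin n) R) (LinearMap.range uB)).symm.trans
      (Submodule.quotEquivOfEq _ _ (LinearMap.range_restrictScalars (R := MvPolynomial (Fin n) R) uB).symm)
    let eJ := LinearMap.rTensor J (e.toLinearMap.restrictScalars R)
    have hy' : J.subtype.lTensor _ (eJ y) = 0 := by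
      rw [← LinearMap.comp_apply, LinearMap.lTensor_comp_rTensor, ← LinearMap.rTensor_comp_lTensor,
        LinearMap.comp_apply, hy, map_zero]
    obtain ⟨s, hs, hsy⟩ := hflat J (eJ y) hy'
    refine ⟨φ s, hs, ?_⟩
    have h1 : eJ (φ s • y) = s • eJ y := by
      clear hsy hy hy'
      induction y using TensorProduct.induction_on with
      | zero => simp
      | tmul c j => rw [TensorProduct.smul_tmul', LinearMap.rTensor_tmul, LinearMap.rTensor_tmul, TensorProduct.smul_tmul']
                    congr 1
                    exact e.map_smul s c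
      | add y z hy hz => rw [smul_add, map_add, hy, hz, map_add, smul_add]
    exact (LinearEquiv.rTensor J (e.restrictScalars R)).injective
      (show eJ (φ s • y) = eJ 0 by rw [h1, hsy, map_zero])

/-- An essentially finitely presented local algebra is the localisation of a finitely presented algebra at a prime. -/
theorem exists_prime_model {R S : Type u} [CommRing R] [CommRing S] [IsLocalRing S] [Algebra R S]
    (hS : CAlgX.IsEssFinitePresentation R S) :
    ∃ (B : Type u) (_ : CommRing B) (_ : Algebra R B) (_ : Algebra B S) (_ : IsScalarTower R B S)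
      (_ : Algebra.FinitePresentation R B) (q : Ideal B) (_ : q.IsPrime),
      q = (IsLocalRing.maximalIdeal S).comap (algebraMap B S) ∧ IsLocalization q.primeCompl S := by
  obtain ⟨B, _, _, _, _, W, hfp, hloc⟩ := hS
  refine ⟨B, inferInstance, inferInstance, inferInstance, inferInstance, hfp,
    (IsLocalRing.maximalIdeal S).comap (algebraMap B S), Ideal.IsPrime.comap _, rfl, ?_⟩
  exact IsLocalization.of_le W _ (fun w hw h => h (IsLocalization.map_units S ⟨w, hw⟩))
    fun r hr => IsLocalRing.notMem_maximalIdeal.1 hr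

/-- The criterion for finitely presented modules over an essentially finitely presented local algebra. -/
theorem injective_flat_of_injective_mod_max_essFP {R S M N : Type u} [CommRing R] [CommRing S] [IsLocalRing R]
    [IsLocalRing S] [Algebra R S] [IsLocalHom (algebraMap R S)] (hS : CAlgX.IsEssFinitePresentation R S)
    [AddCommGroup M] [Module S M] [Module R M] [IsScalarTower R S M] [Module.FinitePresentation S M]
    [AddCommGroup N] [Module S N] [Module R N] [IsScalarTower R S N] [Module.FinitePresentation S N] [Module.Flat R N]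
    (u : M →ₗ[S] N)
    (hu : ∀ x : M, u x ∈ (IsLocalRing.maximalIdeal R).map (algebraMap R S) • (⊤ : Submodule S N) →
      x ∈ (IsLocalRing.maximalIdeal R).map (algebraMap R S) • (⊤ : Submodule S M)) :
    Function.Injective u ∧ Module.Flat R (N ⧸ LinearMap.range u) := by
  obtain ⟨B, _, _, _, _, _, q, _, hqdef, _⟩ := exists_prime_model hS
  let := Module.compHom N (algebraMap B S)
  have : IsScalarTower B S N := ⟨fun b s m => by show (b • s) • m = algebraMap B S b • s • m; rw [Algebra.smul_def, mul_smul]⟩
  have : IsScalarTower R B N := ⟨fun r b m => by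
    show algebraMap B S (r • b) • m = r • algebraMap B S b • m
    rw [Algebra.smul_def, map_mul, ← IsScalarTower.algebraMap_apply, mul_smul, algebraMap_smul]⟩
  obtain ⟨N₀, _, _, hN₀, fN₀, hfN₀⟩ := exists_fp_model (B := B) q.primeCompl N (S := S)
  let := Module.compHom N₀ (algebraMap R B)
  have : IsScalarTower R B N₀ := ⟨fun r b m => by
    show (r • b) • m = algebraMap R B r • b • m
    rw [Algebra.smul_def, mul_smul]⟩
  have hflat0 : Module.Flat R (LocalizedModule q.primeCompl N₀) :=
    Module.Flat.of_linearEquiv ((IsLocalizedModule.linearEquiv q.primeCompl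
      (LocalizedModule.mkLinearMap q.primeCompl N₀) fN₀).restrictScalars R)
  obtain ⟨h, hh, hflat⟩ := exists_flat_nhd N₀ q hflat0
  -- shrink to `B' = B[1/h]`
  have hhS : IsUnit (algebraMap B S h) := IsLocalization.map_units S (⟨h, hh⟩ : q.primeCompl)
  let : Algebra (Localization.Away h) S := (IsLocalization.Away.lift h hhS).toAlgebra
  have : IsScalarTower B (Localization.Away h) S :=
    IsScalarTower.of_algebraMap_eq fun b => (IsLocalization.Away.lift_eq h hhS b).symm
  have : IsScalarTower R (Localization.Away h) S := IsScalarTower.of_algebraMap_eq fun r => by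
    rw [IsScalarTower.algebraMap_apply R B S, IsScalarTower.algebraMap_apply R B (Localization.Away h),
      ← IsScalarTower.algebraMap_apply B (Localization.Away h) S]
  have : Algebra.FinitePresentation B (Localization.Away h) := IsLocalization.Away.finitePresentation h
  have : Algebra.FinitePresentation R (Localization.Away h) := Algebra.FinitePresentation.trans R B _
  let q' : Ideal (Localization.Away h) := (IsLocalRing.maximalIdeal S).comap (algebraMap _ S)
  have hq'u : ∀ w ∈ q'.primeCompl, IsUnit (algebraMap (Localization.Away h) S w) :=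
    fun w hw => IsLocalRing.notMem_maximalIdeal.1 hw
  have hqq' : ∀ b, b ∉ q → algebraMap B (Localization.Away h) b ∉ q' := fun b hb hb' => hb (by
    rw [hqdef, Ideal.mem_comap, IsScalarTower.algebraMap_apply B (Localization.Away h) S]
    exact hb')
  have : IsLocalization q'.primeCompl S := by
    refine ⟨⟨fun w => hq'u w w.2, fun z => ?_, fun {x y} hxy => ?_⟩⟩
    · obtain ⟨⟨x, t⟩, ht⟩ := IsLocalization.surj q.primeCompl z
      exact ⟨⟨algebraMap B _ x, ⟨_, hqq' t t.2⟩⟩, by
        simp only [← IsScalarTower.algebraMap_apply]; exact ht⟩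
    · obtain ⟨⟨x₀, t⟩, hx⟩ := IsLocalization.surj (Submonoid.powers h) x
      obtain ⟨⟨y₀, t'⟩, hy⟩ := IsLocalization.surj (Submonoid.powers h) y
      have hx' := congrArg (algebraMap (Localization.Away h) S) hx
      have hy' := congrArg (algebraMap (Localization.Away h) S) hy
      simp only [map_mul, ← IsScalarTower.algebraMap_apply] at hx' hy'
      obtain ⟨c, hc⟩ := IsLocalization.exists_of_eq (M := q.primeCompl)
        (show algebraMap B S (x₀ * t') = algebraMap B S (y₀ * t) by
          simp only [map_mul, ← hx', ← hy', hxy]; ring)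
      have hpow : ∀ t : Submonoid.powers h, (t : B) ∉ q := by
        rintro ⟨_, k, rfl⟩ hk
        exact hh (Ideal.IsPrime.mem_of_pow_mem ‹_› k hk)
      have hc' := congrArg (algebraMap B (Localization.Away h)) hc
      simp only [map_mul, ← hx, ← hy] at hc'
      exact ⟨⟨_, hqq' _ ((Ideal.IsPrime.mul_notMem ‹_› (Ideal.IsPrime.mul_notMem ‹_› c.2 (hpow t)) (hpow t')))⟩, by
        simp only [map_mul]; linear_combination hc'⟩
  let := Module.compHom N (algebraMap (Localization.Away h) S)
  have : IsScalarTower (Localization.Away h) S N := ⟨fun b s m => by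
    show (b • s) • m = algebraMap (Localization.Away h) S b • s • m; rw [Algebra.smul_def, mul_smul]⟩
  have : IsScalarTower B (Localization.Away h) N := ⟨fun b z m => by
    show algebraMap (Localization.Away h) S (b • z) • m = algebraMap B S b • algebraMap (Localization.Away h) S z • m
    rw [Algebra.smul_def, map_mul, ← IsScalarTower.algebraMap_apply, mul_smul]⟩
  have : IsScalarTower R (Localization.Away h) N := ⟨fun r z m => by
    show algebraMap (Localization.Away h) S (r • z) • m = r • algebraMap (Localization.Away h) S z • m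
    rw [Algebra.smul_def, map_mul, ← IsScalarTower.algebraMap_apply, mul_smul, algebraMap_smul]⟩
  let := Module.compHom M (algebraMap (Localization.Away h) S)
  have : IsScalarTower (Localization.Away h) S M := ⟨fun b s m => by
    show (b • s) • m = algebraMap (Localization.Away h) S b • s • m; rw [Algebra.smul_def, mul_smul]⟩
  have : IsScalarTower R (Localization.Away h) M := ⟨fun r z m => by
    show algebraMap (Localization.Away h) S (r • z) • m = r • algebraMap (Localization.Away h) S z • m
    rw [Algebra.smul_def, map_mul, ← IsScalarTower.algebraMap_apply, mul_smul, algebraMap_smul]⟩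
  let W := Submonoid.powers h
  have hWunit : ∀ w : W, IsUnit (algebraMap B (Module.End B N) w) := fun w => by
    obtain ⟨_, k, rfl⟩ := w
    exact IsLocalizedModule.map_units fN₀ (⟨h ^ k, pow_mem (S := q.primeCompl) hh k⟩ : q.primeCompl)
  let L₀ : LocalizedModule W N₀ →ₗ[B] N := LocalizedModule.lift W fN₀ hWunit
  let L : LocalizedModule W N₀ →ₗ[Localization.Away h] N := L₀.extendScalarsOfIsLocalization W (Localization.Away h)
  have hLloc₀ : IsLocalizedModule q.primeCompl L₀ := by
    refine ⟨IsLocalizedModule.map_units fN₀, fun y => ?_, fun {x₁ x₂} hx => ?_⟩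
    · obtain ⟨⟨x, t⟩, ht⟩ := IsLocalizedModule.surj q.primeCompl fN₀ y
      exact ⟨⟨LocalizedModule.mk x 1, t⟩, by rw [ht]; simp [L₀, LocalizedModule.lift_mk]⟩
    · obtain ⟨⟨a₁, t₁⟩, h₁⟩ := IsLocalizedModule.surj W (LocalizedModule.mkLinearMap W N₀) x₁
      obtain ⟨⟨a₂, t₂⟩, h₂⟩ := IsLocalizedModule.surj W (LocalizedModule.mkLinearMap W N₀) x₂
      have e : ∀ a, L₀ (LocalizedModule.mkLinearMap W N₀ a) = fN₀ a := fun a =>
        LinearMap.congr_fun (LocalizedModule.lift_comp W fN₀ hWunit) a
      have h3 : fN₀ ((t₂ : B) • a₁) = fN₀ ((t₁ : B) • a₂) := by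
        rw [map_smul, map_smul, ← e, ← e, ← h₁, ← h₂, Submonoid.smul_def, Submonoid.smul_def, map_smul, map_smul, hx,
          smul_smul, smul_smul, mul_comm]
      obtain ⟨c, hc⟩ := IsLocalizedModule.exists_of_eq (S := q.primeCompl) h3
      have ht : ∀ t : W, (t : B) ∉ q := by
        rintro ⟨_, k, rfl⟩ hk
        exact hh (Ideal.IsPrime.mem_of_pow_mem ‹_› k hk)
      refine ⟨⟨c * t₁ * t₂, Ideal.IsPrime.mul_notMem ‹_› (Ideal.IsPrime.mul_notMem ‹_› c.2 (ht t₁)) (ht t₂)⟩, ?_⟩
      have hc' := congrArg (LocalizedModule.mkLinearMap W N₀) hc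
      simp only [Submonoid.smul_def, map_smul, ← h₁, ← h₂, smul_smul] at hc'
      simp only [Submonoid.smul_def]
      exact (show ((c : B) * t₁ * t₂) • x₁ = ((c : B) * t₂ * t₁) • x₁ by rw [mul_right_comm]).trans hc'
  have hN1flat : Module.Flat R (LocalizedModule W N₀) := hflat W (Submonoid.mem_powers h)
  have : IsLocalizedModule q.primeCompl (L.restrictScalars B) := by
    rw [show L.restrictScalars B = L₀ from LinearMap.ext fun x => rfl]
    exact hLloc₀
  have hLloc : IsLocalizedModule q'.primeCompl L :=
    isLocalizedModule_of_tower q.primeCompl q'.primeCompl hqq' (fun w hw => by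
      obtain ⟨c, hc⟩ := hq'u w hw
      rw [Module.End.isUnit_iff]
      refine Function.bijective_iff_has_inverse.2 ⟨fun m => (↑c⁻¹ : S) • m, fun m => ?_, fun m => ?_⟩
      · show (↑c⁻¹ : S) • algebraMap (Localization.Away h) S w • m = m
        rw [← hc, smul_smul, c.inv_mul, one_smul]
      · show algebraMap (Localization.Away h) S w • (↑c⁻¹ : S) • m = m
        rw [← hc, smul_smul, c.mul_inv, one_smul]) L
  obtain ⟨M₁, _, _, hM₁, fM, hfM⟩ := exists_fp_model (B := Localization.Away h) q'.primeCompl M (S := S)
  let := Module.compHom M₁ (algebraMap R (Localization.Away h))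
  have : IsScalarTower R (Localization.Away h) M₁ := ⟨fun r b m => by
    show (r • b) • m = algebraMap R (Localization.Away h) r • b • m
    rw [Algebra.smul_def, mul_smul]⟩
  obtain ⟨uB, t, huB⟩ := Module.FinitePresentation.exists_lift_of_isLocalizedModule q'.primeCompl L
    ((u.restrictScalars (Localization.Away h)) ∘ₗ fM)
  let τ : S := algebraMap (Localization.Away h) S t
  have hτ : IsUnit τ := hq'u t t.2
  have huB' : ∀ x, L (uB x) = τ • u (fM x) := fun x => by
    have := LinearMap.congr_fun huB x
    simp only [LinearMap.comp_apply, LinearMap.smul_apply, Submonoid.smul_def] at this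
    rw [this, LinearMap.restrictScalars_apply, algebraMap_smul]
  have hcancel : ∀ (I : Submodule S N) (s : S) (_ : IsUnit s) (m : N), s • m ∈ I → m ∈ I := by
    rintro I _ ⟨c, rfl⟩ m hm
    simpa [smul_smul] using I.smul_mem (↑c⁻¹ : S) hm
  have hmem : ∀ {X : Type u} [AddCommGroup X] [Module (Localization.Away h) X] [Module R X]
      [IsScalarTower R (Localization.Away h) X] (x : X),
      x ∈ (IsLocalRing.maximalIdeal R).map (algebraMap R (Localization.Away h)) •
        (⊤ : Submodule (Localization.Away h) X) ↔ x ∈ IsLocalRing.maximalIdeal R • (⊤ : Submodule R X) := by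
    intro X _ _ _ _ x
    rw [← Submodule.restrictScalars_mem R, Submodule.restrictScalars_map_smul_eq, Submodule.restrictScalars_top]
  have hmS : (IsLocalRing.maximalIdeal R).map (algebraMap R S) =
      ((IsLocalRing.maximalIdeal R).map (algebraMap R (Localization.Away h))).map (algebraMap _ S) := by
    rw [Ideal.map_map, ← IsScalarTower.algebraMap_eq]
  have hq'm : (IsLocalRing.maximalIdeal R).map (algebraMap R (Localization.Away h)) ≤ q' := by
    rw [Ideal.map_le_iff_le_comap, Ideal.comap_comap, ← IsScalarTower.algebraMap_eq]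
    exact fun r hr => map_nonunit (algebraMap R S) r hr
  obtain ⟨hinj, hfl⟩ := injective_flat_of_injective_mod_max_fp q' hq'm uB (by
    rintro x ⟨s, hs, hsx⟩
    have h1 := (localized_mem_map_smul_iff q'.primeCompl L (B := S) _ (uB x)).2 ⟨s, hs, (hmem _).2 hsx⟩
    rw [huB', ← hmS] at h1
    have h2 := hu (fM x) (hcancel _ τ hτ _ h1)
    rw [hmS, localized_mem_map_smul_iff q'.primeCompl] at h2
    obtain ⟨c, hc, hcx⟩ := h2
    exact ⟨c, hc, (hmem _).1 hcx⟩)
  refine ⟨(injective_iff_map_eq_zero u).2 fun y hy => ?_, ?_⟩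
  · obtain ⟨⟨x, c⟩, hcx⟩ := IsLocalizedModule.surj q'.primeCompl fM y
    rw [Submonoid.smul_def, ← algebraMap_smul S (c : Localization.Away h) y] at hcx
    have h0 : L (uB x) = 0 := by rw [huB', ← hcx, map_smul, hy, smul_zero, smul_zero]
    obtain ⟨c', hc'⟩ := (IsLocalizedModule.eq_zero_iff q'.primeCompl L).1 h0
    obtain ⟨s, hs, hsx⟩ := hinj ((c' : Localization.Away h) • x) (by rw [map_smul]; exact hc')
    have h3 : fM x = 0 := (IsLocalizedModule.eq_zero_iff q'.primeCompl fM).2
      ⟨⟨s, hs⟩ * c', by rw [Submonoid.smul_def, Submonoid.coe_mul, mul_smul]; exact hsx⟩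
    obtain ⟨e, he⟩ := hq'u c c.2
    rw [h3, ← he] at hcx
    simpa [smul_smul] using congrArg ((↑e⁻¹ : S) • ·) hcx
  · have hrange : (LinearMap.range uB).localized' S q'.primeCompl L = LinearMap.range u := by
      ext y
      rw [Submodule.mem_localized']
      constructor
      · rintro ⟨_, ⟨x, rfl⟩, s, rfl⟩
        obtain ⟨e, he⟩ := hq'u s s.2
        refine ⟨(↑e⁻¹ * τ : S) • fM x, ?_⟩
        rw [map_smul, mul_smul, ← huB']
        refine (IsLocalizedModule.mk'_eq_iff.2 ?_).symm
        rw [Submonoid.smul_def, ← algebraMap_smul S (s : Localization.Away h), ← he, smul_smul, e.mul_inv, one_smul]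
      · rintro ⟨z, rfl⟩
        obtain ⟨⟨x, c⟩, hcx⟩ := IsLocalizedModule.surj q'.primeCompl fM z
        rw [Submonoid.smul_def, ← algebraMap_smul S (c : Localization.Away h) z] at hcx
        refine ⟨uB x, ⟨x, rfl⟩, t * c, IsLocalizedModule.mk'_eq_iff.2 ?_⟩
        rw [huB', ← hcx, map_smul, smul_smul, Submonoid.smul_def, Submonoid.coe_mul,
          ← algebraMap_smul S ((t : Localization.Away h) * c), map_mul]
    let e := (Submodule.quotEquivOfEq _ _ hrange).restrictScalars (Localization.Away h)
    have : IsLocalizedModule q'.primeCompl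
        (e.toLinearMap ∘ₗ (LinearMap.range uB).toLocalizedQuotient' S q'.primeCompl L) :=
      IsLocalizedModule.of_linearEquiv _ _ e
    rw [flat_localized_iff q'.primeCompl (LocalizedModule.mkLinearMap q'.primeCompl _)] at hfl
    rw [flat_localized_iff q'.primeCompl
      (e.toLinearMap ∘ₗ (LinearMap.range uB).toLocalizedQuotient' S q'.primeCompl L)]
    exact hfl

end Groth.Agent.FlatModel
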