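import Mathlib
import Groth.Agent.S0393

/-!
The criterion of flatness of a cokernel by injectivity modulo a prime of the base, in a noetherian
setting, for a finite module over a localisation.
-/

set_option autoImplicit false

namespace Groth.Agent.FlatModel

open TensorProduct

universe u

/-- Injectivity modulo a prime `p` of the base gives injectivity and a flat cokernel. -/
theorem injective_flat_of_prime {R S M N : Type u} [CommRing R] [CommRing S] [IsLocalRing S]
    [IsNoetherianRing S] [Algebra R S] (p : Ideal R) [p.IsPrime]
    (hp : p = (IsLocalRing.maximalIdeal S).comap (algebraMap R S))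
    [AddCommGroup M] [Module R M] [Module S M] [IsScalarTower R S M] [Module.Finite S M]
    [AddCommGroup N] [Module R N] [Module S N] [IsScalarTower R S N] [Module.Flat R N]
    (u : M →ₗ[S] N)
    (h : ∀ x, u x ∈ p • (⊤ : Submodule R N) → x ∈ p • (⊤ : Submodule R M)) :
    Function.Injective u ∧ Module.Flat R (N ⧸ LinearMap.range u) := by
  have hunit : ∀ r : p.primeCompl, IsUnit (algebraMap R S r) := fun r =>
    IsLocalRing.notMem_maximalIdeal.1 fun hr => r.2 (hp ▸ hr)
  let f : Localization.AtPrime p →+* S := IsLocalization.lift hunit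
  let : Algebra (Localization.AtPrime p) S := f.toAlgebra
  have hT : IsScalarTower R (Localization.AtPrime p) S :=
    IsScalarTower.of_algebraMap_eq fun r => (IsLocalization.lift_eq hunit r).symm
  have hloc : IsLocalHom (algebraMap (Localization.AtPrime p) S) := by
    refine ⟨fun z hz => ?_⟩
    obtain ⟨r, s, rfl⟩ := IsLocalization.exists_mk'_eq p.primeCompl z
    refine IsLocalization.AtPrime.isUnit_mk'_iff _ p r s |>.2 fun hr => ?_
    have h1 : algebraMap _ S (IsLocalization.mk' (Localization.AtPrime p) r s) * algebraMap R S (s : R) =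
        algebraMap R S r := by
      rw [IsScalarTower.algebraMap_apply R (Localization.AtPrime p) S, ← map_mul, IsLocalization.mk'_spec,
        ← IsScalarTower.algebraMap_apply]
    have h2 : algebraMap R S r ∈ IsLocalRing.maximalIdeal S := by
      rw [hp] at hr; exact hr
    exact h2 (h1 ▸ hz.mul (hunit s))
  let : Module (Localization.AtPrime p) M := Module.compHom M f
  let : Module (Localization.AtPrime p) N := Module.compHom N f
  have : IsScalarTower (Localization.AtPrime p) S M := ⟨fun a s m => mul_smul (f a) s m⟩
  have : IsScalarTower R (Localization.AtPrime p) M := ⟨fun r a m => by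
    show f (r • a) • m = r • (f a • m)
    rw [Algebra.smul_def, map_mul, show f (algebraMap R _ r) = algebraMap R S r from IsLocalization.lift_eq hunit r,
      mul_smul, algebraMap_smul]⟩
  have : IsScalarTower (Localization.AtPrime p) S N := ⟨fun a s m => mul_smul (f a) s m⟩
  have : IsScalarTower R (Localization.AtPrime p) N := ⟨fun r a m => by
    show f (r • a) • m = r • (f a • m)
    rw [Algebra.smul_def, map_mul, show f (algebraMap R _ r) = algebraMap R S r from IsLocalization.lift_eq hunit r,
      mul_smul, algebraMap_smul]⟩
  have : Module.Flat (Localization.AtPrime p) N :=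
    (Module.flat_iff_of_isLocalization (R := R) (Localization.AtPrime p) p.primeCompl (M := N)).2 inferInstance
  have hmem : ∀ (X : Type u) [AddCommGroup X] [Module R X] [Module (Localization.AtPrime p) X]
      [IsScalarTower R (Localization.AtPrime p) X] (x : X),
      x ∈ IsLocalRing.maximalIdeal (Localization.AtPrime p) • (⊤ : Submodule (Localization.AtPrime p) X) ↔
        x ∈ p • (⊤ : Submodule R X) := by
    intro X _ _ _ _ x
    rw [← IsLocalization.AtPrime.map_eq_maximalIdeal p (Localization.AtPrime p),
      ← Submodule.restrictScalars_mem R, Submodule.restrictScalars_map_smul_eq, Submodule.restrictScalars_top]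
  have key : Function.Injective (LinearMap.lTensor (IsLocalRing.ResidueField (Localization.AtPrime p))
      (u.restrictScalars (Localization.AtPrime p))) := by
    rw [injective_iff_map_eq_zero]
    intro z hz
    obtain ⟨x, rfl⟩ := S0393.exists_one_tmul _ z
    have hz' : (1 : Localization.AtPrime p ⧸ IsLocalRing.maximalIdeal (Localization.AtPrime p)) ⊗ₜ[Localization.AtPrime p]
        u x = 0 := hz
    exact (S0393.one_tmul_eq_zero_iff _ _).2 ((hmem M x).2 (h x ((hmem N (u x)).1 ((S0393.one_tmul_eq_zero_iff _ _).1 hz'))))
  obtain ⟨hinj, hflat⟩ := S0393.result (S := S) (u.restrictScalars (Localization.AtPrime p)) key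
  refine ⟨hinj, ?_⟩
  rw [LinearMap.range_restrictScalars] at hflat
  have : Module.Flat (Localization.AtPrime p) (N ⧸ LinearMap.range u) :=
    Module.Flat.of_linearEquiv (Submodule.Quotient.restrictScalarsEquiv (Localization.AtPrime p) (LinearMap.range u)).symm
  exact Module.Flat.trans R (Localization.AtPrime p) _

/-- Membership in `I M` after localisation. -/
theorem localized_mem_map_smul_iff {A : Type u} [CommRing A] (W : Submonoid A) {B : Type u} [CommRing B]
    [Algebra A B] [IsLocalization W B] {M M' : Type u} [AddCommGroup M] [Module A M] [AddCommGroup M']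
    [Module A M'] [Module B M'] [IsScalarTower A B M'] (f : M →ₗ[A] M') [IsLocalizedModule W f]
    (I : Ideal A) (x : M) :
    f x ∈ I.map (algebraMap A B) • (⊤ : Submodule B M') ↔ ∃ t ∈ W, t • x ∈ I • (⊤ : Submodule A M) := by
  rw [← Submodule.restrictScalars_mem A, Submodule.restrictScalars_map_smul_eq, Submodule.restrictScalars_top]
  constructor
  · intro hx
    have : ∃ t ∈ W, ∃ w ∈ I • (⊤ : Submodule A M), t • f x = f w := by
      generalize f x = y at hx ⊢
      induction hx using Submodule.smul_induction_on' with
      | smul i hi y _ =>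
        obtain ⟨⟨m, t⟩, ht⟩ := IsLocalizedModule.surj W f y
        exact ⟨t, t.2, i • m, Submodule.smul_mem_smul hi trivial, by
          rw [map_smul, smul_comm, ← Submonoid.smul_def, ht]⟩
      | add y _ z _ hy hz =>
        obtain ⟨t, ht, w, hw, h1⟩ := hy
        obtain ⟨t', ht', w', hw', h2⟩ := hz
        exact ⟨t * t', W.mul_mem ht ht', t' • w + t • w', add_mem (Submodule.smul_mem _ _ hw) (Submodule.smul_mem _ _ hw'),
          by rw [map_add, map_smul, map_smul, ← h1, ← h2, smul_add, mul_comm, mul_smul, mul_comm, ← mul_smul t t']⟩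
    obtain ⟨t, ht, w, hw, h1⟩ := this
    rw [← map_smul] at h1
    obtain ⟨c, hc⟩ := IsLocalizedModule.exists_of_eq (S := W) h1
    refine ⟨c * t, W.mul_mem c.2 ht, ?_⟩
    rw [mul_smul, ← Submonoid.smul_def, hc, Submonoid.smul_def]
    exact Submodule.smul_mem _ _ hw
  · rintro ⟨t, ht, hx⟩
    have h1 := Submodule.mem_map_of_mem (f := f) hx
    rw [Submodule.map_smul'', map_smul] at h1
    have h2 : t • f x ∈ I • (⊤ : Submodule A M') := Submodule.smul_mono le_rfl le_top h1
    obtain ⟨c, hc⟩ := IsLocalization.map_units B (⟨t, ht⟩ : W)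
    have h3 : f x = (↑c⁻¹ : B) • t • f x := by
      rw [← algebraMap_smul B t (f x), ← hc, smul_smul, c.inv_mul, one_smul]
    rw [h3]
    let L : M' →ₗ[A] M' := Algebra.lsmul A A M' (↑c⁻¹ : B)
    exact Submodule.smul_mono le_rfl le_top ((Submodule.map_smul'' I (⊤ : Submodule A M') L) ▸ Submodule.mem_map_of_mem (f := L) h2)

end Groth.Agent.FlatModel
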