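import Groth.Agent.FlatModel.FibreEss

/-!
The fibrewise criterion of flatness modulo a locally nilpotent ideal.
-/

set_option autoImplicit false

namespace Groth.Agent.FlatModel

open TensorProduct IsLocalRing

universe u

theorem Triv.mono {P Q : Type u} [CommRing P] [CommRing Q] {g : P →+* Q} {W W' : Submonoid Q} (hW : W ≤ W')
    {𝔞 : Ideal P} {N : Type u} [AddCommGroup N] [Module Q N] (h : Triv g W 𝔞 N) : Triv g W' 𝔞 N :=
  fun k f x hx => let ⟨s, hs, r⟩ := h k f x hx; ⟨s, hW hs, r⟩

/-- A finitely presented algebra localised at a prime is essentially finitely presented over the localised base. -/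
theorem isEssFinitePresentation_localization {R S' : Type u} [CommRing R] [CommRing S'] [Algebra R S']
    [Algebra.FinitePresentation R S'] (P : Ideal S') [P.IsPrime] (p : Ideal R) [p.IsPrime]
    (Rp SP : Type u) [CommRing Rp] [CommRing SP] [Algebra R Rp] [IsLocalization.AtPrime Rp p] [Algebra S' SP]
    [IsLocalization.AtPrime SP P] [Algebra R SP] [IsScalarTower R S' SP] [Algebra Rp SP] [IsScalarTower R Rp SP] :
    CAlgX.IsEssFinitePresentation Rp SP := by
  let B := Rp ⊗[R] S'
  let ψ : B →ₐ[Rp] SP := Algebra.TensorProduct.lift (Algebra.ofId Rp SP) (IsScalarTower.toAlgHom R S' SP)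
    (fun _ _ => Commute.all _ _)
  let := ψ.toRingHom.toAlgebra
  have : IsScalarTower Rp B SP := IsScalarTower.of_algebraMap_eq fun r => (ψ.commutes r).symm
  have hψ : ∀ x : S', algebraMap B SP (1 ⊗ₜ x) = algebraMap S' SP x := fun x => by
    show ψ (1 ⊗ₜ x) = _
    show Algebra.TensorProduct.lift (Algebra.ofId Rp SP) (IsScalarTower.toAlgHom R S' SP) _ (1 ⊗ₜ x) = _
    rw [Algebra.TensorProduct.lift_tmul, map_one, one_mul]
    rfl
  have hden : ∀ z : B, ∃ t ∈ p.primeCompl, ∃ x : S', (algebraMap R Rp t ⊗ₜ (1 : S')) * z = 1 ⊗ₜ x := by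
    intro z
    induction z using TensorProduct.induction_on with
    | zero => exact ⟨1, one_mem _, 0, by simp⟩
    | tmul r x =>
      obtain ⟨⟨a, t⟩, h⟩ := IsLocalization.surj p.primeCompl r
      refine ⟨t, t.2, a • x, ?_⟩
      rw [Algebra.TensorProduct.tmul_mul_tmul, one_mul, mul_comm, h, Algebra.algebraMap_eq_smul_one, TensorProduct.smul_tmul]
    | add z z' hz hz' =>
      obtain ⟨t, ht, x, h⟩ := hz
      obtain ⟨t', ht', x', h'⟩ := hz'
      refine ⟨t * t', mul_mem ht ht', t' • x + t • x', ?_⟩
      have e : (algebraMap R Rp (t * t') ⊗ₜ (1 : S') : B) =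
          (algebraMap R Rp t ⊗ₜ (1 : S')) * (algebraMap R Rp t' ⊗ₜ (1 : S')) := by
        rw [Algebra.TensorProduct.tmul_mul_tmul, mul_one, map_mul]
      have e1 : ∀ (t : R) (x : S'), (algebraMap R Rp t ⊗ₜ (1 : S') : B) * (1 ⊗ₜ x) = 1 ⊗ₜ (t • x) := fun t x => by
        rw [Algebra.TensorProduct.tmul_mul_tmul, mul_one, one_mul, Algebra.algebraMap_eq_smul_one, TensorProduct.smul_tmul]
      rw [mul_add, e, mul_right_comm, h, mul_comm, e1, mul_assoc, h', e1, tmul_add]
  refine ⟨B, inferInstance, inferInstance, inferInstance, inferInstance,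
    (IsUnit.submonoid SP).comap (algebraMap B SP), inferInstance, ⟨⟨fun w => w.2, fun z => ?_, fun {x y} hxy => ?_⟩⟩⟩
  · obtain ⟨⟨a, s⟩, h⟩ := IsLocalization.surj P.primeCompl z
    refine ⟨⟨1 ⊗ₜ a, ⟨1 ⊗ₜ (s : S'), ?_⟩⟩, ?_⟩
    · show IsUnit (algebraMap B SP (1 ⊗ₜ (s : S')))
      rw [hψ]
      exact IsLocalization.map_units SP s
    · show z * algebraMap B SP (1 ⊗ₜ (s : S')) = algebraMap B SP (1 ⊗ₜ a)
      rw [hψ, hψ, h]
  · obtain ⟨t, ht, a, ha⟩ := hden (x - y)
    have hunit : IsUnit (algebraMap R Rp t ⊗ₜ (1 : S') : B) :=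
      (IsLocalization.map_units Rp (⟨t, ht⟩ : p.primeCompl)).map (Algebra.TensorProduct.includeLeft (S := R) (A := Rp) (B := S'))
    have h0 : algebraMap S' SP a = 0 := by
      rw [← hψ, ← ha, map_mul, map_sub, hxy, sub_self, mul_zero]
    obtain ⟨⟨c, hc⟩, hca⟩ := (IsLocalization.map_eq_zero_iff P.primeCompl SP a).1 h0
    refine ⟨⟨1 ⊗ₜ c, ?_⟩, ?_⟩
    · show IsUnit (algebraMap B SP (1 ⊗ₜ c))
      rw [hψ]
      exact IsLocalization.map_units SP (⟨c, hc⟩ : P.primeCompl)
    · rw [← sub_eq_zero, ← mul_sub]
      refine hunit.mul_right_eq_zero.1 ?_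
      rw [mul_left_comm, ha, Algebra.TensorProduct.tmul_mul_tmul]
      simp [show c * a = 0 from hca]

/-- Fibrewise criterion of flatness modulo a locally nilpotent ideal. -/
theorem flat_of_fibre_nil {R S S' M : Type u} [CommRing R] [CommRing S] [CommRing S'] [Algebra R S] [Algebra S S']
    [Algebra R S'] [IsScalarTower R S S'] [Algebra.FiniteType R S] [Algebra.FinitePresentation R S'] (I : Ideal R)
    (hI : ∀ a ∈ I, IsNilpotent a)
    [AddCommGroup M] [Module S' M] [Module S M] [Module R M] [IsScalarTower S S' M] [IsScalarTower R S M]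
    [Module.FinitePresentation S' M] [Module.Flat R M]
    (h : Module.Flat (S ⧸ I.map (algebraMap R S)) ((S ⧸ I.map (algebraMap R S)) ⊗[S] M)) : Module.Flat S M := by
  have : IsScalarTower R S' M := IsScalarTower.of_algebraMap_smul fun r m => by
    rw [IsScalarTower.algebraMap_apply R S S', algebraMap_smul, algebraMap_smul]
  refine Module.flat_of_isLocalized_maximal S' M (fun P _ => LocalizedModule P.primeCompl M)
    (fun P _ => LocalizedModule.mkLinearMap P.primeCompl M) fun P _ => ?_
  let jP : M →ₗ[S'] LocalizedModule P.primeCompl M := LocalizedModule.mkLinearMap P.primeCompl M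
  rcases subsingleton_or_nontrivial (LocalizedModule P.primeCompl M) with h0 | h0
  · infer_instance
  let q : Ideal S := P.comap (algebraMap S S')
  let p : Ideal R := q.comap (algebraMap R S)
  let χ₁ := Localization.localRingHom p q (algebraMap R S) rfl
  let χ₂ := Localization.localRingHom q P (algebraMap S S') rfl
  let := χ₁.toAlgebra
  let := χ₂.toAlgebra
  let := (χ₂.comp χ₁).toAlgebra
  have : IsScalarTower (Localization.AtPrime p) (Localization.AtPrime q) (Localization.AtPrime P) :=
    IsScalarTower.of_algebraMap_eq' rfl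
  have hc₁ : ∀ r, χ₁ (algebraMap R _ r) = algebraMap S _ (algebraMap R S r) :=
    Localization.localRingHom_to_map p q (algebraMap R S) rfl
  have hc₂ : ∀ r, χ₂ (algebraMap S _ r) = algebraMap S' _ (algebraMap S S' r) :=
    Localization.localRingHom_to_map q P (algebraMap S S') rfl
  have : IsScalarTower R (Localization.AtPrime p) (Localization.AtPrime q) := IsScalarTower.of_algebraMap_eq fun r => by
    rw [IsScalarTower.algebraMap_apply R S (Localization.AtPrime q)]
    exact (hc₁ r).symm
  have : IsScalarTower R (Localization.AtPrime p) (Localization.AtPrime P) := IsScalarTower.of_algebraMap_eq fun r => by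
    show _ = χ₂ (χ₁ (algebraMap R (Localization.AtPrime p) r))
    rw [hc₁, hc₂, ← IsScalarTower.algebraMap_apply R S S', ← IsScalarTower.algebraMap_apply R S' (Localization.AtPrime P)]
  have : IsScalarTower S (Localization.AtPrime q) (Localization.AtPrime P) := IsScalarTower.of_algebraMap_eq fun r => by
    rw [IsScalarTower.algebraMap_apply S S' (Localization.AtPrime P)]
    exact (hc₂ r).symm
  have : IsLocalHom (algebraMap (Localization.AtPrime p) (Localization.AtPrime q)) :=
    Localization.isLocalHom_localRingHom p q (algebraMap R S) rfl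
  have : IsLocalHom (algebraMap (Localization.AtPrime q) (Localization.AtPrime P)) :=
    Localization.isLocalHom_localRingHom q P (algebraMap S S') rfl
  let := Module.compHom (LocalizedModule P.primeCompl M) χ₂
  let := Module.compHom (LocalizedModule P.primeCompl M) (χ₂.comp χ₁)
  have : IsScalarTower (Localization.AtPrime q) (Localization.AtPrime P) (LocalizedModule P.primeCompl M) :=
    IsScalarTower.of_algebraMap_smul fun s m => rfl
  have : IsScalarTower (Localization.AtPrime p) (Localization.AtPrime P) (LocalizedModule P.primeCompl M) :=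
    IsScalarTower.of_algebraMap_smul fun s m => rfl
  have : IsScalarTower (Localization.AtPrime p) (Localization.AtPrime q) (LocalizedModule P.primeCompl M) :=
    IsScalarTower.of_algebraMap_smul fun s m => rfl
  have hRm : ∀ (r : R) (m : LocalizedModule P.primeCompl M),
      algebraMap R (Localization.AtPrime p) r • m = r • m := fun r m => by
    show χ₂ (χ₁ _) • m = r • m
    rw [hc₁, hc₂, algebraMap_smul, ← IsScalarTower.algebraMap_apply R S S', algebraMap_smul]
  have : IsScalarTower R (Localization.AtPrime p) (LocalizedModule P.primeCompl M) :=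
    IsScalarTower.of_algebraMap_smul hRm
  have : IsScalarTower S (Localization.AtPrime q) (LocalizedModule P.primeCompl M) :=
    IsScalarTower.of_algebraMap_smul fun s m => by
      show χ₂ _ • m = s • m
      rw [hc₂, algebraMap_smul, algebraMap_smul]
  have : Module.Flat R (LocalizedModule P.primeCompl M) := by
    rw [flat_localized_iff P.primeCompl jP]
    exact fun J y hy => ⟨1, one_mem _, by
      rw [one_smul]
      exact Module.Flat.lTensor_preserves_injective_linearMap (M := M) J.subtype Subtype.val_injective
        (hy.trans (map_zero _).symm)⟩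
  have : Module.Flat (Localization.AtPrime p) (LocalizedModule P.primeCompl M) :=
    (Module.flat_iff_of_isLocalization (Localization.AtPrime p) p.primeCompl _).2 inferInstance
  have : Module.FinitePresentation (Localization.AtPrime P) (LocalizedModule P.primeCompl M) := inferInstance
  have : Algebra.EssFiniteType R (Localization.AtPrime q) := Algebra.EssFiniteType.comp R S _
  have : Algebra.EssFiniteType (Localization.AtPrime p) (Localization.AtPrime q) :=
    Algebra.EssFiniteType.of_comp R (Localization.AtPrime p) (Localization.AtPrime q)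
  -- the fibre
  have hIp : I ≤ p := fun a ha => let ⟨k, hk⟩ := hI a ha; Ideal.IsPrime.mem_of_pow_mem inferInstance k (hk ▸ zero_mem p)
  let IS := I.map (algebraMap R S)
  let J := p.map (algebraMap R S)
  have hIJ : IS ≤ J := Ideal.map_mono hIp
  let := (Ideal.Quotient.factor hIJ).toAlgebra
  have : IsScalarTower S (S ⧸ IS) (S ⧸ J) := IsScalarTower.of_algebraMap_eq fun s => rfl
  have : Module.Flat (S ⧸ J) ((S ⧸ J) ⊗[S] M) :=
    Module.Flat.of_linearEquiv (AlgebraTensorModule.cancelBaseChange S (S ⧸ IS) (S ⧸ J) (S ⧸ J) M).symm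
  have : Module.Flat (S ⧸ J) (M ⧸ J • (⊤ : Submodule S M)) :=
    Module.Flat.of_linearEquiv
      ((quotTensorEquivQuotSMul M J).extendScalarsOfSurjective (Ideal.Quotient.mk_surjective (I := J))).symm
  have : IsLocalizedModule (⊥ : Submonoid S') (LinearMap.id : M →ₗ[S'] M) := by
    refine ⟨fun w => ?_, fun y => ⟨⟨y, 1⟩, one_smul _ y⟩, fun {a b} hab => ⟨1, by rw [show a = b from hab]⟩⟩
    rw [show (w : S') = 1 from Submonoid.mem_bot.1 w.2, map_one]
    exact isUnit_one
  have hT : Triv (algebraMap S S') P.primeCompl J M :=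
    (triv_of_flat (RingHom.id S) (LinearMap.id : M →ₗ[S'] M) (fun s m => (algebraMap_smul S' s m).symm)
      (fun s => ⟨s, 1, by rw [map_one]; exact one_mem _, by simp⟩) J J (Ideal.map_id J)
      (fun s hs => ⟨1, by rw [map_one]; exact one_mem _, by simpa using hs⟩)).mono bot_le
  have hJmap : J.map (algebraMap S (Localization.AtPrime q)) =
      (maximalIdeal (Localization.AtPrime p)).map (algebraMap (Localization.AtPrime p) (Localization.AtPrime q)) := by
    rw [← IsLocalization.AtPrime.map_eq_maximalIdeal p (Localization.AtPrime p), Ideal.map_map, Ideal.map_map,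
      ← IsScalarTower.algebraMap_eq, ← IsScalarTower.algebraMap_eq]
  have : SMulCommClass S' (Localization.AtPrime q) (LocalizedModule P.primeCompl M) := ⟨fun a b m => by
    show a • χ₂ b • m = χ₂ b • a • m
    exact smul_comm _ _ _⟩
  have hfib := flat_of_triv (algebraMap S (Localization.AtPrime q)) jP
    (fun s m => by rw [algebraMap_smul, algebraMap_smul]) (fun z => by
      obtain ⟨⟨a, t⟩, hat⟩ := IsLocalization.surj q.primeCompl z
      exact ⟨a, t, t.2, (mul_comm _ _).trans hat⟩)
    (fun u hu => IsLocalization.map_units (Localization.AtPrime q) (⟨u, hu⟩ : q.primeCompl))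
    (fun w hw m K hm => by
      obtain ⟨v, hv⟩ := IsLocalization.map_units (Localization.AtPrime P) (⟨w, hw⟩ : P.primeCompl)
      have h1 : ∀ y ∈ K • (⊤ : Submodule (Localization.AtPrime q) (LocalizedModule P.primeCompl M)),
          (↑v⁻¹ : Localization.AtPrime P) • y ∈ K • (⊤ : Submodule (Localization.AtPrime q) (LocalizedModule P.primeCompl M)) := by
        intro y hy
        induction hy using Submodule.smul_induction_on' with
        | smul i hi y _ => rw [smul_comm]; exact Submodule.smul_mem_smul hi trivial
        | add _ _ _ _ ha hb => rw [smul_add]; exact add_mem ha hb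
      have h2 := h1 _ hm
      rwa [← algebraMap_smul (Localization.AtPrime P) w m,
        show algebraMap S' (Localization.AtPrime P) w = (v : Localization.AtPrime P) from hv.symm, smul_smul, v.inv_mul,
        one_smul] at h2)
    J _ hJmap.le (fun m hm => by rwa [hJmap]) hT
  obtain ⟨-, hq⟩ := flat_of_fibre_essFP (R := Localization.AtPrime p) (S := Localization.AtPrime q)
    (isEssFinitePresentation_localization (R := R) P p (Localization.AtPrime p) (Localization.AtPrime P)) hfib
  exact (Module.flat_iff_of_isLocalization (Localization.AtPrime q) q.primeCompl _).1 hq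

end Groth.Agent.FlatModel
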