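import Groth.Agent.FlatModel.FibreCrit
import Groth.Agent.FlatModel.EssFPModel
import Mathlib.RingTheory.EssentialFiniteness
import Mathlib.RingTheory.Jacobson.Ideal

/-!
The fibrewise criterion of flatness for essentially finitely presented local algebras.
-/

set_option autoImplicit false

namespace Groth.Agent.FlatModel

open MvPolynomial TensorProduct IsLocalRing

universe u

/-- Inverting an element outside the prime of a prime model. -/
theorem prime_model_away {R B S : Type u} [CommRing R] [CommRing B] [CommRing S] [IsLocalRing S] [Algebra R B]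
    [Algebra B S] [Algebra R S] [IsScalarTower R B S] (q : Ideal B) [q.IsPrime]
    (hq : q = (maximalIdeal S).comap (algebraMap B S)) [IsLocalization q.primeCompl S] (h : B) (hh : h ∉ q) :
    ∃ (_ : Algebra (Localization.Away h) S), IsScalarTower B (Localization.Away h) S ∧
      IsScalarTower R (Localization.Away h) S ∧
      IsLocalization ((maximalIdeal S).comap (algebraMap (Localization.Away h) S)).primeCompl S ∧
      ∀ b, b ∉ q → algebraMap B (Localization.Away h) b ∉ (maximalIdeal S).comap (algebraMap (Localization.Away h) S) := by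
  have hhS : IsUnit (algebraMap B S h) := IsLocalization.map_units S (⟨h, hh⟩ : q.primeCompl)
  let : Algebra (Localization.Away h) S := (IsLocalization.Away.lift h hhS).toAlgebra
  have : IsScalarTower B (Localization.Away h) S :=
    IsScalarTower.of_algebraMap_eq fun b => (IsLocalization.Away.lift_eq h hhS b).symm
  have : IsScalarTower R (Localization.Away h) S := IsScalarTower.of_algebraMap_eq fun r => by
    rw [IsScalarTower.algebraMap_apply R B S, IsScalarTower.algebraMap_apply R B (Localization.Away h),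
      ← IsScalarTower.algebraMap_apply B (Localization.Away h) S]
  have hqq' : ∀ b, b ∉ q → algebraMap B (Localization.Away h) b ∉
      (maximalIdeal S).comap (algebraMap (Localization.Away h) S) := fun b hb hb' => hb (by
    rw [hq, Ideal.mem_comap, IsScalarTower.algebraMap_apply B (Localization.Away h) S]
    exact hb')
  refine ⟨inferInstance, inferInstance, inferInstance, ⟨⟨fun w => IsLocalRing.notMem_maximalIdeal.1 w.2, fun z => ?_,
    fun {x y} hxy => ?_⟩⟩, hqq'⟩
  · obtain ⟨⟨x, t⟩, ht⟩ := IsLocalization.surj q.primeCompl z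
    exact ⟨⟨algebraMap B _ x, ⟨_, hqq' t t.2⟩⟩, by simp only [← IsScalarTower.algebraMap_apply]; exact ht⟩
  · obtain ⟨⟨x₀, t⟩, hx⟩ := IsLocalization.surj (Submonoid.powers h) x
    obtain ⟨⟨y₀, t'⟩, hy⟩ := IsLocalization.surj (Submonoid.powers h) y
    have hx' := congrArg (algebraMap (Localization.Away h) S) hx
    have hy' := congrArg (algebraMap (Localization.Away h) S) hy
    simp only [map_mul, ← IsScalarTower.algebraMap_apply] at hx' hy'
    obtain ⟨c, hc⟩ := IsLocalization.exists_of_eq (M := q.primeCompl)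
      (show algebraMap B S (x₀ * t') = algebraMap B S (y₀ * t) by
        simp only [map_mul, ← hx', ← hy', hxy]; ring)
    have hpow : ∀ t : Submonoid.powers h, (t : B) ∉ q := by
      rintro ⟨_, k, rfl⟩ hk
      exact hh (Ideal.IsPrime.mem_of_pow_mem ‹_› k hk)
    have hc' := congrArg (algebraMap B (Localization.Away h)) hc
    simp only [map_mul, ← hx, ← hy] at hc'
    exact ⟨⟨_, hqq' _ (Ideal.IsPrime.mul_notMem ‹_› (Ideal.IsPrime.mul_notMem ‹_› c.2 (hpow t)) (hpow t'))⟩, by
      simp only [map_mul]; linear_combination hc'⟩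

/-- Inverting an element outside the prime in a module model. -/
theorem module_model_away {R B S : Type u} [CommRing R] [CommRing B] [CommRing S] [Algebra R B]
    [Algebra B S] (q : Ideal B) [q.IsPrime] (h : B) (hh : h ∉ q) [Algebra (Localization.Away h) S]
    [IsScalarTower B (Localization.Away h) S] (q' : Ideal (Localization.Away h)) [q'.IsPrime]
    (hqq' : ∀ b, b ∉ q → algebraMap B (Localization.Away h) b ∉ q')
    [IsLocalization q'.primeCompl S]
    {N₀ M : Type u} [AddCommGroup N₀] [Module B N₀] [AddCommGroup M] [Module B M] [Module S M] [IsScalarTower B S M]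
    [Module (Localization.Away h) M] [IsScalarTower (Localization.Away h) S M] [IsScalarTower B (Localization.Away h) M]
    (f : N₀ →ₗ[B] M) [IsLocalizedModule q.primeCompl f] :
    ∃ L : LocalizedModule (Submonoid.powers h) N₀ →ₗ[Localization.Away h] M, IsLocalizedModule q'.primeCompl L := by
  let W := Submonoid.powers h
  have hWunit : ∀ w : W, IsUnit (algebraMap B (Module.End B M) w) := fun w => by
    obtain ⟨_, k, rfl⟩ := w
    exact IsLocalizedModule.map_units f (⟨h ^ k, pow_mem (S := q.primeCompl) hh k⟩ : q.primeCompl)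
  let L₀ : LocalizedModule W N₀ →ₗ[B] M := LocalizedModule.lift W f hWunit
  let L : LocalizedModule W N₀ →ₗ[Localization.Away h] M := L₀.extendScalarsOfIsLocalization W (Localization.Away h)
  have hLloc₀ : IsLocalizedModule q.primeCompl L₀ := by
    refine ⟨IsLocalizedModule.map_units f, fun y => ?_, fun {x₁ x₂} hx => ?_⟩
    · obtain ⟨⟨x, t⟩, ht⟩ := IsLocalizedModule.surj q.primeCompl f y
      exact ⟨⟨LocalizedModule.mk x 1, t⟩, by rw [ht]; simp [L₀, LocalizedModule.lift_mk]⟩
    · obtain ⟨⟨a₁, t₁⟩, h₁⟩ := IsLocalizedModule.surj W (LocalizedModule.mkLinearMap W N₀) x₁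
      obtain ⟨⟨a₂, t₂⟩, h₂⟩ := IsLocalizedModule.surj W (LocalizedModule.mkLinearMap W N₀) x₂
      have e : ∀ a, L₀ (LocalizedModule.mkLinearMap W N₀ a) = f a := fun a =>
        LinearMap.congr_fun (LocalizedModule.lift_comp W f hWunit) a
      have h3 : f ((t₂ : B) • a₁) = f ((t₁ : B) • a₂) := by
        rw [map_smul, map_smul, ← e, ← e, ← h₁, ← h₂, Submonoid.smul_def, Submonoid.smul_def, map_smul, map_smul, hx,
          smul_smul, smul_smul, mul_comm]
      obtain ⟨c, hc⟩ := IsLocalizedModule.exists_of_eq (S := q.primeCompl) h3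
      have ht : ∀ t : W, (t : B) ∉ q := by
        rintro ⟨_, k, rfl⟩ hk
        exact hh (Ideal.IsPrime.mem_of_pow_mem ‹_› k hk)
      refine ⟨⟨c * t₁ * t₂, Ideal.IsPrime.mul_notMem ‹_› (Ideal.IsPrime.mul_notMem ‹_› c.2 (ht t₁)) (ht t₂)⟩, ?_⟩
      have hc' := congrArg (LocalizedModule.mkLinearMap W N₀) hc
      simp only [Submonoid.smul_def, map_smul, ← h₁, ← h₂, smul_smul] at hc'
      simp only [Submonoid.smul_def]
      exact (show ((c : B) * t₁ * t₂) • x₁ = ((c : B) * t₂ * t₁) • x₁ by rw [mul_right_comm]).trans hc'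
  have : IsLocalizedModule q.primeCompl (L.restrictScalars B) := by
    rw [show L.restrictScalars B = L₀ from LinearMap.ext fun x => rfl]
    exact hLloc₀
  exact ⟨L, isLocalizedModule_of_tower q.primeCompl q'.primeCompl hqq' (fun w hw => by
      obtain ⟨c, hc⟩ := IsLocalization.map_units S (⟨w, hw⟩ : q'.primeCompl)
      rw [Module.End.isUnit_iff]
      refine Function.bijective_iff_has_inverse.2 ⟨fun m => (↑c⁻¹ : S) • m, fun m => ?_, fun m => ?_⟩
      · show (↑c⁻¹ : S) • w • m = m
        rw [← algebraMap_smul S w m, ← hc, smul_smul, c.inv_mul, one_smul]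
      · show w • (↑c⁻¹ : S) • m = m
        rw [← algebraMap_smul S w, ← hc, smul_smul, c.mul_inv, one_smul]) L⟩

/-- Flatness of a localisation is inherited by further localisations. -/
theorem flat_localized_mono {R B N L₁ L₂ : Type u} [CommRing R] [CommRing B] [Algebra R B] [AddCommGroup N]
    [Module R N] [Module B N] [IsScalarTower R B N] [AddCommGroup L₁] [Module R L₁] [Module B L₁] [IsScalarTower R B L₁]
    [AddCommGroup L₂] [Module R L₂] [Module B L₂] [IsScalarTower R B L₂] (W₁ W₂ : Submonoid B)
    (hW : ∀ s ∈ W₁, ∃ t, t * s ∈ W₂) (f₁ : N →ₗ[B] L₁) [IsLocalizedModule W₁ f₁] (f₂ : N →ₗ[B] L₂)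
    [IsLocalizedModule W₂ f₂] [Module.Flat R L₁] : Module.Flat R L₂ := by
  rw [flat_localized_iff W₂ f₂]
  intro J y hy
  obtain ⟨s, hs, hsy⟩ := (flat_localized_iff W₁ f₁).1 ‹Module.Flat R L₁› J y hy
  obtain ⟨t, ht⟩ := hW s hs
  exact ⟨t * s, ht, by rw [mul_smul, hsy, smul_zero]⟩

/-- Trivial relations modulo an ideal that dies in `S` give flatness over `S`. -/
theorem flat_of_triv_ker {P Q : Type u} [CommRing P] [CommRing Q] {g : P →+* Q} {W : Submonoid Q}
    {N : Type u} [AddCommGroup N] [Module Q N] {S : Type u} [CommRing S] (φ : P →+* S)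
    {M : Type u} [AddCommGroup M] [Module Q M] [Module S M] [SMulCommClass Q S M]
    (j : N →ₗ[Q] M) [IsLocalizedModule W j] (hφ : ∀ (p : P) (m : M), φ p • m = g p • m)
    (hsurj : ∀ s : S, ∃ p u, g u ∈ W ∧ φ u * s = φ p) (hWunit : ∀ u, g u ∈ W → IsUnit (φ u))
    (hWS : ∀ w ∈ W, ∀ m : M, ∀ J : Ideal S, w • m ∈ J • (⊤ : Submodule S M) → m ∈ J • (⊤ : Submodule S M))
    (𝔞 : Ideal P) (h𝔞 : ∀ p ∈ 𝔞, φ p = 0) (h : Triv g W 𝔞 N) : Module.Flat S M := by
  have hmap : 𝔞.map φ = ⊥ := (Ideal.map_eq_bot_iff_le_ker φ).2 fun p hp => RingHom.mem_ker.2 (h𝔞 p hp)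
  have := flat_of_triv φ j hφ hsurj hWunit hWS 𝔞 ⊥ hmap.le (fun m hm => by rw [hmap]; exact hm) h
  have : Module.Flat S (S ⧸ (⊥ : Ideal S)) :=
    Module.Flat.of_linearEquiv (Submodule.quotEquivOfEqBot (⊥ : Ideal S) rfl)
  have := Module.Flat.trans S (S ⧸ (⊥ : Ideal S)) (M ⧸ (⊥ : Ideal S) • (⊤ : Submodule S M))
  exact Module.Flat.of_linearEquiv
    (Submodule.quotEquivOfEqBot ((⊥ : Ideal S) • (⊤ : Submodule S M)) (Submodule.bot_smul _)).symm

/-- Trivial relations modulo equations of `S` give flatness over `S`, for algebra maps. -/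
theorem flat_of_triv_span {R P Q : Type u} [CommRing R] [CommRing P] [CommRing Q] [Algebra R P] [Algebra R Q]
    {N : Type u} [AddCommGroup N] [Module Q N] {S : Type u} [CommRing S] [Algebra R S]
    {M : Type u} [AddCommGroup M] [Module Q M] [Module S M] [SMulCommClass Q S M]
    (W : Submonoid Q) (g : P →ₐ[R] Q) (φ : P →ₐ[R] S)
    (j : N →ₗ[Q] M) [IsLocalizedModule W j] (hφ : ∀ (p : P) (m : M), φ p • m = g p • m)
    (hsurj : ∀ s : S, ∃ p u, g u ∈ W ∧ φ u * s = φ p) (hWunit : ∀ u, g u ∈ W → IsUnit (φ u))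
    (hWS : ∀ w ∈ W, ∀ m : M, ∀ J : Ideal S, w • m ∈ J • (⊤ : Submodule S M) → m ∈ J • (⊤ : Submodule S M))
    (F : Finset P) (hF : ∀ f ∈ F, φ f = 0) (h : Triv g.toRingHom W (Ideal.span (F : Set P)) N) :
    Module.Flat S M :=
  flat_of_triv_ker φ.toRingHom j hφ hsurj hWunit hWS _
    (fun p hp => RingHom.mem_ker.1 ((Ideal.span_le.2 fun f hf => RingHom.mem_ker.2 (hF f hf) :
      Ideal.span (F : Set P) ≤ RingHom.ker φ.toRingHom) hp)) h

/-- The criterion, given a model of `M` which is flat over the base. -/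
theorem flat_of_fibre_model {R S S' M : Type u} [CommRing R] [CommRing S] [CommRing S'] [IsLocalRing R]
    [IsLocalRing S] [IsLocalRing S'] [Algebra R S] [Algebra S S'] [Algebra R S'] [IsScalarTower R S S']
    [IsLocalHom (algebraMap R S)] [IsLocalHom (algebraMap S S')]
    [AddCommGroup M] [Module S' M] [Module S M] [IsScalarTower S S' M] [Module.Finite S' M] [Nontrivial M]
    [Module R M] [IsScalarTower R S M] [Module.Flat R M]
    (hfib : Module.Flat (S ⧸ (maximalIdeal R).map (algebraMap R S))
      (M ⧸ (maximalIdeal R).map (algebraMap R S) • (⊤ : Submodule S M)))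
    {n : ℕ} (φ : MvPolynomial (Fin n) R →ₐ[R] S) (hsurjS : ∀ s : S, ∃ p u, IsUnit (φ u) ∧ φ u * s = φ p)
    (F : Finset (MvPolynomial (Fin n) R)) (hFker : ∀ f ∈ F, φ f = 0)
    (hkerle : RingHom.ker φ ≤ Ideal.span (F : Set _) ⊔ (maximalIdeal R).map (algebraMap R (MvPolynomial (Fin n) R)))
    {C : Type u} [CommRing C] [Algebra R C] [Algebra.FinitePresentation R C] [Algebra C S'] [IsScalarTower R C S']
    [Module C M] [IsScalarTower C S' M]
    (φC : MvPolynomial (Fin n) R →ₐ[R] C) (hφC : ∀ p, algebraMap C S' (φC p) = algebraMap S S' (φ p))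
    {N : Type u} [AddCommGroup N] [Module C N] [Module R N] [IsScalarTower R C N] [Module.FinitePresentation C N]
    [Module.Flat R N] (hkillN : ∀ f ∈ F, ∀ x : N, φC f • x = 0)
    (L : N →ₗ[C] M) [IsLocalizedModule ((maximalIdeal S').comap (algebraMap C S')).primeCompl L] :
    Module.Flat R S ∧ Module.Flat S M := by
  classical
  let q₂ : Ideal C := (maximalIdeal S').comap (algebraMap C S')
  have : q₂.IsPrime := Ideal.IsPrime.comap _
  have hlocR : ∀ r ∈ maximalIdeal R, algebraMap R S' r ∈ maximalIdeal S' := fun r hr => by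
    rw [IsScalarTower.algebraMap_apply R S S']
    exact map_nonunit _ _ (map_nonunit (algebraMap R S) r hr)
  let 𝔪P : Ideal (MvPolynomial (Fin n) R) := (maximalIdeal R).map (algebraMap R (MvPolynomial (Fin n) R))
  -- a polynomial presentation
  obtain ⟨m, ψ, hψ, hkerψ⟩ := Algebra.FinitePresentation.out (R := R) (A := C)
  let := ψ.toRingHom.toAlgebra
  have : IsScalarTower R (MvPolynomial (Fin m) R) (C) :=
    IsScalarTower.of_algebraMap_eq fun r => (ψ.commutes r).symm
  let := Module.compHom N ψ.toRingHom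
  let := Module.compHom M ψ.toRingHom
  have : IsScalarTower (MvPolynomial (Fin m) R) (C) N := IsScalarTower.of_algebraMap_smul fun p x => rfl
  have : IsScalarTower (MvPolynomial (Fin m) R) (C) M := IsScalarTower.of_algebraMap_smul fun p x => rfl
  have : IsScalarTower R (MvPolynomial (Fin m) R) N := IsScalarTower.of_algebraMap_smul fun r x => by
    show ψ (algebraMap R _ r) • x = r • x
    rw [AlgHom.commutes, algebraMap_smul]
  have : Module.FinitePresentation (MvPolynomial (Fin m) R) (C) :=
    Module.finitePresentation_of_surjective (Algebra.linearMap (MvPolynomial (Fin m) R) (C)) hψ hkerψ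
  have : Module.FinitePresentation (MvPolynomial (Fin m) R) N :=
    Module.FinitePresentation.trans _ N (C)
  choose gi hgi using fun i => hψ (φC (X i))
  let g : MvPolynomial (Fin n) R →ₐ[R] MvPolynomial (Fin m) R := MvPolynomial.aeval gi
  have hg : ∀ p, ψ (g p) = φC p := by
    have : ψ.comp g = φC :=
      MvPolynomial.algHom_ext fun i => by
        show ψ (MvPolynomial.aeval gi (X i)) = φC (X i)
        rw [MvPolynomial.aeval_X, hgi]
    exact fun p => AlgHom.congr_fun this p
  have hgS' : ∀ p, algebraMap (C) S' (ψ (g p)) = algebraMap S S' (φ p) := fun p => by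
    rw [hg, hφC]
  let 𝔔 : Ideal (MvPolynomial (Fin m) R) := q₂.comap ψ
  have : 𝔔.IsPrime := Ideal.IsPrime.comap _
  have h𝔔 : (maximalIdeal R).map (algebraMap R (MvPolynomial (Fin m) R)) ≤ 𝔔 := by
    rw [Ideal.map_le_iff_le_comap]
    intro r hr
    show algebraMap (C) S' (ψ (algebraMap R _ r)) ∈ maximalIdeal S'
    rw [AlgHom.commutes, ← IsScalarTower.algebraMap_apply]
    exact hlocR r hr
  have hWC : 𝔔.primeCompl.map (algebraMap (MvPolynomial (Fin m) R) (C)).toMonoidHom = q₂.primeCompl := by
    ext x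
    constructor
    · rintro ⟨p, hp, rfl⟩ h
      exact hp h
    · intro hx
      obtain ⟨p, rfl⟩ := hψ x
      exact ⟨p, hx, rfl⟩
  have : IsLocalizedModule 𝔔.primeCompl (L.restrictScalars (MvPolynomial (Fin m) R)) :=
    isLocalizedModule_restrict 𝔔.primeCompl q₂.primeCompl hWC L
  have hkill : ∀ f ∈ F, ∀ x : N, g f • x = 0 := fun f hf x => by
    show ψ (g f) • x = 0
    rw [hg, hkillN f hf]
  have hnt : ∃ x : N, ∀ t ∉ 𝔔, t • x ≠ 0 := by
    by_contra hcon
    push Not at hcon
    obtain ⟨y, hy⟩ := exists_ne (0 : M)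
    obtain ⟨⟨x, t⟩, ht⟩ := IsLocalizedModule.surj 𝔔.primeCompl (L.restrictScalars (MvPolynomial (Fin m) R)) y
    obtain ⟨t', ht', htx⟩ := hcon x
    have h0 : L.restrictScalars (MvPolynomial (Fin m) R) x = 0 :=
      (IsLocalizedModule.eq_zero_iff 𝔔.primeCompl _).2 ⟨⟨t', ht'⟩, htx⟩
    have hbij := (Module.End.isUnit_iff _).1 (IsLocalizedModule.map_units (L.restrictScalars (MvPolynomial (Fin m) R)) t)
    exact hy (hbij.1 (show t • y = t • (0 : M) by rw [ht, h0, smul_zero]))
  have : SMulCommClass (MvPolynomial (Fin m) R) S M := ⟨fun p z y => by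
    show ψ p • z • y = z • ψ p • y
    rw [← algebraMap_smul S' z y, ← algebraMap_smul S' z (ψ p • y), ← algebraMap_smul S' (ψ p) y,
      ← algebraMap_smul S' (ψ p) (algebraMap S S' z • y), smul_comm]⟩
  have hφg : ∀ (p : MvPolynomial (Fin n) R) (y : M), φ.toRingHom p • y = g.toRingHom p • y := fun p y => by
    show φ p • y = ψ (g p) • y
    rw [← algebraMap_smul S' (ψ (g p)) y, hgS', algebraMap_smul]
  have hgW : ∀ u, g u ∈ 𝔔.primeCompl ↔ IsUnit (φ u) := fun u => by
    show ¬(algebraMap (C) S' (ψ (g u)) ∈ maximalIdeal S') ↔ _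
    rw [hgS', IsLocalRing.notMem_maximalIdeal]
    exact isUnit_map_iff (algebraMap S S') _
  let J := (maximalIdeal R).map (algebraMap R S)
  have hJ : (Ideal.span (F : Set _) ⊔ 𝔪P).map φ.toRingHom = J := by
    rw [Ideal.map_sup, show (Ideal.span (F : Set (MvPolynomial (Fin n) R))).map φ.toRingHom = ⊥ from
      (Ideal.map_eq_bot_iff_le_ker _).2 (Ideal.span_le.2 fun f hf => hFker f hf), bot_sup_eq, Ideal.map_map]
    exact congrArg (fun f => Ideal.map f (maximalIdeal R)) φ.comp_algebraMap
  have hsurjS' : ∀ z : S, ∃ p u, g.toRingHom u ∈ 𝔔.primeCompl ∧ φ.toRingHom u * z = φ.toRingHom p := fun z =>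
    let ⟨p, u, hu, h⟩ := hsurjS z; ⟨p, u, (hgW u).2 hu, h⟩
  have hfib' : Triv g.toRingHom 𝔔.primeCompl (Ideal.span (F : Set _) ⊔ 𝔪P) N := by
    refine triv_of_flat φ.toRingHom (L.restrictScalars (MvPolynomial (Fin m) R)) hφg hsurjS' _ J hJ fun p hp => ?_
    have : ∀ z ∈ J, ∃ u p₀, IsUnit (φ u) ∧ p₀ ∈ 𝔪P ∧ φ u * z = φ p₀ := by
      intro z hz
      induction hz using Submodule.span_induction with
      | mem _ h =>
        obtain ⟨r, hr, rfl⟩ := h
        exact ⟨1, algebraMap R _ r, by rw [map_one]; exact isUnit_one, Ideal.mem_map_of_mem _ hr,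
          by rw [map_one, one_mul, AlgHom.commutes]⟩
      | zero => exact ⟨1, 0, by rw [map_one]; exact isUnit_one, zero_mem _, by simp⟩
      | add a b _ _ ha hb =>
        obtain ⟨u, a', hu, ha', h⟩ := ha
        obtain ⟨v, b', hv, hb', h'⟩ := hb
        exact ⟨u * v, v * a' + u * b', by rw [map_mul]; exact hu.mul hv,
          add_mem (Ideal.mul_mem_left _ _ ha') (Ideal.mul_mem_left _ _ hb'), by
            rw [map_add, map_mul, map_mul, map_mul, ← h, ← h']; ring⟩
      | smul c a _ ha =>
        obtain ⟨u, a', hu, ha', h⟩ := ha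
        obtain ⟨pc, uc, huc, hc⟩ := hsurjS c
        exact ⟨uc * u, pc * a', by rw [map_mul]; exact huc.mul hu, Ideal.mul_mem_left _ _ ha', by
          rw [map_mul, map_mul, ← hc, ← h, smul_eq_mul]; ring⟩
    obtain ⟨u, p₀, hu, hp₀, h⟩ := this _ hp
    refine ⟨u, (hgW u).2 hu, ?_⟩
    have hmem : u * p - p₀ ∈ RingHom.ker φ := by
      rw [RingHom.mem_ker, map_sub, map_mul, sub_eq_zero]
      exact h
    rw [← sub_add_cancel (u * p) p₀]
    exact add_mem (hkerle hmem) (Ideal.mem_sup_right hp₀)
  have hmain := triv_of_fibre g F hkill 𝔔 h𝔔 hnt hfib'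
  have hSM : Module.Flat S M := by
    refine flat_of_triv_span (N := N) 𝔔.primeCompl g φ (L.restrictScalars (MvPolynomial (Fin m) R)) hφg hsurjS'
      (fun u hu => (hgW u).1 hu) (fun w hw y I hy => ?_) F hFker hmain
    obtain ⟨v, hv⟩ := IsLocalRing.notMem_maximalIdeal.1 (show algebraMap C S' (ψ w) ∉ maximalIdeal S' from hw)
    have h1 : ∀ y' ∈ I • (⊤ : Submodule S M), (↑v⁻¹ : S') • y' ∈ I • (⊤ : Submodule S M) := by
      intro y' hy'
      induction hy' using Submodule.smul_induction_on' with
      | smul i hi y _ => rw [smul_comm]; exact Submodule.smul_mem_smul hi trivial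
      | add _ _ _ _ ha hb => rw [smul_add]; exact add_mem ha hb
    have h2 := h1 _ hy
    rwa [show w • y = algebraMap (C) S' (ψ w) • y from (algebraMap_smul S' (ψ w) y).symm,
      show algebraMap (C) S' (ψ w) = (v : S') from hv.symm, smul_smul, v.inv_mul, one_smul] at h2
  refine ⟨?_, hSM⟩
  have : Module.FaithfullyFlat S M := by
    rw [Module.FaithfullyFlat.iff_flat_and_proper_ideal]
    refine ⟨hSM, fun I hI htop => ?_⟩
    have h1 : maximalIdeal S' • (⊤ : Submodule S' M) = ⊤ := by
      rw [eq_top_iff]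
      intro y hy'
      clear hy'
      have hy : y ∈ I • (⊤ : Submodule S M) := by rw [htop]; trivial
      induction hy using Submodule.smul_induction_on' with
      | smul i hi y _ =>
        rw [← algebraMap_smul S' i y]
        exact Submodule.smul_mem_smul (map_nonunit (algebraMap S S') i (IsLocalRing.le_maximalIdeal hI hi)) trivial
      | add _ _ _ _ ha hb => exact add_mem ha hb
    have h2 : (⊤ : Submodule S' M) ≤ ⊥ := (Submodule.eq_bot_of_le_smul_of_le_jacobson_bot (maximalIdeal S') ⊤
      Module.Finite.fg_top h1.ge (IsLocalRing.jacobson_eq_maximalIdeal ⊥ bot_ne_top).ge).le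
    obtain ⟨y, hy⟩ := exists_ne (0 : M)
    exact hy ((Submodule.mem_bot S').1 (h2 trivial))
  exact flat_of_faithfullyFlat_module (M := M)


/-- Fibrewise criterion of flatness: `S` essentially of finite type, `S'` essentially of finite presentation. -/
theorem flat_of_fibre_essFP {R S S' M : Type u} [CommRing R] [CommRing S] [CommRing S'] [IsLocalRing R]
    [IsLocalRing S] [IsLocalRing S'] [Algebra R S] [Algebra S S'] [Algebra R S'] [IsScalarTower R S S']
    [IsLocalHom (algebraMap R S)] [IsLocalHom (algebraMap S S')] [Algebra.EssFiniteType R S]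
    (hS' : CAlgX.IsEssFinitePresentation R S')
    [AddCommGroup M] [Module S' M] [Module S M] [Module R M] [IsScalarTower S S' M] [IsScalarTower R S' M]
    [IsScalarTower R S M] [Module.FinitePresentation S' M] [Nontrivial M] [Module.Flat R M]
    (hfib : Module.Flat (S ⧸ (maximalIdeal R).map (algebraMap R S))
      (M ⧸ (maximalIdeal R).map (algebraMap R S) • (⊤ : Submodule S M))) :
    Module.Flat R S ∧ Module.Flat S M := by
  classical
  -- generators of `S` up to units
  let B := Algebra.EssFiniteType.subalgebra R S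
  obtain ⟨n, θ, hθ⟩ := Algebra.FiniteType.iff_quotient_mvPolynomial''.1 (inferInstance : Algebra.FiniteType R B)
  let φ : MvPolynomial (Fin n) R →ₐ[R] S := B.val.comp θ
  have hsurjS : ∀ s : S, ∃ p u, IsUnit (φ u) ∧ φ u * s = φ p := fun s => by
    obtain ⟨⟨b, t, ht⟩, hs⟩ := IsLocalization.surj (Algebra.EssFiniteType.submonoid R S) s
    obtain ⟨p, rfl⟩ := hθ b
    obtain ⟨u, rfl⟩ := hθ t
    exact ⟨p, u, ht, (mul_comm _ _).trans hs⟩
  -- the model of `S'`
  obtain ⟨B', _, _, _, _, _, q, _, hqdef, _⟩ := exists_prime_model hS'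
  choose cs hcs using fun i : Fin n => IsLocalization.surj q.primeCompl (algebraMap S S' (φ (X i)))
  let s : B' := ∏ i, ((cs i).2 : B')
  have hs : s ∉ q := fun h => by
    obtain ⟨i, -, hi⟩ := (Ideal.IsPrime.prod_mem_iff (hp := ‹q.IsPrime›)).1 h
    exact (cs i).2.2 hi
  obtain ⟨_, _, _, _, -⟩ := prime_model_away (R := R) q hqdef s hs
  let q₁ : Ideal (Localization.Away s) := (maximalIdeal S').comap (algebraMap (Localization.Away s) S')
  have : q₁.IsPrime := Ideal.IsPrime.comap _
  have : Algebra.FinitePresentation B' (Localization.Away s) := IsLocalization.Away.finitePresentation s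
  have : Algebra.FinitePresentation R (Localization.Away s) := Algebra.FinitePresentation.trans R B' _
  have hci : ∀ i, ∃ c : Localization.Away s, algebraMap (Localization.Away s) S' c = algebraMap S S' (φ (X i)) := by
    intro i
    obtain ⟨v, hv⟩ := Finset.dvd_prod_of_mem (fun i => ((cs i).2 : B')) (Finset.mem_univ i)
    obtain ⟨w, hw⟩ := IsLocalization.map_units (Localization.Away s) (⟨s, Submonoid.mem_powers s⟩ : Submonoid.powers s)
    refine ⟨algebraMap B' _ ((cs i).1 * v) * ↑w⁻¹, ?_⟩
    have hsS : IsUnit (algebraMap B' S' s) := IsLocalization.map_units S' (⟨s, hs⟩ : q.primeCompl)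
    apply hsS.mul_left_cancel
    rw [map_mul, ← IsScalarTower.algebraMap_apply]
    have hw' : algebraMap B' S' s * algebraMap (Localization.Away s) S' ↑w⁻¹ = 1 := by
      rw [IsScalarTower.algebraMap_apply B' (Localization.Away s) S' s, ← map_mul,
        show algebraMap B' (Localization.Away s) s = (w : Localization.Away s) from hw.symm, w.mul_inv, map_one]
    rw [mul_left_comm, hw', mul_one, map_mul, ← hcs i,
      show algebraMap B' S' s = algebraMap B' S' ((cs i).2 : B') * algebraMap B' S' v by rw [← map_mul]; exact congrArg _ hv]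
    ring
  choose ci hci using hci
  let φC : MvPolynomial (Fin n) R →ₐ[R] Localization.Away s := MvPolynomial.aeval ci
  have hφC : ∀ p, algebraMap (Localization.Away s) S' (φC p) = algebraMap S S' (φ p) := by
    have : (IsScalarTower.toAlgHom R (Localization.Away s) S').comp φC = (IsScalarTower.toAlgHom R S S').comp φ :=
      MvPolynomial.algHom_ext fun i => by
        show algebraMap (Localization.Away s) S' (MvPolynomial.aeval ci (X i)) = algebraMap S S' (φ (X i))
        rw [MvPolynomial.aeval_X, hci]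
    exact fun p => AlgHom.congr_fun this p
  -- finitely many equations of `S`
  let res : MvPolynomial (Fin n) R →+* MvPolynomial (Fin n) (ResidueField R) := MvPolynomial.map (residue R)
  have hres : Function.Surjective res := MvPolynomial.map_surjective _ residue_surjective
  obtain ⟨F', hF'⟩ := IsNoetherian.noetherian ((RingHom.ker φ).map res)
  have hF'lift : ∀ z ∈ F', ∃ f ∈ RingHom.ker φ, res f = z := fun z hz =>
    (Ideal.mem_map_iff_of_surjective res hres).1 (hF' ▸ Submodule.subset_span hz)
  choose! lift hlift hlift' using hF'lift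
  let F : Finset (MvPolynomial (Fin n) R) := F'.image lift
  let 𝔪P : Ideal (MvPolynomial (Fin n) R) := (maximalIdeal R).map (algebraMap R (MvPolynomial (Fin n) R))
  have hFker : ∀ f ∈ F, φ f = 0 := fun f hf => by
    obtain ⟨z, hz, rfl⟩ := Finset.mem_image.1 hf
    exact RingHom.mem_ker.1 (hlift z hz)
  have hkerle : RingHom.ker φ ≤ Ideal.span (F : Set _) ⊔ 𝔪P := by
    intro p hp
    have h1 : res p ∈ (Ideal.span (F : Set _)).map res := by
      rw [Ideal.map_span]
      have h2 := Ideal.mem_map_of_mem res hp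
      rw [← hF'] at h2
      refine Submodule.span_mono ?_ h2
      intro z hz
      exact ⟨lift z, Finset.mem_coe.2 (Finset.mem_image_of_mem _ hz), hlift' z hz⟩
    obtain ⟨p', hp', hpp'⟩ := (Ideal.mem_map_iff_of_surjective res hres).1 h1
    rw [← sub_add_cancel p p', add_comm]
    refine Submodule.add_mem_sup hp' ?_
    have : p - p' ∈ RingHom.ker res := by rw [RingHom.mem_ker, map_sub, hpp', sub_self]
    rw [MvPolynomial.ker_map, IsLocalRing.ker_residue] at this
    exact this
  have hkillC : ∀ f ∈ F, ∃ t ∉ q₁, t * φC f = 0 := fun f hf => by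
    obtain ⟨⟨t, ht⟩, h⟩ := (IsLocalization.map_eq_zero_iff q₁.primeCompl S' (φC f)).1
      (by rw [hφC, hFker f hf, map_zero])
    exact ⟨t, ht, h⟩
  choose! tk htk htk' using hkillC
  -- a model of `M`, flat after shrinking
  let := Module.compHom M (algebraMap (Localization.Away s) S')
  have : IsScalarTower (Localization.Away s) S' M := IsScalarTower.of_algebraMap_smul fun c m => rfl
  have : IsScalarTower R (Localization.Away s) M := IsScalarTower.of_algebraMap_smul fun r m => by
    show algebraMap (Localization.Away s) S' (algebraMap R _ r) • m = r • m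
    rw [← IsScalarTower.algebraMap_apply, algebraMap_smul]
  obtain ⟨N₁, _, _, hN₁, f₁, hf₁⟩ := exists_fp_model (B := Localization.Away s) q₁.primeCompl M (S := S')
  let := Module.compHom N₁ (algebraMap R (Localization.Away s))
  have : IsScalarTower R (Localization.Away s) N₁ := IsScalarTower.of_algebraMap_smul fun r x => rfl
  have hflat₁ : Module.Flat R (LocalizedModule q₁.primeCompl N₁) :=
    Module.Flat.of_linearEquiv ((IsLocalizedModule.linearEquiv q₁.primeCompl
      (LocalizedModule.mkLinearMap q₁.primeCompl N₁) f₁).restrictScalars R)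
  obtain ⟨h₀, hh₀, hflat₀⟩ := exists_flat_nhd N₁ q₁ hflat₁
  let T : Localization.Away s := h₀ * ∏ f ∈ F, tk f
  have hT : T ∉ q₁ := Ideal.IsPrime.mul_notMem ‹_› hh₀ fun h => by
    obtain ⟨f, hf, h'⟩ := (Ideal.IsPrime.prod_mem_iff (hp := ‹q₁.IsPrime›)).1 h
    exact htk f hf h'
  obtain ⟨_, _, _, _, hqq'⟩ := prime_model_away (R := R) q₁ rfl T hT
  let q₂ : Ideal (Localization.Away T) := (maximalIdeal S').comap (algebraMap (Localization.Away T) S')
  have : q₂.IsPrime := Ideal.IsPrime.comap _
  have : Algebra.FinitePresentation (Localization.Away s) (Localization.Away T) := IsLocalization.Away.finitePresentation T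
  have : Algebra.FinitePresentation R (Localization.Away T) := Algebra.FinitePresentation.trans R (Localization.Away s) _
  let := Module.compHom M (algebraMap (Localization.Away T) S')
  have : IsScalarTower (Localization.Away T) S' M := IsScalarTower.of_algebraMap_smul fun c m => rfl
  have : IsScalarTower (Localization.Away s) (Localization.Away T) M := ⟨fun c t m => by
    show algebraMap (Localization.Away T) S' (c • t) • m =
      algebraMap (Localization.Away s) S' c • algebraMap (Localization.Away T) S' t • m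
    rw [show c • t = algebraMap (Localization.Away s) (Localization.Away T) c * t from Algebra.smul_def c t, map_mul,
      ← IsScalarTower.algebraMap_apply, mul_smul]⟩
  let N := LocalizedModule (Submonoid.powers T) N₁
  obtain ⟨L, hL⟩ := module_model_away (R := R) (S := S') q₁ T hT q₂ hqq' f₁
  have hh₀flat : Module.Flat R (LocalizedModule (Submonoid.powers h₀) N₁) := hflat₀ _ (Submonoid.mem_powers h₀)
  have : Module.Flat R N := by
    refine flat_localized_mono (Submonoid.powers h₀) (Submonoid.powers T) ?_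
      (LocalizedModule.mkLinearMap (Submonoid.powers h₀) N₁) (LocalizedModule.mkLinearMap (Submonoid.powers T) N₁)
    rintro _ ⟨k, rfl⟩
    exact ⟨(∏ f ∈ F, tk f) ^ k, k, by simp only [T, mul_pow]; ring⟩
  let φT : MvPolynomial (Fin n) R →ₐ[R] Localization.Away T :=
    (IsScalarTower.toAlgHom R (Localization.Away s) (Localization.Away T)).comp φC
  refine flat_of_fibre_model (R := R) (S := S) (S' := S') (M := M) (C := Localization.Away T) hfib φ hsurjS F hFker hkerle φT (fun p => ?_) (N := N)
    (fun f hf x => ?_) L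
  · show algebraMap (Localization.Away T) S' (algebraMap (Localization.Away s) (Localization.Away T) (φC p)) = _
    rw [← IsScalarTower.algebraMap_apply, hφC]
  · show algebraMap (Localization.Away s) (Localization.Away T) (φC f) • x = 0
    have hu : IsUnit (algebraMap (Localization.Away s) (Localization.Away T) (tk f)) :=
      isUnit_of_dvd_unit (map_dvd _ ((Finset.dvd_prod_of_mem tk hf).trans (dvd_mul_left _ h₀)))
        (IsLocalization.map_units (Localization.Away T) (⟨T, Submonoid.mem_powers T⟩ : Submonoid.powers T))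
    have h0 : algebraMap (Localization.Away s) (Localization.Away T) (φC f) = 0 :=
      hu.mul_right_eq_zero.1 (by rw [← map_mul, htk' f hf, map_zero])
    rw [h0]
    exact zero_smul (Localization.Away T) x

end Groth.Agent.FlatModel
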