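import Mathlib
import Groth.Agent.S0393

/-!
A bounded complex of finite modules, flat over the base and exact modulo the maximal ideal of the
base in positive degrees, is exact in positive degrees with flat zeroth homology.
-/

set_option autoImplicit false

namespace Groth.Agent.FlatModel

open TensorProduct IsLocalRing

universe u

theorem chain_exact_flat {R S : Type u} [CommRing R] [CommRing S] [IsLocalRing R] [IsLocalRing S]
    [IsNoetherianRing S] [Algebra R S] [IsLocalHom (algebraMap R S)] (e : ℕ)
    (X : ℕ → Type u) [∀ j, AddCommGroup (X j)] [∀ j, Module S (X j)] [∀ j, Module R (X j)]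
    [∀ j, IsScalarTower R S (X j)] [∀ j, Module.Finite S (X j)] [∀ j, Module.Flat R (X j)]
    (d : ∀ j, X (j + 1) →ₗ[S] X j) (hd : ∀ j x, d j (d (j + 1) x) = 0) [Subsingleton (X (e + 1))]
    (h : ∀ j < e, ∀ x : X (j + 1), d j x ∈ (maximalIdeal R).map (algebraMap R S) • (⊤ : Submodule S (X j)) →
      x ∈ LinearMap.range (d (j + 1)) ⊔ (maximalIdeal R).map (algebraMap R S) • (⊤ : Submodule S (X (j + 1)))) :
    (∀ j < e, LinearMap.ker (d j) = LinearMap.range (d (j + 1))) ∧
      Module.Flat R (X 0 ⧸ LinearMap.range (d 0)) := by
  have key : ∀ j ≤ e, (∀ i, j ≤ i → i < e → LinearMap.ker (d i) = LinearMap.range (d (i + 1))) ∧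
      Module.Flat R (X j ⧸ LinearMap.range (d j)) := by
    intro j hj
    induction hj using Nat.decreasingInduction with
    | self =>
      refine ⟨fun i h1 h2 => absurd h1 (by omega), ?_⟩
      have : LinearMap.range (d e) = ⊥ := by
        rw [eq_bot_iff]
        rintro _ ⟨x, rfl⟩
        rw [Subsingleton.elim x 0, map_zero]
        exact zero_mem _
      exact Module.Flat.of_linearEquiv ((Submodule.quotEquivOfEqBot _ this).restrictScalars R)
    | of_succ j hje ih =>
      obtain ⟨ih1, ih2⟩ := ih
      let u : (X (j + 1) ⧸ LinearMap.range (d (j + 1))) →ₗ[S] X j :=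
        (LinearMap.range (d (j + 1))).liftQ (d j) (by
          rintro _ ⟨x, rfl⟩
          exact hd j x)
      have hmem : ∀ {M : Type u} [AddCommGroup M] [Module S M] [Module R M] [IsScalarTower R S M] (x : M),
          x ∈ (maximalIdeal R).map (algebraMap R S) • (⊤ : Submodule S M) ↔
            x ∈ maximalIdeal R • (⊤ : Submodule R M) := by
        intro M _ _ _ _ x
        rw [← Submodule.restrictScalars_mem R, Submodule.restrictScalars_map_smul_eq, Submodule.restrictScalars_top]
      have key : Function.Injective (LinearMap.lTensor (ResidueField R) (u.restrictScalars R)) := by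
        rw [injective_iff_map_eq_zero]
        intro z hz
        obtain ⟨q, rfl⟩ := S0393.exists_one_tmul _ z
        have hz' : (1 : R ⧸ maximalIdeal R) ⊗ₜ[R] u q = 0 := hz
        refine (S0393.one_tmul_eq_zero_iff _ _).2 ?_
        obtain ⟨x, rfl⟩ := Submodule.Quotient.mk_surjective _ q
        obtain ⟨_, ⟨y, rfl⟩, w, hw, rfl⟩ :=
          Submodule.mem_sup.1 (h j hje x ((hmem _).2 ((S0393.one_tmul_eq_zero_iff _ _).1 hz')))
        rw [Submodule.Quotient.mk_add, (Submodule.Quotient.mk_eq_zero _).2 (LinearMap.mem_range_self _ y), zero_add, ← hmem]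
        have h1 := Submodule.mem_map_of_mem (f := (LinearMap.range (d (j + 1))).mkQ) hw
        rw [Submodule.map_smul''] at h1
        exact Submodule.smul_mono le_rfl le_top h1
      obtain ⟨hinj, hflat⟩ := S0393.result (S := S) (u.restrictScalars R) key
      refine ⟨fun i h1 h2 => ?_, ?_⟩
      · rcases Nat.eq_or_lt_of_le h1 with rfl | h3
        · refine le_antisymm (fun x hx => ?_) ?_
          · have h4 : u (Submodule.Quotient.mk x) = u 0 := by rw [map_zero]; exact hx
            exact (Submodule.Quotient.mk_eq_zero _).1 (hinj h4)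
          · rintro _ ⟨x, rfl⟩
            exact hd j x
        · exact ih1 i h3 h2
      · rw [LinearMap.range_restrictScalars] at hflat
        have hr : LinearMap.range u = LinearMap.range (d j) := Submodule.range_liftQ _ _ _
        exact Module.Flat.of_linearEquiv (((Submodule.quotEquivOfEq _ _ hr.symm).restrictScalars R).trans
          (Submodule.Quotient.restrictScalarsEquiv R (LinearMap.range u)).symm)
  obtain ⟨h1, h2⟩ := key 0 (Nat.zero_le e)
  exact ⟨fun j hj => h1 j (Nat.zero_le j) hj, h2⟩

end Groth.Agent.FlatModel
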