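import Groth.Agent.FlatModel.FibreTriv
import Mathlib.RingTheory.IsTensorProduct
import Mathlib.RingTheory.Localization.BaseChange
import Mathlib.RingTheory.Flat.Stability

/-!
Trivial relations are inherited by base change.
-/

set_option autoImplicit false

namespace Groth.Agent.FlatModel

open TensorProduct

universe u

/-- Relations in a base change of a module that is flat at `W` become trivial at `W`. -/
theorem trivial_relation_baseChange {B C D : Type u} [CommRing B] [CommRing C] [Algebra B C] [CommRing D] [Algebra B D]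
    {N L : Type u} [AddCommGroup N] [Module B N] [Module C N] [IsScalarTower B C N]
    [AddCommGroup L] [Module B L] [Module C L] [IsScalarTower B C L]
    (W : Submonoid C) (j : N →ₗ[C] L) [IsLocalizedModule W j] [Module.Flat B L]
    {k : ℕ} (f : Fin k → D) (x : Fin k → N ⊗[B] D)
    (h : ∑ i, (LinearMap.mulLeft B (f i)).lTensor N (x i) = 0) :
    ∃ s ∈ W, ∃ (l : ℕ) (a : Fin k → Fin l → D) (y : Fin l → N ⊗[B] D),
      (∀ i, s • x i = ∑ j', (LinearMap.mulLeft B (a i j')).lTensor N (y j')) ∧ ∀ j', ∑ i, f i * a i j' = 0 := by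
  classical
  let φ := AlgebraTensorModule.rTensor B D j
  let e := TensorProduct.comm B L D
  have hnat : ∀ (d : D) (z : N ⊗[B] D), e (φ ((LinearMap.mulLeft B d).lTensor N z)) = d • e (φ z) := by
    intro d z
    induction z using TensorProduct.induction_on with
    | zero => simp
    | tmul n c => simp [e, φ, TensorProduct.smul_tmul']
    | add a b ha hb => simp only [map_add, ha, hb, smul_add]
  have hC : ∀ (d : D) (c : C) (z : N ⊗[B] D),
      (LinearMap.mulLeft B d).lTensor N (c • z) = c • (LinearMap.mulLeft B d).lTensor N z := fun d c z =>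
    (AlgebraTensorModule.lTensor C N (LinearMap.mulLeft B d)).map_smul c z
  have h1 : ∑ i, f i • e (φ (x i)) = 0 := by simp only [← hnat, ← map_sum, h, map_zero]
  obtain ⟨l, a, y, hy, ha⟩ := Module.Flat.isTrivialRelation_of_sum_smul_eq_zero h1
  choose yn hyn using fun j' => IsLocalizedModule.surj W φ (e.symm (y j'))
  let T : C := ∏ j', ((yn j').2 : C)
  have hT : T ∈ W := W.prod_mem fun j' _ => (yn j').2.2
  choose tc htc using fun j' => (Finset.dvd_prod_of_mem (fun j' => ((yn j').2 : C)) (Finset.mem_univ j') : ((yn j').2 : C) ∣ T)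
  have hTy : ∀ j', φ (tc j' • (yn j').1) = T • e.symm (y j') := fun j' => by
    rw [map_smul, ← hyn j', Submonoid.smul_def, smul_smul, mul_comm, ← htc j']
  have he : ∀ (c : C) (d : D) (z : L ⊗[B] D), e.symm (d • e (c • z)) = c • e.symm (d • e z) := by
    intro c d z
    induction z using TensorProduct.induction_on with
    | zero => simp
    | tmul n c' => simp [e, TensorProduct.smul_tmul']
    | add a b ha hb => simp only [map_add, smul_add, ha, hb]
  have hcmp : ∀ i, φ (T • x i - ∑ j', (LinearMap.mulLeft B (a i j')).lTensor N (tc j' • (yn j').1)) = 0 := fun i => by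
    have hy' : e (φ (x i)) = ∑ j', a i j' • y j' := hy i
    rw [map_sub, sub_eq_zero, map_smul, map_sum, ← e.symm_apply_apply (φ (x i)), hy', map_sum, Finset.smul_sum]
    refine Finset.sum_congr rfl fun j' _ => ?_
    apply e.injective
    have := he T (a i j') (e.symm (y j'))
    rw [e.apply_symm_apply] at this
    rw [hnat, hTy, ← this, e.apply_symm_apply]
  choose w hw using fun i => IsLocalizedModule.exists_of_eq (S := W) (f := φ) ((hcmp i).trans (map_zero φ).symm)
  let S₀ : C := ∏ i, (w i : C)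
  refine ⟨S₀ * T, W.mul_mem (W.prod_mem fun i _ => (w i).2) hT, l, a, fun j' => S₀ • (tc j' • (yn j').1), fun i => ?_, ha⟩
  obtain ⟨c, hc⟩ : (w i : C) ∣ S₀ := Finset.dvd_prod_of_mem (fun i => (w i : C)) (Finset.mem_univ i)
  have := hw i
  rw [Submonoid.smul_def, Submonoid.smul_def, smul_zero] at this
  simp only [hC, ← Finset.smul_sum]
  rw [mul_smul, ← sub_eq_zero, ← smul_sub]
  simp only [Finset.smul_sum, ← hC]
  rw [hc, mul_comm, mul_smul]
  simp only [← Finset.smul_sum, hC] at this ⊢
  rw [this, smul_zero]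

variable {R₂ R : Type u} [CommRing R₂] [CommRing R] [Algebra R₂ R]
  {P₂ Q₂ P Q : Type u} [CommRing P₂] [CommRing Q₂] [CommRing P] [CommRing Q]
  [Algebra R₂ P₂] [Algebra R₂ Q₂] [Algebra R P] [Algebra R Q] [Algebra R₂ P] [Algebra R₂ Q]
  [IsScalarTower R₂ R P]
  {N₂ N : Type u} [AddCommGroup N₂] [Module R₂ N₂] [Module Q₂ N₂] [IsScalarTower R₂ Q₂ N₂]
  [AddCommGroup N] [Module R N] [Module R₂ N] [Module Q N] [IsScalarTower R Q N] [IsScalarTower R₂ R N]

/-- Triviality of relations is inherited by base change. -/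
theorem triv_baseChange (g₂ : P₂ →ₐ[R₂] Q₂) (g : P →ₐ[R] Q) (α : P₂ →ₐ[R₂] P) (β : Q₂ →ₐ[R₂] Q)
    (hg : ∀ p, g (α p) = β (g₂ p)) (hα : IsBaseChange R α.toLinearMap)
    (j : N₂ →ₗ[R₂] N) (hjb : IsBaseChange R j) (hj : ∀ q z, j (q • z) = β q • j z)
    (𝔞 : Ideal P) (hkill : ∀ a ∈ 𝔞, ∀ n : N, g a • n = 0)
    {B C : Type u} [CommRing B] [CommRing C] [Algebra B C] [Module B N₂] [Module C N₂] [IsScalarTower B C N₂]
    (b : P₂ →+* B) (hb : Function.Surjective b) (hbker : ∀ p, b p = 0 → α p ∈ 𝔞)
    (c : Q₂ →+* C) (hbc : ∀ p, algebraMap B C (b p) = c (g₂ p)) (hc : ∀ q (z : N₂), c q • z = q • z)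
    (W₂ : Submonoid Q₂) (W : Submonoid Q) (hW : ∀ q ∈ W₂, β q ∈ W)
    {L : Type u} [AddCommGroup L] [Module B L] [Module C L] [IsScalarTower B C L]
    (jL : N₂ →ₗ[C] L) [IsLocalizedModule (W₂.map c) jL] [Module.Flat B L] :
    Triv g.toRingHom W 𝔞 N := by
  classical
  let D := P ⧸ 𝔞
  let θ : B →+* D := RingHom.liftOfSurjective b hb
    ⟨(Ideal.Quotient.mk 𝔞).comp α.toRingHom, fun p hp => Ideal.Quotient.eq_zero_iff_mem.2 (hbker p hp)⟩
  let := θ.toAlgebra
  have hθ : ∀ p, algebraMap B D (b p) = Ideal.Quotient.mk 𝔞 (α p) := fun p =>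
    RingHom.liftOfRightInverse_comp_apply b _ _ _ p
  let act : D →+* Module.End Q N := Ideal.Quotient.lift 𝔞 ((algebraMap Q (Module.End Q N)).comp g.toRingHom)
    fun a ha => LinearMap.ext fun n => hkill a ha n
  let := Module.compHom N act
  have hact : ∀ (p : P) (n : N), Ideal.Quotient.mk 𝔞 p • n = g p • n := fun p n => rfl
  have hbz : ∀ p (z : N₂), b p • z = g₂ p • z := fun p z => by rw [← algebraMap_smul C (b p) z, hbc, hc]
  let f₀ : N₂ →+ D →+ N := AddMonoidHom.mk' (fun z => AddMonoidHom.mk' (fun d => d • j z) fun d d' => add_smul d d' _)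
    fun z z' => by ext d; simp [smul_add]
  let βN : N₂ ⊗[B] D →+ N := TensorProduct.liftAddHom f₀ fun bb z d => by
    obtain ⟨p, rfl⟩ := hb bb
    show d • j (b p • z) = (b p • d) • j z
    obtain ⟨d, rfl⟩ := Ideal.Quotient.mk_surjective d
    rw [hbz, hj, Algebra.smul_def (b p), hθ, ← map_mul, hact, hact, map_mul, hg, mul_comm, mul_smul]
  have hβN : ∀ z d, βN (z ⊗ₜ d) = d • j z := fun z d => rfl
  let γ : N₂ ⊗[R₂] R →+ N₂ ⊗[B] D := TensorProduct.liftAddHom
    (AddMonoidHom.mk' (fun z => AddMonoidHom.mk' (fun r => z ⊗ₜ[B] Ideal.Quotient.mk 𝔞 (algebraMap R P r))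
      fun r r' => by rw [map_add, map_add, tmul_add]) fun z z' => by ext r; simp [add_tmul])
    fun a z r => by
      show (a • z) ⊗ₜ[B] _ = z ⊗ₜ[B] Ideal.Quotient.mk 𝔞 (algebraMap R P (a • r))
      rw [← algebraMap_smul Q₂ a z, ← g₂.commutes, ← hbz, TensorProduct.smul_tmul, Algebra.smul_def (b _), hθ, ← map_mul]
      congr 2
      rw [α.commutes, IsScalarTower.algebraMap_apply R₂ R P, ← map_mul, Algebra.smul_def]
  have hbij : Function.Bijective (fun t => βN (γ t)) := by
    have : (fun t => βN (γ t)) = fun t => hjb.equiv (TensorProduct.comm R₂ N₂ R t) := by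
      funext t
      induction t using TensorProduct.induction_on with
      | zero => simp
      | tmul z r =>
        show Ideal.Quotient.mk 𝔞 (algebraMap R P r) • j z = _
        rw [hact, AlgHom.commutes, algebraMap_smul, TensorProduct.comm_tmul, IsBaseChange.equiv_tmul]
      | add a a' h h' => simp only [map_add, h, h']
    rw [this]
    exact hjb.equiv.bijective.comp (TensorProduct.comm R₂ N₂ R).bijective
  have hγ : Function.Surjective γ := by
    intro t
    induction t using TensorProduct.induction_on with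
    | zero => exact ⟨0, map_zero _⟩
    | tmul z d =>
      obtain ⟨p, rfl⟩ := Ideal.Quotient.mk_surjective d
      obtain ⟨s, rfl⟩ := hα.equiv.surjective p
      induction s using TensorProduct.induction_on with
      | zero => exact ⟨0, by simp⟩
      | tmul r p₂ =>
        refine ⟨(g₂ p₂ • z) ⊗ₜ r, ?_⟩
        show (g₂ p₂ • z) ⊗ₜ[B] Ideal.Quotient.mk 𝔞 (algebraMap R P r) = _
        rw [← hbz, TensorProduct.smul_tmul, Algebra.smul_def (b p₂), hθ, ← map_mul, IsBaseChange.equiv_tmul,
          AlgHom.toLinearMap_apply, Algebra.smul_def, mul_comm]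
      | add a a' h h' =>
        obtain ⟨u, hu⟩ := h
        obtain ⟨u', hu'⟩ := h'
        exact ⟨u + u', by simp only [map_add, hu, hu', tmul_add]⟩
    | add a a' h h' =>
      obtain ⟨u, hu⟩ := h
      obtain ⟨u', hu'⟩ := h'
      exact ⟨u + u', by rw [map_add, hu, hu']⟩
  have hβinj : Function.Injective βN := by
    intro u v h
    obtain ⟨u, rfl⟩ := hγ u
    obtain ⟨v, rfl⟩ := hγ v
    exact congrArg γ (hbij.1 h)
  have hβsurj : Function.Surjective βN := fun n => let ⟨t, ht⟩ := hbij.2 n; ⟨γ t, ht⟩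
  have hβmul : ∀ (d : D) (w : N₂ ⊗[B] D), βN ((LinearMap.mulLeft B d).lTensor N₂ w) = d • βN w := by
    intro d w
    induction w using TensorProduct.induction_on with
    | zero => simp
    | tmul z d' => rw [LinearMap.lTensor_tmul, LinearMap.mulLeft_apply, hβN, hβN, mul_smul]
    | add a a' h h' => simp only [map_add, h, h', smul_add]
  have hβc : ∀ (q : Q₂) (w : N₂ ⊗[B] D), βN (c q • w) = β q • βN w := by
    intro q w
    induction w using TensorProduct.induction_on with
    | zero => simp
    | tmul z d' =>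
      obtain ⟨d', rfl⟩ := Ideal.Quotient.mk_surjective d'
      rw [TensorProduct.smul_tmul', hβN, hβN, hc, hj, hact, hact, smul_comm]
    | add a a' h h' => simp only [smul_add, map_add, h, h']
  have hzero : ∀ n ∈ 𝔞.map g.toRingHom • (⊤ : Submodule Q N), n = 0 := by
    intro n hn
    induction hn using Submodule.smul_induction_on' with
    | smul i hi y _ =>
      have : ∀ y : N, i • y = 0 := by
        induction hi using Submodule.span_induction with
        | mem _ h => obtain ⟨a, ha, rfl⟩ := h; exact hkill a ha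
        | zero => intro y; simp
        | add a a' _ _ h h' => intro y; rw [add_smul, h, h', add_zero]
        | smul r a _ h => intro y; rw [smul_eq_mul, mul_comm, mul_smul]; exact h _
      exact this y
    | add _ _ _ _ h h' => rw [h, h', add_zero]
  intro k f x hx
  choose x' hx' using fun i => hβsurj (x i)
  obtain ⟨s, ⟨q, hq, rfl⟩, l, a, y, hy, ha⟩ :=
    trivial_relation_baseChange (W₂.map c) jL (fun i => Ideal.Quotient.mk 𝔞 (f i)) x' (hβinj (by
      rw [map_zero, map_sum, ← hzero _ hx]
      exact Finset.sum_congr rfl fun i _ => by rw [hβmul, hx', hact]; rfl))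
  choose a' ha' using fun i j' => Ideal.Quotient.mk_surjective (a i j')
  refine ⟨β q, hW q hq, l, a', fun j' => βN (y j'), fun i => ?_, fun j' => ?_⟩
  · have h1 := congrArg βN (hy i)
    rw [hβc, hx', map_sum] at h1
    rw [h1]
    have h2 : ∀ j', βN ((LinearMap.mulLeft B (a i j')).lTensor N₂ (y j')) = g.toRingHom (a' i j') • βN (y j') :=
      fun j' => by rw [hβmul, ← ha', hact]; rfl
    simp only [h2, sub_self]
    exact zero_mem _
  · rw [← Ideal.Quotient.eq_zero_iff_mem, map_sum, ← ha j']
    exact Finset.sum_congr rfl fun i _ => by rw [map_mul, ha']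

end Groth.Agent.FlatModel
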