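import Groth.Agent.FlatModel.InjModMax

/-!
The criterion of flatness of a cokernel by injectivity modulo the maximal ideal, over an arbitrary
local ring: reduction to a finitely generated subring.
-/

set_option autoImplicit false

namespace Groth.Agent.FlatModel

open MvPolynomial TensorProduct

universe u

/-- Flatness of the relations descends to a noetherian subring. -/
theorem exists_noetherian_flatC {a n : ℕ} {R₀ R : Type u} [CommRing R₀] [IsNoetherianRing R₀] [CommRing R]
    [Algebra R₀ R] (K₀ : Submodule (MvPolynomial (Fin n) R₀) (V a n R₀)) (h : FlatC K₀ R) :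
    ∃ (R₁ : Type u) (_ : CommRing R₁) (_ : Algebra R₀ R₁) (_ : Algebra R₁ R) (_ : IsScalarTower R₀ R₁ R)
      (_ : IsNoetherianRing R₁), Function.Injective (algebraMap R₁ R) ∧ FlatC K₀ R₁ := by
  obtain ⟨R₁, hR₁, hflat⟩ := exists_fg_flatC K₀ h
  have : Algebra.FiniteType R₀ R₁ := (Subalgebra.fg_iff_finiteType R₁).1 hR₁
  exact ⟨R₁, inferInstance, inferInstance, inferInstance, inferInstance,
    Algebra.FiniteType.isNoetherianRing R₀ R₁, Subtype.val_injective, hflat⟩

theorem mapV_linearCombination {a b n : ℕ} {R S : Type u} [CommRing R] [CommRing S] (g : R →+* S)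
    (col : Fin b → V a n R) (v : V b n R) :
    mapV g (Fintype.linearCombination (MvPolynomial (Fin n) R) col v) =
      Fintype.linearCombination (MvPolynomial (Fin n) S) (fun i => mapV g (col i)) (mapV g v) := by
  ext i : 1
  simp [Fintype.linearCombination_apply, Finset.sum_apply]

/-- Injectivity modulo the maximal ideal at a prime over it gives injectivity and a flat cokernel
there, for finitely presented modules with flat target. -/
theorem injective_flat_of_injective_mod_max {R : Type u} [CommRing R] [IsLocalRing R] {n : ℕ}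
    (Q : Ideal (MvPolynomial (Fin n) R)) [Q.IsPrime] (hQ : (IsLocalRing.maximalIdeal R).map C ≤ Q)
    {MA NA : Type u} [AddCommGroup MA] [Module (MvPolynomial (Fin n) R) MA]
    [Module.FinitePresentation (MvPolynomial (Fin n) R) MA]
    [AddCommGroup NA] [Module (MvPolynomial (Fin n) R) NA] [Module R NA]
    [IsScalarTower R (MvPolynomial (Fin n) R) NA] [Module.FinitePresentation (MvPolynomial (Fin n) R) NA]
    [Module.Flat R NA]
    (uA : MA →ₗ[MvPolynomial (Fin n) R] NA)
    (hu : ∀ x : MA, (∃ s ∉ Q, s • uA x ∈ ((IsLocalRing.maximalIdeal R).map C : Ideal (MvPolynomial (Fin n) R)) •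
        (⊤ : Submodule (MvPolynomial (Fin n) R) NA)) →
      ∃ s ∉ Q, s • x ∈ ((IsLocalRing.maximalIdeal R).map C : Ideal (MvPolynomial (Fin n) R)) •
        (⊤ : Submodule (MvPolynomial (Fin n) R) MA)) :
    (∀ x, uA x = 0 → ∃ s ∉ Q, s • x = 0) ∧
      Module.Flat R (LocalizedModule Q.primeCompl (NA ⧸ LinearMap.range uA)) := by
  classical
  obtain ⟨b, πM, hπM⟩ := Module.Finite.exists_fin' (MvPolynomial (Fin n) R) MA
  obtain ⟨a, πN, hπN⟩ := Module.Finite.exists_fin' (MvPolynomial (Fin n) R) NA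
  obtain ⟨GM, hGM⟩ := Module.FinitePresentation.fg_ker πM hπM
  obtain ⟨GN, hGN⟩ := Module.FinitePresentation.fg_ker πN hπN
  choose col hcol using fun i => hπN (uA (πM (Pi.single i 1)))
  let UR : V b n R →ₗ[MvPolynomial (Fin n) R] V a n R := Fintype.linearCombination _ col
  have hURπ : πN ∘ₗ UR = uA ∘ₗ πM := LinearMap.pi_ext' fun i => LinearMap.ext_ring (by
    simp [UR, hcol])
  have hURG : ∀ g ∈ GM, UR g ∈ Submodule.span (MvPolynomial (Fin n) R) (GN : Set (V a n R)) := fun g hg => by
    rw [hGN, LinearMap.mem_ker, ← LinearMap.comp_apply, hURπ, LinearMap.comp_apply,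
      LinearMap.mem_ker.1 (hGM.le (Submodule.subset_span hg)), map_zero]
  choose! co hcoS hco using fun g hg => Submodule.mem_span_finset.1 (hURG g hg)
  let c : Finset R := (GN.biUnion fun v => Finset.univ.biUnion fun i => (v i).coeffs) ∪
    (GM.biUnion fun v => Finset.univ.biUnion fun i => (v i).coeffs) ∪
    (Finset.univ.biUnion fun j => Finset.univ.biUnion fun i => (col j i).coeffs) ∪
    (GM.biUnion fun g => GN.biUnion fun w => (co g w).coeffs)
  let R₀ : Subalgebra ℤ R := Algebra.adjoin ℤ (c : Set R)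
  have : Algebra.FiniteType ℤ R₀ := (Subalgebra.fg_iff_finiteType R₀).1 (Subalgebra.fg_adjoin_finset c)
  have : IsNoetherianRing R₀ := Algebra.FiniteType.isNoetherianRing ℤ R₀
  have hlift : ∀ q : MvPolynomial (Fin n) R, q.coeffs ⊆ c → ∃ q₀, MvPolynomial.map (algebraMap R₀ R) q₀ = q :=
    fun q hq => MvPolynomial.mem_range_map_iff_coeffs_subset.2 fun x hx => ⟨⟨x, Algebra.subset_adjoin (hq hx)⟩, rfl⟩
  have hliftV : ∀ {k : ℕ} (v : V k n R), (∀ i, (v i).coeffs ⊆ c) → ∃ w, mapV (algebraMap R₀ R) w = v := by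
    intro k v hv
    choose w hw using fun i => hlift (v i) (hv i)
    exact ⟨w, funext hw⟩
  have hN : ∀ v ∈ GN, ∃ w, mapV (algebraMap R₀ R) w = v := fun v hv => hliftV v fun i x hx => by
    simp only [c, Finset.mem_union, Finset.mem_biUnion, Finset.mem_univ, true_and]
    exact Or.inl (Or.inl (Or.inl ⟨v, hv, i, hx⟩))
  have hM : ∀ v ∈ GM, ∃ w, mapV (algebraMap R₀ R) w = v := fun v hv => hliftV v fun i x hx => by
    simp only [c, Finset.mem_union, Finset.mem_biUnion, Finset.mem_univ, true_and]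
    exact Or.inl (Or.inl (Or.inr ⟨v, hv, i, hx⟩))
  choose col₀ hcol₀ using fun j => hliftV (col j) fun i x hx => by
    simp only [c, Finset.mem_union, Finset.mem_biUnion, Finset.mem_univ, true_and]
    exact Or.inl (Or.inr ⟨j, i, hx⟩)
  have hC : ∀ g ∈ GM, ∀ w ∈ GN, ∃ q₀, MvPolynomial.map (algebraMap R₀ R) q₀ = co g w := fun g hg w hw =>
    hlift _ fun x hx => by
      simp only [c, Finset.mem_union, Finset.mem_biUnion, Finset.mem_univ, true_and]
      exact Or.inr ⟨g, hg, w, hw, hx⟩
  choose! lN hlN using hN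
  choose! lM hlM using hM
  choose! co₀ hco₀ using hC
  let KN₀ : Submodule (MvPolynomial (Fin n) R₀) (V a n R₀) := Submodule.span _ (lN '' GN)
  have himg : ∀ {k : ℕ} (G : Finset (V k n R)) (l : V k n R → V k n R₀),
      (∀ v ∈ G, mapV (algebraMap R₀ R) (l v) = v) → mapV (algebraMap R₀ R) '' (l '' G) = (G : Set (V k n R)) := by
    intro k G l hl
    rw [Set.image_image]
    exact (Set.image_congr hl).trans (Set.image_id' _)
  have hkerN : LinearMap.ker πN = KK KN₀ R := by
    rw [KK_eq_span_image R KN₀ rfl, himg GN lN hlN, hGN]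
  have hflatC : FlatC KN₀ R := by
    rw [flatC_iff_flat]
    exact Module.Flat.of_linearEquiv (((Submodule.quotEquivOfEq _ _ hkerN.symm).trans
      (πN.quotKerEquivOfSurjective hπN)).restrictScalars R)
  obtain ⟨R₁, _, _, _, _, _, hR₁R, hflat₁⟩ := exists_noetherian_flatC KN₀ hflatC
  let KN₁ : Submodule (MvPolynomial (Fin n) R₁) (V a n R₁) := KK KN₀ R₁
  have : Module.Flat R₁ (V a n R₁ ⧸ KN₁) := (flatC_iff_flat KN₀).1 hflat₁
  let col₁ : Fin b → V a n R₁ := fun j => mapV (algebraMap R₀ R₁) (col₀ j)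
  let KM₁ : Submodule (MvPolynomial (Fin n) R₁) (V b n R₁) :=
    Submodule.span _ (mapV (algebraMap R₀ R₁) '' (lM '' GM))
  let U₁ : V b n R₁ →ₗ[MvPolynomial (Fin n) R₁] V a n R₁ := Fintype.linearCombination _ col₁
  have htower : ∀ {k : ℕ} (v : V k n R₀),
      mapV (algebraMap R₁ R) (mapV (algebraMap R₀ R₁) v) = mapV (algebraMap R₀ R) v := fun v => by
    rw [mapV_mapV, ← IsScalarTower.algebraMap_eq]
  have hcol₁ : ∀ j, mapV (algebraMap R₁ R) (col₁ j) = col j := fun j => (htower _).trans (hcol₀ j)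
  have hUR : ∀ v, UR (mapL R v) = mapL R (U₁ v) := fun v => by
    refine ((mapV_linearCombination (algebraMap R₁ R) col₁ v).trans ?_).symm
    rw [funext hcol₁]
    rfl
  have hU : KM₁ ≤ KN₁.comap U₁ := by
    refine Submodule.span_le.2 ?_
    rintro _ ⟨_, ⟨g, hg, rfl⟩, rfl⟩
    let y : V a n R₁ := ∑ w ∈ GN, MvPolynomial.map (algebraMap R₀ R₁) (co₀ g w) • mapV (algebraMap R₀ R₁) (lN w)
    have hy : U₁ (mapV (algebraMap R₀ R₁) (lM g)) = y := by
      apply mapV_injective (g := algebraMap R₁ R) hR₁R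
      have h1 := hUR (mapV (algebraMap R₀ R₁) (lM g))
      refine h1.symm.trans ?_
      show UR (mapV (algebraMap R₁ R) _) = mapVHom (algebraMap R₁ R) y
      rw [htower, hlM g hg, ← hco g hg]
      simp only [y, map_sum]
      refine Finset.sum_congr rfl fun w hw => ?_
      show co g w • w = mapV (algebraMap R₁ R) _
      rw [mapV_smul, htower, hlN w hw, MvPolynomial.map_map, ← IsScalarTower.algebraMap_eq, hco₀ g hg w hw]
    show U₁ _ ∈ KN₁
    rw [hy]
    exact Submodule.sum_mem _ fun w hw => Submodule.smul_mem _ _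
      (Submodule.subset_span ⟨lN w, Submodule.subset_span ⟨w, hw, rfl⟩, rfl⟩)
  have hKN₁ : KN₁ = Submodule.span _ (mapV (algebraMap R₀ R₁) '' (lN '' GN)) := KK_eq_span_image R₁ KN₀ rfl
  have hkerN₁ : LinearMap.ker πN = KK KN₁ R := by
    rw [KK_eq_span_image R KN₁ hKN₁.symm, Set.image_image, Set.image_congr fun v _ => htower v, himg GN lN hlN, hGN]
  have hkerM₁ : LinearMap.ker πM = KK KM₁ R := by
    rw [KK_eq_span_image R KM₁ rfl, Set.image_image, Set.image_congr fun v _ => htower v, himg GM lM hlM, hGM]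
  have hu' : ∀ v, (∃ s ∉ Q, s • UR v ∈ KK KN₁ R ⊔ CJ a n (IsLocalRing.maximalIdeal R)) →
      ∃ s ∉ Q, s • v ∈ KK KM₁ R ⊔ CJ b n (IsLocalRing.maximalIdeal R) := by
    rintro v ⟨s, hs, hsv⟩
    have h1 : s • uA (πM v) ∈ ((IsLocalRing.maximalIdeal R).map C : Ideal (MvPolynomial (Fin n) R)) •
        (⊤ : Submodule (MvPolynomial (Fin n) R) NA) := by
      rw [← LinearMap.comp_apply uA, ← hURπ, LinearMap.comp_apply, ← map_smul]
      obtain ⟨w, hw, x, hx, hwx⟩ := Submodule.mem_sup.1 hsv
      rw [← hwx, map_add, LinearMap.mem_ker.1 (hkerN₁ ▸ hw), zero_add]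
      have h2 := Submodule.mem_map_of_mem (f := πN) (mem_smul_top_of_mem_CJ hx)
      rw [Submodule.map_smul''] at h2
      exact Submodule.smul_mono le_rfl le_top h2
    obtain ⟨t, ht, htv⟩ := hu (πM v) ⟨s, hs, h1⟩
    refine ⟨t, ht, ?_⟩
    rw [← map_smul, ← LinearMap.range_eq_top.2 hπM, ← Submodule.map_top, ← Submodule.map_smul'',
      ← Submodule.mem_comap, Submodule.comap_map_eq, hkerM₁, sup_comm] at htv
    exact SetLike.le_def.1 (sup_le_sup_left (smul_le_CJ _ _) _) htv
  obtain ⟨hinj, hpt⟩ := injective_flat_of_noetherian Q hQ KM₁ KN₁ U₁ hU UR hUR hu'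
  refine ⟨fun x hx => ?_, ?_⟩
  · obtain ⟨v, rfl⟩ := hπM x
    have : UR v ∈ KK KN₁ R := by
      rw [← hkerN₁, LinearMap.mem_ker, ← LinearMap.comp_apply, hURπ]
      exact hx
    obtain ⟨s, hs, hsv⟩ := hinj v this
    rw [← hkerM₁, LinearMap.mem_ker, map_smul] at hsv
    exact ⟨s, hs, hsv⟩
  · have hrange : LinearMap.range uA = (LinearMap.range UR).map πN := by
      rw [← LinearMap.range_comp, hURπ, LinearMap.range_comp, LinearMap.range_eq_top.2 hπM, Submodule.map_top]
    let π' : V a n R →ₗ[MvPolynomial (Fin n) R] NA ⧸ LinearMap.range uA := (LinearMap.range uA).mkQ ∘ₗ πN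
    have hker' : LinearMap.ker π' = KK (KN₁ ⊔ LinearMap.range U₁) R := by
      rw [LinearMap.ker_comp, Submodule.ker_mkQ, hrange, Submodule.comap_map_eq, hkerN₁]
      rw [KK_eq_span_image R (KN₁ ⊔ LinearMap.range U₁) (G := (KN₁ : Set _) ∪ Set.range col₁) (by
          rw [Submodule.span_union, Submodule.span_eq, ← Fintype.range_linearCombination]),
        Set.image_union, Submodule.span_union, ← Set.range_comp, sup_comm]
      congr 1
      rw [Fintype.range_linearCombination]
      exact congrArg _ (congrArg Set.range (funext fun j => (hcol₁ j).symm))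
    rw [flat_localized_iff Q.primeCompl (LocalizedModule.mkLinearMap Q.primeCompl _)]
    exact (ptFlat_iff (KN₁ ⊔ LinearMap.range U₁) Q.primeCompl π'
      ((Submodule.mkQ_surjective _).comp hπN) hker').1 hpt

end Groth.Agent.FlatModel
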