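import Groth.Agent.FlatModel.FibreDown
import Groth.Agent.FlatModel.FibreUp
import Groth.Agent.FlatModel.InjModMaxPoly
import Groth.Agent.S0392
import Mathlib.RingTheory.TensorProduct.MvPolynomial

/-!
The fibrewise criterion of flatness for finitely presented modules over polynomial rings over an
arbitrary local base.
-/

set_option autoImplicit false

namespace Groth.Agent.FlatModel

open MvPolynomial TensorProduct

universe u

attribute [local instance] MvPolynomial.algebraMvPolynomial

/-- The presented module over `R` is the base change of the one over `R₁`. -/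
theorem exists_baseChange_KK {a n : ℕ} {R₁ R : Type u} [CommRing R₁] [CommRing R] [Algebra R₁ R]
    (K : Submodule (MvPolynomial (Fin n) R₁) (V a n R₁)) :
    ∃ j : (V a n R₁ ⧸ K) →ₗ[R₁] V a n R ⧸ KK K R, IsBaseChange R j ∧
      ∀ (t : MvPolynomial (Fin n) R₁) z, j (t • z) = MvPolynomial.map (algebraMap R₁ R) t • j z := by
  obtain ⟨ψ, hψ, hψv, hψt⟩ := exists_tensor_map (R := R) K
  let j : (V a n R₁ ⧸ K) →ₗ[R₁] V a n R ⧸ KK K R := ψ ∘ₗ (TensorProduct.mk R₁ (V a n R₁ ⧸ K) R).flip 1
  refine ⟨j, ?_, fun t z => ?_⟩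
  · have hr : ∀ (r : R) z, r • j z = ψ (z ⊗ₜ r) := by
      intro r z
      obtain ⟨v, rfl⟩ := Submodule.Quotient.mk_surjective _ z
      show r • ψ (_ ⊗ₜ 1) = _
      rw [hψv, hψv, one_smul]
    refine IsBaseChange.of_equiv (LinearEquiv.ofBijective
      ({ toFun := fun z => ψ (TensorProduct.comm R₁ R _ z)
         map_add' := fun z z' => by rw [map_add, map_add]
         map_smul' := fun r z => by
          induction z using TensorProduct.induction_on with
          | zero => simp
          | tmul s z => rw [smul_tmul', TensorProduct.comm_tmul, TensorProduct.comm_tmul, smul_eq_mul, ← hr, ← hr,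
              mul_smul, RingHom.id_apply]
          | add z z' h h' => simp only [smul_add, map_add, h, h', RingHom.id_apply] } :
        R ⊗[R₁] (V a n R₁ ⧸ K) →ₗ[R] V a n R ⧸ KK K R)
      (hψ.comp (TensorProduct.comm R₁ R _).bijective)) fun z => rfl
  · show ψ ((t • z) ⊗ₜ 1) = _
    rw [← TensorProduct.smul_tmul', hψt]
    rfl

/-- Relations over an intermediate ring. -/
theorem KK_KK {a n : ℕ} {R₀ R₁ R : Type u} [CommRing R₀] [CommRing R₁] [CommRing R] [Algebra R₀ R₁] [Algebra R₁ R]
    [Algebra R₀ R] [IsScalarTower R₀ R₁ R] (K₀ : Submodule (MvPolynomial (Fin n) R₀) (V a n R₀)) :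
    KK (KK K₀ R₁) R = KK K₀ R := by
  rw [KK_eq_span_image R (KK K₀ R₁) (G := mapV (algebraMap R₀ R₁) '' (K₀ : Set (V a n R₀))) rfl, Set.image_image]
  unfold KK
  refine congrArg _ (Set.image_congr fun v _ => ?_)
  rw [mapV_mapV, ← IsScalarTower.algebraMap_eq]

/-- A localised module stays one after restriction along a surjection. -/
theorem isLocalizedModule_restrict {Q C N M : Type u} [CommRing Q] [CommRing C] [Algebra Q C]
    [AddCommGroup N] [Module Q N] [Module C N] [IsScalarTower Q C N]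
    [AddCommGroup M] [Module Q M] [Module C M] [IsScalarTower Q C M]
    (W : Submonoid Q) (WC : Submonoid C) (hWC : W.map (algebraMap Q C).toMonoidHom = WC)
    (f : N →ₗ[C] M) [IsLocalizedModule WC f] : IsLocalizedModule W (f.restrictScalars Q) := by
  subst hWC
  have hbij : ∀ w : W, Function.Bijective fun m : M => (w : Q) • m := fun w => by
    have := (Module.End.isUnit_iff _).1 (IsLocalizedModule.map_units f
      (⟨_, w, w.2, rfl⟩ : W.map (algebraMap Q C).toMonoidHom))
    convert this using 1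
    exact funext fun m => (algebraMap_smul C (w : Q) m).symm
  refine ⟨fun w => (Module.End.isUnit_iff _).2 (hbij w), fun y => ?_, fun {x₁ x₂} h => ?_⟩
  · obtain ⟨⟨x, _, w, hw, rfl⟩, hx⟩ := IsLocalizedModule.surj (W.map (algebraMap Q C).toMonoidHom) f y
    exact ⟨⟨x, ⟨w, hw⟩⟩, (algebraMap_smul C w y).symm.trans hx⟩
  · obtain ⟨⟨_, w, hw, rfl⟩, hx⟩ := IsLocalizedModule.exists_of_eq (S := W.map (algebraMap Q C).toMonoidHom) (f := f) h
    refine ⟨⟨w, hw⟩, ?_⟩
    show w • x₁ = w • x₂
    rw [← algebraMap_smul C w x₁, ← algebraMap_smul C w x₂]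
    exact hx

/-- The noetherian step: from triviality of relations on the fibre to flatness over the ring of the base. -/
theorem flat_of_triv_noetherian {R₂ P₂ Q₂ N₂ : Type u} [CommRing R₂] [IsLocalRing R₂] [IsNoetherianRing R₂]
    [CommRing P₂] [IsNoetherianRing P₂] [Algebra R₂ P₂] [CommRing Q₂] [IsNoetherianRing Q₂] [Algebra R₂ Q₂]
    (g₂ : P₂ →ₐ[R₂] Q₂) (A : Ideal P₂) [AddCommGroup N₂] [Module R₂ N₂] [Module Q₂ N₂] [IsScalarTower R₂ Q₂ N₂]
    [Module.Finite Q₂ N₂] [Module.Flat R₂ N₂] (hkill : ∀ a ∈ A, ∀ z : N₂, g₂ a • z = 0)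
    (𝔔 : Ideal Q₂) [𝔔.IsPrime] (h𝔔 : (IsLocalRing.maximalIdeal R₂).map (algebraMap R₂ Q₂) ≤ 𝔔)
    (hnt : ∃ z : N₂, ∀ s ∉ 𝔔, s • z ≠ 0)
    (hfib : Triv g₂.toRingHom 𝔔.primeCompl (A ⊔ (IsLocalRing.maximalIdeal R₂).map (algebraMap R₂ P₂)) N₂)
    {R P Q N : Type u} [CommRing R] [Algebra R₂ R] [CommRing P] [CommRing Q] [Algebra R P] [Algebra R Q]
    [Algebra R₂ P] [Algebra R₂ Q] [IsScalarTower R₂ R P]
    [AddCommGroup N] [Module R N] [Module R₂ N] [Module Q N] [IsScalarTower R Q N] [IsScalarTower R₂ R N]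
    (g : P →ₐ[R] Q) (α : P₂ →ₐ[R₂] P) (β : Q₂ →ₐ[R₂] Q) (hg : ∀ p, g (α p) = β (g₂ p))
    (hα : IsBaseChange R α.toLinearMap) (j : N₂ →ₗ[R₂] N) (hjb : IsBaseChange R j)
    (hj : ∀ q z, j (q • z) = β q • j z)
    (𝔞 : Ideal P) (hA : ∀ a ∈ A, α a ∈ 𝔞) (hkillN : ∀ a ∈ 𝔞, ∀ n : N, g a • n = 0)
    (W : Submonoid Q) (hW : ∀ q ∉ 𝔔, β q ∈ W) :
    Triv g.toRingHom W 𝔞 N := by
  let AQ : Ideal Q₂ := A.map g₂.toRingHom
  have hAQkill : ∀ i ∈ AQ, ∀ z : N₂, i • z = 0 := by
    intro i hi
    induction hi using Submodule.span_induction with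
    | mem _ h => obtain ⟨a, ha, rfl⟩ := h; exact hkill a ha
    | zero => intro z; simp
    | add a b _ _ ha hb => intro z; rw [add_smul, ha, hb, add_zero]
    | smul c a _ ha => intro z; rw [smul_eq_mul, mul_comm, mul_smul]; exact ha _
  have hAQ : AQ ≤ 𝔔 := fun i hi => by
    obtain ⟨z, hz⟩ := hnt
    exact not_not.1 fun h => hz i h (hAQkill i hi z)
  let B := P₂ ⧸ A
  let C := Q₂ ⧸ AQ
  let gBC : B →+* C := Ideal.quotientMap AQ g₂.toRingHom (Ideal.le_comap_map)
  let := gBC.toAlgebra
  have : IsScalarTower R₂ B C := IsScalarTower.of_algebraMap_eq fun r => by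
    show (Ideal.Quotient.mk AQ) (algebraMap R₂ Q₂ r) = (Ideal.Quotient.mk AQ) (g₂ (algebraMap R₂ P₂ r))
    rw [g₂.commutes]
  let act : C →+* Module.End Q₂ N₂ := Ideal.Quotient.lift AQ (algebraMap Q₂ (Module.End Q₂ N₂))
    fun i hi => LinearMap.ext fun z => hAQkill i hi z
  let := Module.compHom N₂ act
  have hact : ∀ (q : Q₂) (z : N₂), Ideal.Quotient.mk AQ q • z = q • z := fun q z => rfl
  let := Module.compHom N₂ gBC
  have hBC : IsScalarTower B C N₂ := IsScalarTower.of_algebraMap_smul fun b z => rfl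
  have hQC : IsScalarTower Q₂ C N₂ := IsScalarTower.of_algebraMap_smul fun q z => hact q z
  have hR₂C : IsScalarTower R₂ C N₂ := IsScalarTower.of_algebraMap_smul fun r z => by
    show Ideal.Quotient.mk AQ (algebraMap R₂ Q₂ r) • z = r • z
    rw [hact, algebraMap_smul]
  have : Module.Finite C N₂ := Module.Finite.of_restrictScalars_finite Q₂ C N₂
  let 𝔔C : Ideal C := 𝔔.map (Ideal.Quotient.mk AQ)
  have : 𝔔C.IsPrime := Ideal.map_isPrime_of_surjective Ideal.Quotient.mk_surjective (by rwa [Ideal.mk_ker])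
  have h𝔔C : ∀ q, Ideal.Quotient.mk AQ q ∈ 𝔔C ↔ q ∈ 𝔔 := fun q => by
    rw [Ideal.mem_quotient_iff_mem hAQ]
  have hWC : 𝔔.primeCompl.map (algebraMap Q₂ C).toMonoidHom = 𝔔C.primeCompl := by
    ext x
    constructor
    · rintro ⟨q, hq, rfl⟩ h
      exact hq ((h𝔔C q).1 h)
    · intro hx
      obtain ⟨q, rfl⟩ := Ideal.Quotient.mk_surjective x
      exact ⟨q, fun h => hx ((h𝔔C q).2 h), rfl⟩
  let qB : Ideal B := 𝔔C.comap (algebraMap B C)
  let S := Localization.AtPrime qB
  let S' := Localization.AtPrime 𝔔C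
  let χ : S →+* S' := Localization.localRingHom qB 𝔔C (algebraMap B C) rfl
  let := χ.toAlgebra
  have hχ : ∀ b : B, χ (algebraMap B S b) = algebraMap C S' (algebraMap B C b) := fun b =>
    Localization.localRingHom_to_map qB 𝔔C (algebraMap B C) rfl b
  have : IsScalarTower B S S' := IsScalarTower.of_algebraMap_eq fun b => by
    rw [IsScalarTower.algebraMap_apply B C S']
    exact (hχ b).symm
  have : IsScalarTower R₂ S S' := IsScalarTower.of_algebraMap_eq fun r => by
    rw [IsScalarTower.algebraMap_apply R₂ B S, IsScalarTower.algebraMap_apply R₂ C S', IsScalarTower.algebraMap_apply R₂ B C]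
    exact (hχ _).symm
  let M := LocalizedModule 𝔔C.primeCompl N₂
  let jM : N₂ →ₗ[C] M := LocalizedModule.mkLinearMap 𝔔C.primeCompl N₂
  let := Module.compHom M χ
  have : IsScalarTower S S' M := IsScalarTower.of_algebraMap_smul fun s m => rfl
  have : IsScalarTower B S M := IsScalarTower.of_algebraMap_smul fun b m => by
    show χ (algebraMap B S b) • m = b • m
    rw [hχ, algebraMap_smul, algebraMap_smul]
  have : IsScalarTower R₂ S M := IsScalarTower.of_algebraMap_smul fun r m => by
    show χ (algebraMap R₂ S r) • m = r • m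
    rw [show χ (algebraMap R₂ S r) = algebraMap S S' (algebraMap R₂ S r) from rfl, ← IsScalarTower.algebraMap_apply,
      algebraMap_smul]
  have : Module.Finite S' M := Module.Finite.of_isLocalizedModule 𝔔C.primeCompl jM
  have hqm : ∀ r ∈ IsLocalRing.maximalIdeal R₂, algebraMap R₂ B r ∈ qB := fun r hr => by
    show algebraMap B C (algebraMap R₂ B r) ∈ 𝔔C
    rw [← IsScalarTower.algebraMap_apply]
    exact (h𝔔C _).2 (h𝔔 (Ideal.mem_map_of_mem _ hr))
  have : IsLocalHom (algebraMap R₂ S) := ⟨fun r hr => by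
    by_contra h
    rw [IsScalarTower.algebraMap_apply R₂ B S] at hr
    exact (IsLocalization.AtPrime.isUnit_to_map_iff S qB _).1 hr (hqm r h)⟩
  have : IsLocalHom (algebraMap S S') := Localization.isLocalHom_localRingHom qB 𝔔C (algebraMap B C) rfl
  have : Module.Flat R₂ M := by
    rw [flat_localized_iff 𝔔C.primeCompl jM]
    exact fun J y hy => ⟨1, one_mem _, by
      rw [one_smul]
      exact Module.Flat.lTensor_preserves_injective_linearMap (M := N₂) J.subtype Subtype.val_injective
        (hy.trans (map_zero _).symm)⟩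
  have : Nontrivial M := by
    obtain ⟨z, hz⟩ := hnt
    refine nontrivial_of_ne (jM z) 0 fun h => ?_
    obtain ⟨⟨c, hc⟩, hcz⟩ := (IsLocalizedModule.eq_zero_iff 𝔔C.primeCompl jM).1 h
    obtain ⟨q, rfl⟩ := Ideal.Quotient.mk_surjective c
    exact hz q (fun h' => hc ((h𝔔C q).2 h')) hcz
  have : IsLocalizedModule 𝔔.primeCompl (jM.restrictScalars Q₂) := isLocalizedModule_restrict _ _ hWC jM
  have : SMulCommClass Q₂ S M := ⟨fun q s m => by
    show q • χ s • m = χ s • q • m
    rw [← algebraMap_smul C q m, ← algebraMap_smul C q (χ s • m), smul_comm]⟩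
  let φ : P₂ →+* S := (algebraMap B S).comp (Ideal.Quotient.mk A)
  have hφ : ∀ p (m : M), φ p • m = g₂.toRingHom p • m := fun p m => by
    show χ (algebraMap B S _) • m = g₂ p • m
    rw [hχ, algebraMap_smul]
    exact algebraMap_smul C (g₂ p) m
  let J := (IsLocalRing.maximalIdeal R₂).map (algebraMap R₂ S)
  have hJ : (A ⊔ (IsLocalRing.maximalIdeal R₂).map (algebraMap R₂ P₂)).map φ = J := by
    rw [Ideal.map_sup, Ideal.map_map, show A.map φ = ⊥ from (Ideal.map_eq_bot_iff_le_ker φ).2 fun a ha => by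
      rw [RingHom.mem_ker]
      show algebraMap B S (Ideal.Quotient.mk A a) = 0
      rw [Ideal.Quotient.eq_zero_iff_mem.2 ha, map_zero], bot_sup_eq]
    refine congrArg (fun f => Ideal.map f (IsLocalRing.maximalIdeal R₂)) (RingHom.ext fun r => ?_)
    show algebraMap B S (Ideal.Quotient.mk A (algebraMap R₂ P₂ r)) = algebraMap R₂ S r
    rw [IsScalarTower.algebraMap_apply R₂ B S]
    rfl
  have hgW : ∀ u : P₂, g₂ u ∈ 𝔔.primeCompl ↔ Ideal.Quotient.mk A u ∈ qB.primeCompl := fun u =>
    not_congr (h𝔔C (g₂ u)).symm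
  have : Module.Flat (S ⧸ J) (M ⧸ J • (⊤ : Submodule S M)) := by
    refine flat_of_triv φ (jM.restrictScalars Q₂) hφ (fun s => ?_)
      (fun u hu => IsLocalization.map_units S (⟨_, (hgW u).1 hu⟩ : qB.primeCompl))
      (fun w hw m I hm => ?_) _ J (le_of_eq hJ) (fun m hm => by rw [hJ]; exact hm) hfib
    · obtain ⟨⟨b, t, ht⟩, hs⟩ := IsLocalization.surj qB.primeCompl s
      obtain ⟨u, rfl⟩ := Ideal.Quotient.mk_surjective t
      obtain ⟨p, rfl⟩ := Ideal.Quotient.mk_surjective b
      exact ⟨p, u, (hgW u).2 ht, (mul_comm _ _).trans hs⟩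
    · obtain ⟨v, hv⟩ := IsLocalization.map_units S' (⟨Ideal.Quotient.mk AQ w, fun h => hw ((h𝔔C w).1 h)⟩ : 𝔔C.primeCompl)
      have h1 : ∀ m' ∈ I • (⊤ : Submodule S M), (↑v⁻¹ : S') • m' ∈ I • (⊤ : Submodule S M) := by
        intro m' hm'
        induction hm' using Submodule.smul_induction_on' with
        | smul i hi y _ => rw [smul_comm]; exact Submodule.smul_mem_smul hi trivial
        | add _ _ _ _ ha hb => rw [smul_add]; exact add_mem ha hb
      have h2 := h1 _ hm
      rwa [← algebraMap_smul C w m, ← algebraMap_smul S' (algebraMap Q₂ C w) m,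
        show algebraMap C S' (algebraMap Q₂ C w) = (v : S') from hv.symm, smul_smul, v.inv_mul, one_smul] at h2
  have : Module.Flat (S ⧸ J) ((S ⧸ J) ⊗[S] M) :=
    Module.Flat.of_linearEquiv
      ((quotTensorEquivQuotSMul M J).extendScalarsOfSurjective (Ideal.Quotient.mk_surjective (I := J)))
  obtain ⟨-, hSM⟩ := Groth.Agent.S0392.result (R := R₂) (S := S) (S' := S') (M := M) this
  have : Module.Flat B M := Module.Flat.trans B S M
  have : IsLocalizedModule (𝔔.primeCompl.map (Ideal.Quotient.mk AQ)) jM := by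
    show IsLocalizedModule (𝔔.primeCompl.map (algebraMap Q₂ C).toMonoidHom) jM
    rw [hWC]
    infer_instance
  exact triv_baseChange g₂ g α β hg hα j hjb hj 𝔞 hkillN (Ideal.Quotient.mk A) Ideal.Quotient.mk_surjective
    (fun p hp => hA p (Ideal.Quotient.eq_zero_iff_mem.1 hp)) (Ideal.Quotient.mk AQ) (fun p => rfl) hact
    𝔔.primeCompl W hW jM

/-- Fibrewise criterion of flatness, in terms of relations. -/
theorem triv_of_fibre {R : Type u} [CommRing R] [IsLocalRing R] {n m : ℕ}
    (g : MvPolynomial (Fin n) R →ₐ[R] MvPolynomial (Fin m) R) (F : Finset (MvPolynomial (Fin n) R))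
    {N : Type u} [AddCommGroup N] [Module R N] [Module (MvPolynomial (Fin m) R) N]
    [IsScalarTower R (MvPolynomial (Fin m) R) N] [Module.FinitePresentation (MvPolynomial (Fin m) R) N]
    [Module.Flat R N] (hkill : ∀ f ∈ F, ∀ x : N, g f • x = 0)
    (𝔔 : Ideal (MvPolynomial (Fin m) R)) [𝔔.IsPrime]
    (h𝔔 : (IsLocalRing.maximalIdeal R).map (algebraMap R (MvPolynomial (Fin m) R)) ≤ 𝔔)
    (hnt : ∃ x : N, ∀ s ∉ 𝔔, s • x ≠ 0)
    (hfib : Triv g.toRingHom 𝔔.primeCompl
      (Ideal.span (F : Set (MvPolynomial (Fin n) R)) ⊔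
        (IsLocalRing.maximalIdeal R).map (algebraMap R (MvPolynomial (Fin n) R))) N) :
    Triv g.toRingHom 𝔔.primeCompl (Ideal.span (F : Set (MvPolynomial (Fin n) R))) N := by
  classical
  obtain ⟨a, π, hπ⟩ := Module.Finite.exists_fin' (MvPolynomial (Fin m) R) N
  obtain ⟨GN, hGN⟩ := Module.FinitePresentation.fg_ker π hπ
  let G : Finset (V a m R) := GN ∪ F.biUnion fun f => Finset.univ.image fun i => g f • Pi.single i 1
  have hG : Submodule.span (MvPolynomial (Fin m) R) (G : Set (V a m R)) = LinearMap.ker π := by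
    refine le_antisymm (Submodule.span_le.2 ?_) ?_
    · intro v hv
      rcases Finset.mem_union.1 (Finset.mem_coe.1 hv) with hv | hv
      · exact hGN.le (Submodule.subset_span hv)
      · simp only [Finset.mem_biUnion, Finset.mem_image, Finset.mem_univ, true_and] at hv
        obtain ⟨f, hf, i, rfl⟩ := hv
        rw [SetLike.mem_coe, LinearMap.mem_ker, map_smul]
        exact hkill f hf _
    · rw [← hGN]
      exact Submodule.span_mono (Finset.coe_subset.2 Finset.subset_union_left)
  let c : Finset R := (G.biUnion fun v => Finset.univ.biUnion fun i => (v i).coeffs) ∪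
    (F.biUnion fun f => f.coeffs) ∪ (Finset.univ.biUnion fun k => (g (X k)).coeffs)
  let R₀ : Subalgebra ℤ R := Algebra.adjoin ℤ (c : Set R)
  have : Algebra.FiniteType ℤ R₀ := (Subalgebra.fg_iff_finiteType R₀).1 (Subalgebra.fg_adjoin_finset c)
  have : IsNoetherianRing R₀ := Algebra.FiniteType.isNoetherianRing ℤ R₀
  have hlift : ∀ {k : ℕ} (q : MvPolynomial (Fin k) R), q.coeffs ⊆ c → ∃ q₀, MvPolynomial.map (algebraMap R₀ R) q₀ = q :=
    fun q hq => MvPolynomial.mem_range_map_iff_coeffs_subset.2 fun x hx => ⟨⟨x, Algebra.subset_adjoin (hq hx)⟩, rfl⟩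
  have hliftG : ∀ v ∈ G, ∃ w, mapV (algebraMap R₀ R) w = v := by
    intro v hv
    choose w hw using fun i => hlift (v i) fun x hx => by
      simp only [c, Finset.mem_union, Finset.mem_biUnion, Finset.mem_univ, true_and]
      exact Or.inl (Or.inl ⟨v, hv, i, hx⟩)
    exact ⟨w, funext hw⟩
  choose! lG hlG using hliftG
  have hliftF : ∀ f ∈ F, ∃ f₀, MvPolynomial.map (algebraMap R₀ R) f₀ = f := fun f hf => hlift f fun x hx => by
    simp only [c, Finset.mem_union, Finset.mem_biUnion, Finset.mem_univ, true_and]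
    exact Or.inl (Or.inr ⟨f, hf, hx⟩)
  choose! lF hlF using hliftF
  choose gx₀ hgx₀ using fun k => hlift (g (X k)) fun x hx => by
    simp only [c, Finset.mem_union, Finset.mem_biUnion, Finset.mem_univ, true_and]
    exact Or.inr ⟨k, hx⟩
  let K₀ : Submodule (MvPolynomial (Fin m) R₀) (V a m R₀) := Submodule.span _ (lG '' G)
  have hker : LinearMap.ker π = KK K₀ R := by
    rw [KK_eq_span_image R K₀ rfl, Set.image_image, (Set.image_congr hlG).trans (Set.image_id' _), hG]
  have hflatC : FlatC K₀ R := by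
    rw [flatC_iff_flat]
    exact Module.Flat.of_linearEquiv (((Submodule.quotEquivOfEq _ _ hker.symm).trans
      (π.quotKerEquivOfSurjective hπ)).restrictScalars R)
  obtain ⟨R₁, _, _, _, _, _, hR₁R, hflat₁⟩ := exists_noetherian_flatC K₀ hflatC
  let p : Ideal R₁ := (IsLocalRing.maximalIdeal R).comap (algebraMap R₁ R)
  let R₂ := Localization.AtPrime p
  have hunit : ∀ y : p.primeCompl, IsUnit (algebraMap R₁ R y) := fun y => IsLocalRing.notMem_maximalIdeal.1 y.2
  let ρ : R₂ →+* R := IsLocalization.lift hunit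
  let := ρ.toAlgebra
  have : IsScalarTower R₁ R₂ R := IsScalarTower.of_algebraMap_eq fun r => (IsLocalization.lift_eq hunit r).symm
  have : IsScalarTower R₀ R₂ R := IsScalarTower.of_algebraMap_eq fun r => by
    rw [IsScalarTower.algebraMap_apply R₀ R₁ R, IsScalarTower.algebraMap_apply R₀ R₁ R₂,
      ← IsScalarTower.algebraMap_apply R₁ R₂ R]
  have : IsLocalHom (algebraMap R₂ R) := ⟨fun x hx => by
    obtain ⟨r, s, rfl⟩ := IsLocalization.exists_mk'_eq p.primeCompl x
    have h1 : algebraMap R₂ R (IsLocalization.mk' R₂ r s) * algebraMap R₁ R s = algebraMap R₁ R r := by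
      rw [IsScalarTower.algebraMap_apply R₁ R₂ R s, ← map_mul, IsLocalization.mk'_spec,
        ← IsScalarTower.algebraMap_apply]
    refine (IsLocalization.AtPrime.isUnit_mk'_iff R₂ p r s).2 ?_
    intro hr
    exact IsLocalRing.notMem_maximalIdeal.2 (h1 ▸ hx.mul (hunit s)) hr⟩
  let K₂ : Submodule (MvPolynomial (Fin m) R₂) (V a m R₂) := KK K₀ R₂
  have : Module.Flat R₂ (V a m R₂ ⧸ K₂) := by
    have : Module.Flat R₁ (V a m R₁ ⧸ KK K₀ R₁) := (flatC_iff_flat K₀).1 hflat₁
    obtain ⟨j, hj, -⟩ := exists_baseChange_KK (R := R₂) (KK K₀ R₁)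
    have := Module.Flat.isBaseChange R₁ R₂ (V a m R₁ ⧸ KK K₀ R₁) (V a m R₂ ⧸ KK (KK K₀ R₁) R₂) hj
    exact Module.Flat.of_linearEquiv ((Submodule.quotEquivOfEq _ _ (KK_KK (R₁ := R₁) K₀).symm).restrictScalars R₂)
  obtain ⟨j, hjb, hj⟩ := exists_baseChange_KK (R := R) K₂
  let eN : (V a m R ⧸ KK K₂ R) ≃ₗ[MvPolynomial (Fin m) R] N :=
    (Submodule.quotEquivOfEq _ _ ((KK_KK K₀).trans hker.symm)).trans (π.quotKerEquivOfSurjective hπ)
  let jN : (V a m R₂ ⧸ K₂) →ₗ[R₂] V a m R ⧸ KK K₂ R := j
  let α : MvPolynomial (Fin n) R₂ →ₐ[R₂] MvPolynomial (Fin n) R :=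
    IsScalarTower.toAlgHom R₂ (MvPolynomial (Fin n) R₂) (MvPolynomial (Fin n) R)
  let β : MvPolynomial (Fin m) R₂ →ₐ[R₂] MvPolynomial (Fin m) R :=
    IsScalarTower.toAlgHom R₂ (MvPolynomial (Fin m) R₂) (MvPolynomial (Fin m) R)
  have hα : IsBaseChange R α.toLinearMap :=
    (inferInstance : Algebra.IsPushout R₂ R (MvPolynomial (Fin n) R₂) (MvPolynomial (Fin n) R)).out
  have hβ : IsBaseChange R β.toLinearMap :=
    (inferInstance : Algebra.IsPushout R₂ R (MvPolynomial (Fin m) R₂) (MvPolynomial (Fin m) R)).out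
  have htow : ∀ {k : ℕ} (q : MvPolynomial (Fin k) R₀),
      MvPolynomial.map (algebraMap R₂ R) (MvPolynomial.map (algebraMap R₀ R₂) q) = MvPolynomial.map (algebraMap R₀ R) q :=
    fun q => by rw [MvPolynomial.map_map, ← IsScalarTower.algebraMap_eq]
  let g₂ : MvPolynomial (Fin n) R₂ →ₐ[R₂] MvPolynomial (Fin m) R₂ :=
    MvPolynomial.aeval fun k => MvPolynomial.map (algebraMap R₀ R₂) (gx₀ k)
  have hg : ∀ q, g (α q) = β (g₂ q) := by
    have : (g.restrictScalars R₂).comp α = β.comp g₂ := MvPolynomial.algHom_ext fun k => by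
      show g (MvPolynomial.map (algebraMap R₂ R) (X k)) = MvPolynomial.map (algebraMap R₂ R) (g₂ (X k))
      rw [MvPolynomial.map_X, MvPolynomial.aeval_X, htow, hgx₀]
    exact fun q => AlgHom.congr_fun this q
  let A : Ideal (MvPolynomial (Fin n) R₂) :=
    Ideal.span ((fun f => MvPolynomial.map (algebraMap R₀ R₂) (lF f)) '' (F : Set _))
  have hαA : A.map α.toRingHom = Ideal.span (F : Set (MvPolynomial (Fin n) R)) := by
    rw [Ideal.map_span, Set.image_image]
    exact congrArg Ideal.span ((Set.image_congr fun f hf => (htow _).trans (hlF f hf)).trans (Set.image_id' _))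
  have hkillR : ∀ b ∈ Ideal.span (F : Set (MvPolynomial (Fin n) R)), ∀ z : V a m R ⧸ KK K₂ R, g b • z = 0 := by
    intro b hb
    induction hb using Submodule.span_induction with
    | mem f hf => intro z; exact eN.injective (by rw [map_smul, map_zero]; exact hkill f hf _)
    | zero => intro z; simp
    | add b b' _ _ h h' => intro z; rw [map_add, add_smul, h, h', add_zero]
    | smul r b _ h => intro z; rw [smul_eq_mul, mul_comm, map_mul, mul_smul]; exact h _
  -- the relations over `R₂` contain `g₂ A`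
  have hkill₂ : ∀ b ∈ A, ∀ z : V a m R₂ ⧸ K₂, g₂ b • z = 0 := by
    intro b hb
    induction hb using Submodule.span_induction with
    | mem _ h =>
      obtain ⟨f, hf, rfl⟩ := h
      intro z
      obtain ⟨v, rfl⟩ := Submodule.Quotient.mk_surjective _ z
      rw [← Submodule.Quotient.mk_smul, Submodule.Quotient.mk_eq_zero, pi_eq_sum_univ v, Finset.smul_sum]
      refine Submodule.sum_mem _ fun i _ => ?_
      rw [smul_comm]
      refine Submodule.smul_mem _ _ ?_
      let gv : V a m R := g f • Pi.single i 1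
      have hgv : gv ∈ G := Finset.mem_union_right _
        (Finset.mem_biUnion.2 ⟨f, hf, Finset.mem_image_of_mem _ (Finset.mem_univ i)⟩)
      let g₀ : MvPolynomial (Fin n) R₀ →ₐ[R₀] MvPolynomial (Fin m) R₀ := MvPolynomial.aeval gx₀
      have h1 : ∀ q, g (MvPolynomial.map (algebraMap R₀ R) q) = MvPolynomial.map (algebraMap R₀ R) (g₀ q) := by
        intro q
        induction q using MvPolynomial.induction_on with
        | C r => simp [g₀]
        | add p q hp hq => simp only [map_add, hp, hq]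
        | mul_X p k hp => simp only [map_mul, hp, MvPolynomial.map_X, g₀, MvPolynomial.aeval_X, hgx₀]
      have h2 : ∀ q, g₂ (MvPolynomial.map (algebraMap R₀ R₂) q) = MvPolynomial.map (algebraMap R₀ R₂) (g₀ q) := by
        intro q
        induction q using MvPolynomial.induction_on with
        | C r => simp [g₀, g₂]
        | add p q hp hq => simp only [map_add, hp, hq]
        | mul_X p k hp => simp only [map_mul, hp, MvPolynomial.map_X, g₀, g₂, MvPolynomial.aeval_X]
      have hinj : Function.Injective (algebraMap R₀ R) := Subtype.val_injective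
      have hmem : g₀ (lF f) • Pi.single i 1 ∈ K₀ := by
        have : g₀ (lF f) • Pi.single i 1 = lG gv := mapV_injective (g := algebraMap R₀ R) hinj (by
          rw [hlG gv hgv, mapV_smul, ← h1, hlF f hf]
          ext k : 1
          simp [gv, Pi.single_apply, apply_ite (MvPolynomial.map (algebraMap R₀ R))])
        rw [this]
        exact Submodule.subset_span ⟨gv, hgv, rfl⟩
      have h3 := mapL_mem_KK (R' := R₂) K₀ hmem
      rw [h2]
      convert h3 using 1
      show _ = mapV (algebraMap R₀ R₂) (g₀ (lF f) • Pi.single i 1)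
      rw [mapV_smul]
      congr 1
      funext k
      simp [Pi.single_apply, apply_ite (MvPolynomial.map (algebraMap R₀ R₂)), eq_comm]
    | zero => intro z; simp
    | add b b' _ _ h h' => intro z; rw [map_add, add_smul, h, h', add_zero]
    | smul r b _ h => intro z; rw [smul_eq_mul, mul_comm, map_mul, mul_smul]; exact h _
  let 𝔔₂ : Ideal (MvPolynomial (Fin m) R₂) := 𝔔.comap β
  have : 𝔔₂.IsPrime := Ideal.IsPrime.comap _
  have hm₂ : (IsLocalRing.maximalIdeal R₂).map (algebraMap R₂ (MvPolynomial (Fin m) R₂)) ≤ 𝔔₂ := by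
    rw [Ideal.map_le_iff_le_comap]
    intro r hr
    show β (algebraMap R₂ _ r) ∈ 𝔔
    rw [β.commutes, IsScalarTower.algebraMap_apply R₂ R (MvPolynomial (Fin m) R)]
    exact h𝔔 (Ideal.mem_map_of_mem _ (map_nonunit (algebraMap R₂ R) r hr))
  have hnt₂ : ∃ z : V a m R₂ ⧸ K₂, ∀ s ∉ 𝔔₂, s • z ≠ 0 := by
    by_contra hcon
    push Not at hcon
    obtain ⟨x, hx⟩ := hnt
    have : ∀ y : V a m R ⧸ KK K₂ R, ∃ s ∉ 𝔔, s • y = 0 := by
      intro y
      induction y using hjb.inductionOn with
      | zero => exact ⟨1, (Ideal.ne_top_iff_one 𝔔).1 (Ideal.IsPrime.ne_top ‹_›), smul_zero _⟩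
      | tmul z =>
        obtain ⟨s, hs, hsz⟩ := hcon z
        refine ⟨β s, hs, ?_⟩
        have h1 := hj s z
        rw [hsz, map_zero] at h1
        exact h1.symm
      | smul r y hy =>
        obtain ⟨s, hs, hsy⟩ := hy
        exact ⟨s, hs, by rw [smul_comm, hsy, smul_zero]⟩
      | add y y' hy hy' =>
        obtain ⟨s, hs, hsy⟩ := hy
        obtain ⟨s', hs', hsy'⟩ := hy'
        exact ⟨s * s', Ideal.IsPrime.mul_notMem ‹_› hs hs', by
          rw [smul_add, mul_comm, mul_smul, hsy, smul_zero, zero_add, mul_comm, mul_smul, hsy', smul_zero]⟩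
    obtain ⟨s, hs, hsy⟩ := this (eN.symm x)
    refine hx s hs ?_
    rw [← eN.apply_symm_apply x, ← map_smul, hsy, map_zero]
  -- transport the hypothesis to the presented module
  have hfibR : Triv g.toRingHom 𝔔.primeCompl
      ((A ⊔ (IsLocalRing.maximalIdeal R₂).map (algebraMap R₂ (MvPolynomial (Fin n) R₂))).map α.toRingHom ⊔
        (IsLocalRing.maximalIdeal R).map (algebraMap R (MvPolynomial (Fin n) R))) (V a m R ⧸ KK K₂ R) := by
    have heq : (A ⊔ (IsLocalRing.maximalIdeal R₂).map (algebraMap R₂ (MvPolynomial (Fin n) R₂))).map α.toRingHom ⊔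
        (IsLocalRing.maximalIdeal R).map (algebraMap R (MvPolynomial (Fin n) R)) =
        Ideal.span (F : Set _) ⊔ (IsLocalRing.maximalIdeal R).map (algebraMap R (MvPolynomial (Fin n) R)) := by
      rw [Ideal.map_sup, hαA, sup_assoc]
      congr 1
      apply sup_eq_right.2
      rw [Ideal.map_map, Ideal.map_le_iff_le_comap]
      intro r hr
      refine Ideal.mem_comap.2 ?_
      change α.toRingHom (algebraMap R₂ (MvPolynomial (Fin n) R₂) r) ∈ _
      rw [show α.toRingHom (algebraMap R₂ (MvPolynomial (Fin n) R₂) r) = algebraMap R₂ (MvPolynomial (Fin n) R) r from α.commutes r, IsScalarTower.algebraMap_apply R₂ R (MvPolynomial (Fin n) R)]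
      exact Ideal.mem_map_of_mem _ (map_nonunit (algebraMap R₂ R) r hr)
    rw [heq]
    intro k f x hx
    obtain ⟨s, hs, l, aa, y, hy, ha⟩ := hfib k f (fun i => eN (x i)) (by
      have := Submodule.mem_map_of_mem (f := eN.toLinearMap) hx
      rw [Submodule.map_smul'', Submodule.map_top, LinearEquiv.range] at this
      simpa only [LinearEquiv.coe_coe, map_sum, map_smul] using this)
    refine ⟨s, hs, l, aa, fun j => eN.symm (y j), fun i => ?_, ha⟩
    have := Submodule.mem_map_of_mem (f := eN.symm.toLinearMap) (hy i)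
    rw [Submodule.map_smul'', Submodule.map_top, LinearEquiv.range] at this
    simpa only [LinearEquiv.coe_coe, map_sub, map_sum, map_smul, LinearEquiv.symm_apply_apply] using this
  have hfib₂ := triv_descent g₂ g α β hg hα hβ jN hjb hj 𝔔 h𝔔 𝔔₂.primeCompl (fun q hq => hq)
    𝔔.primeCompl (fun s hs => hs) _ le_sup_right hfibR
  have hmain := flat_of_triv_noetherian g₂ A hkill₂ 𝔔₂ hm₂ hnt₂ hfib₂ g α β hg hα jN hjb hj
    (Ideal.span (F : Set _)) (fun b hb => hαA ▸ Ideal.mem_map_of_mem α.toRingHom hb) hkillR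
    𝔔.primeCompl (fun q hq => hq)
  intro k f x hx
  obtain ⟨s, hs, l, aa, y, hy, ha⟩ := hmain k f (fun i => eN.symm (x i)) (by
    have := Submodule.mem_map_of_mem (f := eN.symm.toLinearMap) hx
    rw [Submodule.map_smul'', Submodule.map_top, LinearEquiv.range] at this
    simpa only [LinearEquiv.coe_coe, map_sum, map_smul] using this)
  refine ⟨s, hs, l, aa, fun j => eN (y j), fun i => ?_, ha⟩
  have := Submodule.mem_map_of_mem (f := eN.toLinearMap) (hy i)
  rw [Submodule.map_smul'', Submodule.map_top, LinearEquiv.range] at this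
  simpa only [LinearEquiv.coe_coe, map_sub, map_sum, map_smul, LinearEquiv.apply_symm_apply] using this

end Groth.Agent.FlatModel
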