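import Groth.Agent.FlatModel.FibreTriv
import Mathlib.RingTheory.IsTensorProduct
import Mathlib.RingTheory.LocalRing.ResidueField.Basic
import Mathlib.LinearAlgebra.Basis.VectorSpace

/-!
Triviality of relations on fibres descends along a change of base local ring.
-/

set_option autoImplicit false

namespace Groth.Agent.FlatModel

open TensorProduct IsLocalRing

universe u

variable {R₂ R : Type u} [CommRing R₂] [IsLocalRing R₂] [CommRing R] [IsLocalRing R] [Algebra R₂ R]
  [IsLocalHom (algebraMap R₂ R)]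

variable (R₂ R) in
/-- Lifts of a basis of the residue field extension, with its coordinates. -/
theorem exists_residue_coords : ∃ (κ : Type u) (e : κ → R) (lam : κ → R →ₗ[R₂] ResidueField R₂),
    (∀ l, ∀ r ∈ maximalIdeal R, lam l r = 0) ∧ (∀ l, lam l (e l) = 1) ∧ (∀ l l', l ≠ l' → lam l (e l') = 0) ∧
      ∀ r : R, ∃ c : κ →₀ R₂, r - c.sum (fun l a => algebraMap R₂ R a * e l) ∈ maximalIdeal R := by
  classical
  let b := Module.Basis.ofVectorSpace (ResidueField R₂) (ResidueField R)
  choose e he using fun l => residue_surjective (b l)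
  have halg : ∀ a : R₂, algebraMap (ResidueField R₂) (ResidueField R) (residue R₂ a) = residue R (algebraMap R₂ R a) :=
    fun a => ResidueField.map_residue _ a
  let lam : _ → R →ₗ[R₂] ResidueField R₂ := fun l =>
    { toFun := fun r => b.repr (residue R r) l
      map_add' := fun x y => by simp
      map_smul' := fun a x => by
        rw [Algebra.smul_def, map_mul, ← halg, ← Algebra.smul_def, map_smul, Finsupp.smul_apply, RingHom.id_apply]
        rfl }
  refine ⟨_, e, lam, fun l r hr => ?_, fun l => ?_, fun l l' h => ?_, fun r => ?_⟩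
  · show b.repr (residue R r) l = 0
    rw [(residue_eq_zero_iff r).2 hr]; simp
  · show b.repr (residue R (e l)) l = 1
    rw [he]; simp
  · show b.repr (residue R (e l')) l = 0
    rw [he, b.repr_self, Finsupp.single_eq_of_ne h]
  · choose a ha using fun x : ResidueField R₂ => residue_surjective x
    refine ⟨Finsupp.onFinset (b.repr (residue R r)).support
      (fun l => if l ∈ (b.repr (residue R r)).support then a (b.repr (residue R r) l) else 0)
      (fun l hl => by by_contra h; exact hl (if_neg h)), ?_⟩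
    rw [← residue_eq_zero_iff, map_sub, sub_eq_zero, Finsupp.onFinset_sum _ (fun l => by simp), map_sum]
    conv_lhs => rw [← b.linearCombination_repr (residue R r), Finsupp.linearCombination_apply, Finsupp.sum]
    refine Finset.sum_congr rfl fun l hl => ?_
    rw [if_pos hl, map_mul, he, Algebra.smul_def, ← halg, ha]

section expansion

variable {κ : Type u} (e : κ → R) (lam : κ → R →ₗ[R₂] ResidueField R₂)
  {X X' : Type u} [AddCommGroup X] [Module R₂ X] [AddCommGroup X'] [Module R X'] [Module R₂ X']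
  [IsScalarTower R₂ R X']

/-- Every element of a base change has coordinates modulo the maximal ideal. -/
theorem exists_expansion (hdec : ∀ r : R, ∃ c : κ →₀ R₂, r - c.sum (fun l a => algebraMap R₂ R a * e l) ∈ maximalIdeal R)
    (ι : X →ₗ[R₂] X') (hι : IsBaseChange R ι) (n : X') :
    ∃ z : κ →₀ X, n - z.sum (fun l x => e l • ι x) ∈ maximalIdeal R • (⊤ : Submodule R X') := by
  classical
  induction n using hι.inductionOn with
  | zero => exact ⟨0, by simp⟩
  | tmul x =>
    obtain ⟨c, hc⟩ := hdec 1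
    refine ⟨c.mapRange (fun a => a • x) (zero_smul _ _), ?_⟩
    rw [Finsupp.sum_mapRange_index (by simp)]
    have : (1 - c.sum (fun l a => algebraMap R₂ R a * e l)) • ι x ∈ maximalIdeal R • (⊤ : Submodule R X') :=
      Submodule.smul_mem_smul hc trivial
    simpa only [sub_smul, one_smul, Finsupp.sum, Finset.sum_smul, mul_smul, map_smul, algebraMap_smul, smul_comm (e _)] using this
  | smul r n hn =>
    obtain ⟨z, hz⟩ := hn
    choose c hc using fun l => hdec (r * e l)
    let F := z.support.biUnion fun l => (c l).support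
    refine ⟨∑ l ∈ z.support, (c l).mapRange (fun a => a • z l) (zero_smul _ _), ?_⟩
    rw [← Finsupp.sum_finsetSum_index (fun _ => by rw [map_zero, smul_zero]) (fun _ _ _ => by rw [map_add, smul_add])]
    have h1 := Submodule.smul_mem _ r hz
    have h2 : ∀ l, (r * e l - (c l).sum (fun l' a => algebraMap R₂ R a * e l')) • ι (z l) ∈
        maximalIdeal R • (⊤ : Submodule R X') := fun l => Submodule.smul_mem_smul (hc l) trivial
    have h3 := add_mem h1 (Submodule.sum_mem _ fun l (_ : l ∈ z.support) => h2 l)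
    convert h3 using 1
    simp only [smul_sub, Finsupp.sum, Finset.smul_sum, sub_smul, Finset.sum_sub_distrib, ← mul_smul r, Finset.sum_smul]
    rw [sub_add_sub_cancel]
    congr 1
    refine Finset.sum_congr rfl fun l _ => ?_
    show ((c l).mapRange (fun a => a • z l) (zero_smul R₂ (z l))).sum (fun l' x => e l' • ι x) = _
    rw [Finsupp.sum_mapRange_index (fun _ => by rw [map_zero, smul_zero])]
    simp only [Finsupp.sum, map_smul, mul_smul, algebraMap_smul, smul_comm (e _)]
  | add a b ha hb =>
    obtain ⟨z, hz⟩ := ha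
    obtain ⟨w, hw⟩ := hb
    refine ⟨z + w, ?_⟩
    rw [Finsupp.sum_add_index' (by simp) (by simp [smul_add])]
    convert add_mem hz hw using 1
    abel

/-- The coordinate maps. -/
theorem exists_coord (hlam : ∀ l, ∀ r ∈ maximalIdeal R, lam l r = 0)
    (ι : X →ₗ[R₂] X') (hι : IsBaseChange R ι) {Y : Type u} [AddCommGroup Y] [Module R₂ Y]
    (p : X →ₗ[R₂] Y) (hY : ∀ a ∈ maximalIdeal R₂, ∀ y : Y, a • y = 0) :
    ∃ π : κ → X' →ₗ[R₂] Y, (∀ l (r : R) (x : X) (a : R₂), residue R₂ a = lam l r → π l (r • ι x) = a • p x) ∧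
      ∀ l, ∀ r ∈ maximalIdeal R, ∀ n, π l (r • n) = 0 := by
  choose a ha using fun x : ResidueField R₂ => residue_surjective x
  have hwd : ∀ (c c' : R₂) (y : Y), residue R₂ c = residue R₂ c' → c • y = c' • y := fun c c' y h => by
    rw [← sub_eq_zero, ← sub_smul]
    exact hY _ ((residue_eq_zero_iff _).1 (by rw [map_sub, h, sub_self])) _
  let μ : κ → R →ₗ[R₂] X →ₗ[R₂] Y := fun l =>
    { toFun := fun r => a (lam l r) • p
      map_add' := fun r r' => by
        ext x
        simp only [LinearMap.smul_apply, LinearMap.add_apply, ← add_smul]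
        exact hwd _ _ _ (by simp [ha])
      map_smul' := fun c r => by
        ext x
        simp only [LinearMap.smul_apply, RingHom.id_apply, smul_smul]
        exact hwd _ _ _ (by rw [ha, map_mul, ha, map_smul, Algebra.smul_def]; rfl) }
  let π : κ → X' →ₗ[R₂] Y := fun l =>
    TensorProduct.lift (μ l) ∘ₗ (hι.equiv.symm.toLinearMap.restrictScalars R₂)
  have hπ : ∀ l (r : R) (x : X), π l (r • ι x) = a (lam l r) • p x := fun l r x => by
    show TensorProduct.lift (μ l) (hι.equiv.symm (r • ι x)) = _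
    rw [map_smul, IsBaseChange.equiv_symm_apply, smul_tmul', smul_eq_mul, mul_one]
    rfl
  refine ⟨π, fun l r x c hc => by rw [hπ]; exact hwd _ _ _ (by rw [ha, hc]), fun l r hr n => ?_⟩
  induction n using hι.inductionOn with
  | zero => simp
  | tmul x => rw [hπ, hlam l r hr]; exact hY _ ((residue_eq_zero_iff _).1 (ha 0)) _
  | smul r' n hn =>
    obtain ⟨t, rfl⟩ := hι.equiv.surjective n
    clear hn
    induction t using TensorProduct.induction_on with
    | zero => simp
    | tmul s x =>
      rw [IsBaseChange.equiv_tmul, smul_smul, smul_smul, hπ, hlam l _ (Ideal.mul_mem_right _ _ (Ideal.mul_mem_right _ _ hr))]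
      exact hY _ ((residue_eq_zero_iff _).1 (ha 0)) _
    | add t t' h h' => simp only [map_add, smul_add, h, h', add_zero]
  | add n n' h h' => simp only [smul_add, map_add, h, h', add_zero]

end expansion

variable {P₂ Q₂ P Q : Type u} [CommRing P₂] [CommRing Q₂] [CommRing P] [CommRing Q]
  [Algebra R₂ P₂] [Algebra R₂ Q₂] [Algebra R P] [Algebra R Q] [Algebra R₂ P] [Algebra R₂ Q]
  [IsScalarTower R₂ R P] [IsScalarTower R₂ R Q]
  {N₂ N : Type u} [AddCommGroup N₂] [Module R₂ N₂] [Module Q₂ N₂] [IsScalarTower R₂ Q₂ N₂]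
  [AddCommGroup N] [Module R N] [Module R₂ N] [Module Q N] [IsScalarTower R Q N] [IsScalarTower R₂ R N]

/-- A coordinate map kills `𝔞 N`. -/
theorem coord_eq_zero (g₂ : P₂ →ₐ[R₂] Q₂) (g : P →ₐ[R] Q) (α : P₂ →ₐ[R₂] P) (β : Q₂ →ₐ[R₂] Q)
    (hg : ∀ p, g (α p) = β (g₂ p)) (j : N₂ →ₗ[R₂] N) (hjb : IsBaseChange R j)
    (hj : ∀ q z, j (q • z) = β q • j z) {κ : Type u} {lam : κ → R →ₗ[R₂] ResidueField R₂}
    (𝔞₂ : Ideal P₂) {Y : Type u} [AddCommGroup Y] [Module R₂ Y] (p : N₂ →ₗ[R₂] Y)
    (hp : ∀ a ∈ 𝔞₂, ∀ z, p (g₂ a • z) = 0)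
    (π : κ → N →ₗ[R₂] Y) (hπ : ∀ l (r : R) (x : N₂) (a : R₂), residue R₂ a = lam l r → π l (r • j x) = a • p x)
    (hπ0 : ∀ l, ∀ r ∈ maximalIdeal R, ∀ n, π l (r • n) = 0) (l : κ) :
    ∀ n ∈ (𝔞₂.map α.toRingHom ⊔ (maximalIdeal R).map (algebraMap R P)).map g.toRingHom • (⊤ : Submodule Q N),
      π l n = 0 := by
  intro n hn
  induction hn using Submodule.smul_induction_on' with
  | smul i hi y _ =>
    have : ∀ y : N, π l (i • y) = 0 := by
      induction hi using Submodule.span_induction with
      | mem _ h =>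
        obtain ⟨p', hp', rfl⟩ := h
        obtain ⟨p₁, h₁, p₂, h₂, rfl⟩ := Submodule.mem_sup.1 hp'
        intro y
        have e₁ : ∀ y : N, π l (g p₁ • y) = 0 := by
          clear hp' h₂
          induction h₁ using Submodule.span_induction with
          | mem _ h =>
            obtain ⟨a, ha, rfl⟩ := h
            intro y
            obtain ⟨t, rfl⟩ := hjb.equiv.surjective y
            induction t using TensorProduct.induction_on with
            | zero => simp
            | tmul r z =>
              obtain ⟨c, hc⟩ := residue_surjective (lam l r)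
              rw [IsBaseChange.equiv_tmul, show g (α.toRingHom a) = β (g₂ a) from hg a, smul_comm, ← hj, hπ l r _ c hc,
                hp a ha, smul_zero]
            | add t t' h h' => simp only [map_add, smul_add, h, h', add_zero]
          | zero => intro y; simp
          | add a b _ _ ha hb => intro y; rw [map_add, add_smul, map_add, ha, hb, add_zero]
          | smul c a _ ha => intro y; rw [smul_eq_mul, mul_comm, map_mul, mul_smul]; exact ha _
        have e₂ : ∀ y : N, π l (g p₂ • y) = 0 := by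
          clear hp' h₁
          induction h₂ using Submodule.span_induction with
          | mem _ h =>
            obtain ⟨r, hr, rfl⟩ := h
            intro y
            rw [AlgHom.commutes, algebraMap_smul]
            exact hπ0 l r hr y
          | zero => intro y; simp
          | add a b _ _ ha hb => intro y; rw [map_add, add_smul, map_add, ha, hb, add_zero]
          | smul c a _ ha => intro y; rw [smul_eq_mul, mul_comm, map_mul, mul_smul]; exact ha _
        show π l (g (p₁ + p₂) • y) = 0
        rw [map_add, add_smul, map_add, e₁, e₂, add_zero]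
      | zero => intro y; simp
      | add a b _ _ ha hb => intro y; rw [add_smul, map_add, ha, hb, add_zero]
      | smul c a _ ha => intro y; rw [smul_eq_mul, mul_comm, mul_smul]; exact ha _
    exact this y
  | add a _ b _ ha hb => rw [map_add, ha, hb, add_zero]

/-- Triviality of relations on the fibre descends. -/
theorem triv_descent (g₂ : P₂ →ₐ[R₂] Q₂) (g : P →ₐ[R] Q) (α : P₂ →ₐ[R₂] P) (β : Q₂ →ₐ[R₂] Q)
    (hg : ∀ p, g (α p) = β (g₂ p)) (hα : IsBaseChange R α.toLinearMap) (hβ : IsBaseChange R β.toLinearMap)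
    (j : N₂ →ₗ[R₂] N) (hjb : IsBaseChange R j) (hj : ∀ q z, j (q • z) = β q • j z)
    (𝔔 : Ideal Q) (h𝔔 : (maximalIdeal R).map (algebraMap R Q) ≤ 𝔔) (W₂ : Submonoid Q₂)
    (hW₂ : ∀ c, β c ∉ 𝔔 → c ∈ W₂) (W : Submonoid Q) (hW : ∀ s ∈ W, s ∉ 𝔔)
    (𝔞₂ : Ideal P₂) (h𝔞₂ : (maximalIdeal R₂).map (algebraMap R₂ P₂) ≤ 𝔞₂)
    (h : Triv g.toRingHom W (𝔞₂.map α.toRingHom ⊔ (maximalIdeal R).map (algebraMap R P)) N) :
    Triv g₂.toRingHom W₂ 𝔞₂ N₂ := by
  classical
  obtain ⟨κ, e, lam, hlam, he1, he0, hdec⟩ := exists_residue_coords R₂ R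
  intro k f x hx
  let 𝔞 := 𝔞₂.map α.toRingHom ⊔ (maximalIdeal R).map (algebraMap R P)
  have hjmem : ∀ n ∈ 𝔞₂.map g₂.toRingHom • (⊤ : Submodule Q₂ N₂), j n ∈ 𝔞.map g.toRingHom • (⊤ : Submodule Q N) := by
    intro n hn
    induction hn using Submodule.smul_induction_on' with
    | smul i hi y _ =>
      rw [hj]
      refine Submodule.smul_mem_smul ?_ trivial
      have : 𝔞₂.map g₂.toRingHom ≤ (𝔞.map g.toRingHom).comap β := by
        rw [Ideal.map_le_iff_le_comap]
        intro a ha
        show β (g₂ a) ∈ 𝔞.map g.toRingHom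
        rw [← hg]
        exact Ideal.mem_map_of_mem g.toRingHom (Ideal.mem_sup_left (Ideal.mem_map_of_mem α.toRingHom ha))
      exact this hi
    | add a _ b _ ha hb => rw [map_add]; exact add_mem ha hb
  obtain ⟨s, hs, m, a, y, hy, ha⟩ := h k (fun i => α (f i)) (fun i => j (x i)) (by
    have := hjmem _ hx
    simp only [map_sum, hj] at this
    simpa only [𝔞, AlgHom.toRingHom_eq_coe, RingHom.coe_coe, hg] using this)
  obtain ⟨sc, hsc⟩ := exists_expansion e hdec β.toLinearMap hβ s
  obtain ⟨l, hlW⟩ : ∃ l, sc l ∈ W₂ := by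
    by_contra hcon
    push Not at hcon
    apply hW s hs
    have h1 : sc.sum (fun l c => e l • β.toLinearMap c) ∈ 𝔔 := Submodule.sum_mem _ fun l _ => by
      have : β (sc l) ∈ 𝔔 := not_not.1 fun h => hcon l (hW₂ _ h)
      show e l • β (sc l) ∈ 𝔔
      rw [Algebra.smul_def]
      exact 𝔔.mul_mem_left _ this
    have h2 : ∀ z ∈ maximalIdeal R • (⊤ : Submodule R Q), z ∈ 𝔔 := by
      intro z hz
      induction hz using Submodule.smul_induction_on' with
      | smul r hr q _ =>
        rw [Algebra.smul_def]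
        exact 𝔔.mul_mem_right _ (h𝔔 (Ideal.mem_map_of_mem _ hr))
      | add _ _ _ _ ha hb => exact add_mem ha hb
    simpa using add_mem (h2 _ hsc) h1
  choose az haz using fun i j' => exists_expansion e hdec α.toLinearMap hα (a i j')
  choose yz hyz using fun j' => exists_expansion e hdec j hjb (y j')
  let F : Finset κ := Finset.univ.biUnion fun i => Finset.univ.biUnion fun j' => (az i j').support
  choose c hc using fun (n m' : κ) => residue_surjective (lam l (e n * e m'))
  let Y := N₂ ⧸ (𝔞₂.map g₂.toRingHom • (⊤ : Submodule Q₂ N₂))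
  let p : N₂ →ₗ[R₂] Y := (Submodule.mkQ _).restrictScalars R₂
  have hY : ∀ r ∈ maximalIdeal R₂, ∀ z : Y, r • z = 0 := by
    intro r hr z
    obtain ⟨z, rfl⟩ := Submodule.Quotient.mk_surjective _ z
    rw [← Submodule.Quotient.mk_smul, Submodule.Quotient.mk_eq_zero, ← algebraMap_smul Q₂ r z, ← g₂.commutes]
    exact Submodule.smul_mem_smul (Ideal.mem_map_of_mem g₂.toRingHom (h𝔞₂ (Ideal.mem_map_of_mem _ hr))) trivial
  obtain ⟨π, hπ, hπ0⟩ := exists_coord lam hlam j hjb p hY
  have hπ𝔞 := coord_eq_zero g₂ g α β hg j hjb hj 𝔞₂ p (fun a ha z =>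
    (Submodule.Quotient.mk_eq_zero _).2 (Submodule.smul_mem_smul (Ideal.mem_map_of_mem g₂.toRingHom ha) trivial)) π hπ hπ0 l
  have hπm : ∀ n ∈ maximalIdeal R • (⊤ : Submodule R N), π l n = 0 := fun n hn => by
    induction hn using Submodule.smul_induction_on' with
    | smul r hr z _ => exact hπ0 l r hr z
    | add _ _ _ _ ha hb => rw [map_add, ha, hb, add_zero]
  -- expansions of products
  have hmul : ∀ (q : Q) (n : N) (zq : κ →₀ Q₂) (zn : κ →₀ N₂) (G G' : Finset κ),
      q - zq.sum (fun l c => e l • β.toLinearMap c) ∈ maximalIdeal R • (⊤ : Submodule R Q) → zq.support ⊆ G →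
      n - zn.sum (fun l c => e l • j c) ∈ maximalIdeal R • (⊤ : Submodule R N) → zn.support ⊆ G' →
      π l (q • n) = ∑ i ∈ G, ∑ i' ∈ G', c i i' • p (zq i • zn i') := by
    intro q n zq zn G G' hq hG hn hG'
    rw [Finsupp.sum_of_support_subset _ hG _ (by simp)] at hq
    rw [Finsupp.sum_of_support_subset _ hG' _ (by simp)] at hn
    have h1 : π l (q • n) = π l ((∑ i ∈ G, e i • β.toLinearMap (zq i)) • (∑ i' ∈ G', e i' • j (zn i'))) := by
      rw [← sub_eq_zero, ← map_sub]
      have e1 : q • n - (∑ i ∈ G, e i • β.toLinearMap (zq i)) • (∑ i' ∈ G', e i' • j (zn i')) =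
          (q - ∑ i ∈ G, e i • β.toLinearMap (zq i)) • n +
            (∑ i ∈ G, e i • β.toLinearMap (zq i)) • (n - ∑ i' ∈ G', e i' • j (zn i')) := by
        rw [sub_smul, smul_sub]; abel
      rw [e1, map_add]
      have k1 : ∀ (z : Q) (n : N), z ∈ maximalIdeal R • (⊤ : Submodule R Q) → π l (z • n) = 0 := fun z n hz => by
        induction hz using Submodule.smul_induction_on' with
        | smul r hr q _ => rw [smul_assoc]; exact hπ0 l r hr _
        | add _ _ _ _ ha hb => rw [add_smul, map_add, ha, hb, add_zero]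
      have k2 : ∀ (q : Q) (z : N), z ∈ maximalIdeal R • (⊤ : Submodule R N) → π l (q • z) = 0 := fun q z hz => by
        induction hz using Submodule.smul_induction_on' with
        | smul r hr z _ => rw [smul_comm]; exact hπ0 l r hr _
        | add _ _ _ _ ha hb => rw [smul_add, map_add, ha, hb, add_zero]
      rw [k1 _ _ hq, k2 _ _ hn, add_zero]
    rw [h1, Finset.sum_smul, map_sum]
    refine Finset.sum_congr rfl fun i _ => ?_
    rw [Finset.smul_sum, map_sum]
    refine Finset.sum_congr rfl fun i' _ => ?_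
    rw [smul_assoc, smul_comm (β.toLinearMap (zq i)), smul_smul, AlgHom.toLinearMap_apply, ← hj]
    exact hπ l _ _ _ (hc i i')
  obtain ⟨one, hone⟩ : ∃ z : κ →₀ R₂, (1 : R) - z.sum (fun l a => algebraMap R₂ R a * e l) ∈ maximalIdeal R := hdec 1
  let y₂ : Fin m → κ → N₂ := fun j' n => ∑ i' ∈ (yz j').support, c n i' • yz j' i'
  let G := Fin m × F
  refine ⟨sc l, hlW, Fintype.card G, fun i t => az i ((Fintype.equivFin G).symm t).1 ((Fintype.equivFin G).symm t).2,
    fun t => y₂ ((Fintype.equivFin G).symm t).1 ((Fintype.equivFin G).symm t).2, fun i => ?_, fun t => ?_⟩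
  · rw [← Submodule.Quotient.mk_eq_zero, Submodule.Quotient.mk_sub, sub_eq_zero]
    show p (sc l • x i) = p _
    have hL : π l (s • j (x i)) = p (sc l • x i) := by
      have : π l ((s - sc.sum (fun l c => e l • β.toLinearMap c)) • j (x i)) = 0 := by
        generalize s - sc.sum (fun l c => e l • β.toLinearMap c) = z at hsc ⊢
        induction hsc using Submodule.smul_induction_on' with
        | smul r hr q _ => rw [smul_assoc]; exact hπ0 l r hr _
        | add _ _ _ _ ha hb => rw [add_smul, map_add, ha, hb, add_zero]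
      rw [sub_smul, map_sub, sub_eq_zero] at this
      rw [this, Finsupp.sum, Finset.sum_smul, map_sum, Finset.sum_eq_single l]
      · rw [smul_assoc, AlgHom.toLinearMap_apply, ← hj, hπ l _ _ 1 (by rw [map_one, he1]), one_smul]
      · intro l' _ hl'
        rw [smul_assoc, AlgHom.toLinearMap_apply, ← hj, hπ l _ _ 0 (by rw [map_zero, he0 l l' (Ne.symm hl')]), zero_smul]
      · intro hl
        rw [Finsupp.notMem_support_iff.1 hl, map_zero, smul_zero, zero_smul, map_zero]
    have hR := hπ𝔞 _ (hy i)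
    rw [map_sub, sub_eq_zero] at hR
    rw [← hL, hR, map_sum, map_sum]
    rw [← (Fintype.equivFin G).sum_comp]
    simp only [Equiv.symm_apply_apply]
    rw [Fintype.sum_prod_type]
    refine Finset.sum_congr rfl fun j' _ => ?_
    -- the expansion of `g (a i j')`
    have hga : g (a i j') - ((az i j').mapRange g₂ (map_zero _)).sum (fun l c => e l • β.toLinearMap c) ∈
        maximalIdeal R • (⊤ : Submodule R Q) := by
      have h1 := Submodule.mem_map_of_mem (f := g.toLinearMap) (haz i j')
      rw [Submodule.map_smul''] at h1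
      have h2 := Submodule.smul_mono (le_refl (maximalIdeal R)) (le_top : Submodule.map g.toLinearMap ⊤ ≤ ⊤) h1
      convert h2 using 1
      rw [map_sub, map_finsuppSum, Finsupp.sum_mapRange_index (by simp)]
      simp [hg]
    rw [show g.toRingHom (a i j') • y j' = g (a i j') • y j' from rfl,
      hmul _ _ _ _ F (yz j').support hga ?_ (hyz j') subset_rfl, ← F.sum_coe_sort]
    · refine Finset.sum_congr rfl fun n _ => ?_
      simp only [y₂, Finset.smul_sum, map_sum, Finsupp.mapRange_apply]
      exact Finset.sum_congr rfl fun i' _ => by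
        rw [← map_smul p (c ↑n i'), smul_comm]
        rfl
    · exact Finsupp.support_mapRange.trans fun n hn =>
        Finset.mem_biUnion.2 ⟨i, Finset.mem_univ _, Finset.mem_biUnion.2 ⟨j', Finset.mem_univ _, hn⟩⟩
  · beta_reduce
    generalize (Fintype.equivFin G).symm t = jn
    obtain ⟨j', n, hnF⟩ := jn
    let pP : P₂ →ₗ[R₂] P₂ ⧸ 𝔞₂ := (Ideal.Quotient.mkₐ R₂ 𝔞₂).toLinearMap
    have hYP : ∀ r ∈ maximalIdeal R₂, ∀ z : P₂ ⧸ 𝔞₂, r • z = 0 := by
      intro r hr z
      obtain ⟨z, rfl⟩ := Ideal.Quotient.mk_surjective z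
      rw [Algebra.smul_def, IsScalarTower.algebraMap_apply R₂ P₂ (P₂ ⧸ 𝔞₂), Ideal.Quotient.algebraMap_eq, ← map_mul,
        Ideal.Quotient.eq_zero_iff_mem]
      exact 𝔞₂.mul_mem_right _ (h𝔞₂ (Ideal.mem_map_of_mem _ hr))
    obtain ⟨ρ, hρ, hρ0⟩ := exists_coord lam hlam α.toLinearMap hα pP hYP
    have hρ𝔞 := coord_eq_zero (AlgHom.id R₂ P₂) (AlgHom.id R P) α α (fun _ => rfl) α.toLinearMap hα
      (fun q z => map_mul α q z) 𝔞₂ pP (fun a ha z => Ideal.Quotient.eq_zero_iff_mem.2 (𝔞₂.mul_mem_right _ ha))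
      ρ hρ hρ0 n
    have hsum := hρ𝔞 (∑ i, α (f i) * a i j') (by
      have : ∑ i, α (f i) * a i j' ∈ (𝔞.map (AlgHom.id R P).toRingHom) • (⊤ : Submodule P P) := by
        rw [smul_eq_mul, Ideal.mul_top, show (AlgHom.id R P).toRingHom = RingHom.id P from rfl, Ideal.map_id]
        exact ha j'
      exact this)
    rw [← Ideal.Quotient.eq_zero_iff_mem, map_sum]
    rw [map_sum] at hsum
    refine (Finset.sum_congr rfl fun i _ => ?_).trans hsum
    have h0 : ρ n (α (f i) * (a i j' - (az i j').sum fun l c => e l • α.toLinearMap c)) = 0 := by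
      have hm := haz i j'
      generalize a i j' - (az i j').sum (fun l c => e l • α.toLinearMap c) = z at hm ⊢
      induction hm using Submodule.smul_induction_on' with
      | smul r hr q _ => rw [mul_smul_comm]; exact hρ0 n r hr _
      | add _ _ _ _ ha hb => rw [mul_add, map_add, ha, hb, add_zero]
    rw [mul_sub, map_sub, sub_eq_zero] at h0
    rw [h0, Finsupp.sum, Finset.mul_sum, map_sum, Finset.sum_eq_single n]
    · rw [mul_smul_comm, AlgHom.toLinearMap_apply, ← map_mul]
      rw [← AlgHom.toLinearMap_apply α, hρ n _ _ 1 (by rw [map_one, he1]), one_smul]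
      rfl
    · intro l' _ hl'
      rw [mul_smul_comm, AlgHom.toLinearMap_apply, ← map_mul, ← AlgHom.toLinearMap_apply α,
        hρ n _ _ 0 (by rw [map_zero, he0 n l' (Ne.symm hl')]), zero_smul]
    · intro hn
      rw [Finsupp.notMem_support_iff.1 hn, map_zero, smul_zero, mul_zero, map_zero]

end Groth.Agent.FlatModel
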