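import Groth.Agent.FlatModel.FibreNil
import Groth.Prelude.Def_FlatMod2
import Groth.Agent.QCoh.Stalk

/-!
The fibrewise criterion of flatness at a point, for modules on schemes over an arbitrary base.
-/

set_option autoImplicit false
set_option backward.isDefEq.respectTransparency false
set_option backward.isDefEq.respectTransparency.types false

universe u

open CategoryTheory AlgebraicGeometry TensorProduct

namespace Groth.Agent.FlatModel

/-- Stalks of a morphism locally of finite presentation are essentially of finite presentation. -/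
theorem isEssFinitePresentation_stalk {X S : Scheme.{u}} (h : X ⟶ S) [LocallyOfFinitePresentation h] (x : X) :
    letI := (h.stalkMap x).hom.toAlgebra
    CAlgX.IsEssFinitePresentation (S.presheaf.stalk (h x)) (X.presheaf.stalk x) := by
  letI := (h.stalkMap x).hom.toAlgebra
  obtain ⟨V, hV, hxV, -⟩ := exists_isAffineOpen_mem_and_subset (U := (⊤ : S.Opens)) (x := h x) trivial
  obtain ⟨U, hU, hxU, hUV⟩ := exists_isAffineOpen_mem_and_subset (U := h ⁻¹ᵁ V) (x := x) hxV
  letI : Algebra Γ(S, V) Γ(X, U) := (h.appLE V U hUV).hom.toAlgebra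
  haveI : Algebra.FinitePresentation Γ(S, V) Γ(X, U) := h.finitePresentation_appLE hV hU hUV
  letI := QCoh.stalkAlg (X := X) hxU
  letI := QCoh.stalkAlg (X := S) hxV
  haveI := QCoh.isLocalization_stalk' hU hxU
  haveI := QCoh.isLocalization_stalk' hV hxV
  letI : Algebra Γ(S, V) (X.presheaf.stalk x) :=
    ((X.presheaf.germ U x hxU).hom.comp (h.appLE V U hUV).hom).toAlgebra
  haveI : IsScalarTower Γ(S, V) Γ(X, U) (X.presheaf.stalk x) := IsScalarTower.of_algebraMap_eq fun _ => rfl
  haveI : IsScalarTower Γ(S, V) (S.presheaf.stalk (h x)) (X.presheaf.stalk x) := IsScalarTower.of_algebraMap_eq fun r => by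
    show X.presheaf.germ U x hxU (h.appLE V U hUV r) = h.stalkMap x (S.presheaf.germ V (h x) hxV r)
    rw [Scheme.Hom.germ_stalkMap_apply, Scheme.Hom.appLE, CommRingCat.comp_apply, X.presheaf.germ_res_apply]
  exact isEssFinitePresentation_localization (hU.primeIdealOf ⟨x, hxU⟩).asIdeal (hV.primeIdealOf ⟨h x, hxV⟩).asIdeal _ _

/-- The stalk of a finitely presented module is finitely presented. -/
theorem finitePresentation_stalk {X : Scheme.{u}} {M : X.Modules} (hM : Coh.IsQCoh M) (hfp : CohB1.IsFP M) (x : X) :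
    Module.FinitePresentation (X.presheaf.stalk x) (M.presheaf.stalk x) := by
  obtain ⟨U, hU, hx, -⟩ := exists_isAffineOpen_mem_and_subset (U := (⊤ : X.Opens)) (x := x) trivial
  have := QCoh.finitePresentation_of_isFP hfp hU
  letI := QCoh.stalkAlg (X := X) hx
  letI := QCoh.stalkModule M hx
  haveI := QCoh.isScalarTower_stalk M hx
  haveI := QCoh.isLocalization_stalk' hU hx
  haveI := QCoh.isLocalizedModule_germLin hM hU hx
  exact FinitePresentation.of_isBaseChange (QCoh.germLin M hx)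
    ((isLocalizedModule_iff_isBaseChange (hU.primeIdealOf ⟨x, hx⟩).asIdeal.primeCompl (X.presheaf.stalk x) _).1 inferInstance)

theorem fibre_criterion {X Y S : Scheme.{u}} (f : X ⟶ Y) (g : Y ⟶ S) [LocallyOfFinitePresentation (f ≫ g)]
    [LocallyOfFiniteType g] (F : X.Modules) (hq : Coh.IsQCoh F) (hfp : CohB1.IsFP F) (x : X)
    (hx : Nontrivial ↑(F.presheaf.stalk x)) :
    letI := FlatMod.moduleStalkOver f F x
    (FlatMod.IsFlatOverAt (f ≫ g) F x ∧
      Module.Flat (↑(Y.presheaf.stalk (f x)) ⧸ Ideal.map (g.stalkMap (f x)).hom (IsLocalRing.maximalIdeal ↑(S.presheaf.stalk (g (f x)))))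
        (↑(F.presheaf.stalk x) ⧸ (Ideal.map (g.stalkMap (f x)).hom (IsLocalRing.maximalIdeal ↑(S.presheaf.stalk (g (f x)))) •
          (⊤ : Submodule ↑(Y.presheaf.stalk (f x)) ↑(F.presheaf.stalk x))))) ↔
    ((g.stalkMap (f x)).hom.Flat ∧ FlatMod.IsFlatOverAt f F x) := by
  letI : Algebra ↑(S.presheaf.stalk (g (f x))) ↑(Y.presheaf.stalk (f x)) := (g.stalkMap (f x)).hom.toAlgebra
  letI : Algebra ↑(Y.presheaf.stalk (f x)) ↑(X.presheaf.stalk x) := (f.stalkMap x).hom.toAlgebra
  letI : Algebra ↑(S.presheaf.stalk (g (f x))) ↑(X.presheaf.stalk x) :=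
    ((f.stalkMap x).hom.comp (g.stalkMap (f x)).hom).toAlgebra
  haveI : IsScalarTower ↑(S.presheaf.stalk (g (f x))) ↑(Y.presheaf.stalk (f x)) ↑(X.presheaf.stalk x) :=
    .of_algebraMap_eq fun _ => rfl
  letI := FlatMod.moduleStalkOver f F x
  letI mS : Module ↑(S.presheaf.stalk (g (f x))) ↑(F.presheaf.stalk x) :=
    Module.compHom _ ((f.stalkMap x).hom.comp (g.stalkMap (f x)).hom)
  haveI : IsScalarTower ↑(Y.presheaf.stalk (f x)) ↑(X.presheaf.stalk x) ↑(F.presheaf.stalk x) :=
    .of_algebraMap_smul fun _ _ => rfl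
  haveI : IsScalarTower ↑(S.presheaf.stalk (g (f x))) ↑(Y.presheaf.stalk (f x)) ↑(F.presheaf.stalk x) :=
    .of_algebraMap_smul fun _ _ => rfl
  haveI : IsScalarTower ↑(S.presheaf.stalk (g (f x))) ↑(X.presheaf.stalk x) ↑(F.presheaf.stalk x) :=
    .of_algebraMap_smul fun _ _ => rfl
  haveI : IsLocalHom (algebraMap ↑(S.presheaf.stalk (g (f x))) ↑(Y.presheaf.stalk (f x))) :=
    inferInstanceAs (IsLocalHom (g.stalkMap (f x)).hom)
  haveI : IsLocalHom (algebraMap ↑(Y.presheaf.stalk (f x)) ↑(X.presheaf.stalk x)) :=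
    inferInstanceAs (IsLocalHom (f.stalkMap x).hom)
  have key : ∀ φ : ↑(S.presheaf.stalk (g (f x))) →+* ↑(X.presheaf.stalk x),
      φ = (f.stalkMap x).hom.comp (g.stalkMap (f x)).hom →
      (@Module.Flat ↑(S.presheaf.stalk (g (f x))) ↑(F.presheaf.stalk x) _ _ (Module.compHom _ φ) ↔
        @Module.Flat ↑(S.presheaf.stalk (g (f x))) ↑(F.presheaf.stalk x) _ _ mS) := by
    rintro _ rfl; exact Iff.rfl
  have e : (Scheme.Hom.stalkMap (f ≫ g) x).hom = (f.stalkMap x).hom.comp (g.stalkMap (f x)).hom := by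
    rw [Scheme.Hom.stalkMap_comp]; rfl
  have hcomp : FlatMod.IsFlatOverAt (f ≫ g) F x ↔ Module.Flat ↑(S.presheaf.stalk (g (f x))) ↑(F.presheaf.stalk x) :=
    key (Scheme.Hom.stalkMap (f ≫ g) x).hom e
  rw [hcomp]
  haveI := finitePresentation_stalk hq hfp x
  constructor
  · rintro ⟨hflat, hfib⟩
    haveI := hflat
    haveI : Algebra.EssFiniteType ↑(S.presheaf.stalk (g (f x))) ↑(Y.presheaf.stalk (f x)) :=
      LocallyOfFiniteType.stalkMap g (f x)
    refine flat_of_fibre_essFP (R := ↑(S.presheaf.stalk (g (f x)))) (S := ↑(Y.presheaf.stalk (f x)))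
      (S' := ↑(X.presheaf.stalk x)) (M := ↑(F.presheaf.stalk x)) ?_ hfib
    have h1 := isEssFinitePresentation_stalk (f ≫ g) x
    have hφ : ∀ φ : ↑(S.presheaf.stalk (g (f x))) →+* ↑(X.presheaf.stalk x),
        φ = (f.stalkMap x).hom.comp (g.stalkMap (f x)).hom →
        @CAlgX.IsEssFinitePresentation ↑(S.presheaf.stalk (g (f x))) _ ↑(X.presheaf.stalk x) _ φ.toAlgebra →
        CAlgX.IsEssFinitePresentation ↑(S.presheaf.stalk (g (f x))) ↑(X.presheaf.stalk x) := by
      rintro _ rfl h; exact h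
    exact hφ (Scheme.Hom.stalkMap (f ≫ g) x).hom e h1
  · rintro ⟨hh, hf⟩
    haveI : Module.Flat ↑(S.presheaf.stalk (g (f x))) ↑(Y.presheaf.stalk (f x)) := hh
    haveI : Module.Flat ↑(Y.presheaf.stalk (f x)) ↑(F.presheaf.stalk x) := hf
    refine ⟨Module.Flat.trans ↑(S.presheaf.stalk (g (f x))) ↑(Y.presheaf.stalk (f x)) _, ?_⟩
    exact Module.Flat.of_linearEquiv
      ((quotTensorEquivQuotSMul ↑(F.presheaf.stalk x)
        (Ideal.map (g.stalkMap (f x)).hom (IsLocalRing.maximalIdeal ↑(S.presheaf.stalk (g (f x)))))).extendScalarsOfSurjective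
          Ideal.Quotient.mk_surjective).symm

end Groth.Agent.FlatModel
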