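import Mathlib.RingTheory.Flat.EquationalCriterion
import Mathlib.RingTheory.Flat.FaithfullyFlat.Basic
import Mathlib.RingTheory.Localization.Module
import Mathlib.Algebra.Module.Torsion.Basic
import Mathlib.LinearAlgebra.TensorProduct.Quotient

/-!
Flatness of a localised fibre module through trivial relations upstairs.
-/

set_option autoImplicit false

namespace Groth.Agent.FlatModel

open TensorProduct

universe u

/-- Relations of `N` modulo `𝔞` become trivial modulo `𝔞` after multiplying by an element of `W`. -/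
def Triv {P Q : Type u} [CommRing P] [CommRing Q] (g : P →+* Q) (W : Submonoid Q) (𝔞 : Ideal P)
    (N : Type u) [AddCommGroup N] [Module Q N] : Prop :=
  ∀ (k : ℕ) (f : Fin k → P) (x : Fin k → N), ∑ i, g (f i) • x i ∈ 𝔞.map g • (⊤ : Submodule Q N) →
    ∃ s ∈ W, ∃ (l : ℕ) (a : Fin k → Fin l → P) (y : Fin l → N),
      (∀ i, s • x i - ∑ j, g (a i j) • y j ∈ 𝔞.map g • (⊤ : Submodule Q N)) ∧ ∀ j, ∑ i, f i * a i j ∈ 𝔞

/-- Membership in `I M` after localisation. -/
theorem localized_mem_smul_iff {Q : Type u} [CommRing Q] (W : Submonoid Q) {N M : Type u} [AddCommGroup N]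
    [Module Q N] [AddCommGroup M] [Module Q M] (f : N →ₗ[Q] M) [IsLocalizedModule W f] (I : Ideal Q) (x : N) :
    f x ∈ I • (⊤ : Submodule Q M) ↔ ∃ t ∈ W, t • x ∈ I • (⊤ : Submodule Q N) := by
  constructor
  · intro hx
    have : ∃ t ∈ W, ∃ w ∈ I • (⊤ : Submodule Q N), t • f x = f w := by
      generalize f x = y at hx ⊢
      induction hx using Submodule.smul_induction_on' with
      | smul i hi y _ =>
        obtain ⟨⟨m, t⟩, ht⟩ := IsLocalizedModule.surj W f y
        exact ⟨t, t.2, i • m, Submodule.smul_mem_smul hi trivial, by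
          rw [map_smul, smul_comm, ← Submonoid.smul_def, ht]⟩
      | add y _ z _ hy hz =>
        obtain ⟨t, ht, w, hw, h1⟩ := hy
        obtain ⟨t', ht', w', hw', h2⟩ := hz
        exact ⟨t * t', W.mul_mem ht ht', t' • w + t • w', add_mem (Submodule.smul_mem _ _ hw) (Submodule.smul_mem _ _ hw'),
          by rw [map_add, map_smul, map_smul, ← h1, ← h2, smul_add, mul_comm, mul_smul, mul_comm, ← mul_smul t t']⟩
    obtain ⟨t, ht, w, hw, h1⟩ := this
    rw [← map_smul] at h1
    obtain ⟨c, hc⟩ := IsLocalizedModule.exists_of_eq (S := W) h1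
    refine ⟨c * t, W.mul_mem c.2 ht, ?_⟩
    rw [mul_smul, ← Submonoid.smul_def, hc, Submonoid.smul_def]
    exact Submodule.smul_mem _ _ hw
  · rintro ⟨t, ht, hx⟩
    have h1 := Submodule.mem_map_of_mem (f := f) hx
    rw [Submodule.map_smul'', map_smul] at h1
    have h2 : t • f x ∈ I • (⊤ : Submodule Q M) := Submodule.smul_mono le_rfl le_top h1
    obtain ⟨v, hv⟩ := ((Module.End.isUnit_iff _).1 (IsLocalizedModule.map_units f (⟨t, ht⟩ : W))).2 (f x)
    have h3 : ∀ z ∈ I • (⊤ : Submodule Q M), ∀ z', t • z' = z → z' ∈ I • (⊤ : Submodule Q M) := by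
      intro z hz
      obtain ⟨hinj, hsurj⟩ := (Module.End.isUnit_iff _).1 (IsLocalizedModule.map_units f (⟨t, ht⟩ : W))
      have : ∃ z'' ∈ I • (⊤ : Submodule Q M), t • z'' = z := by
        clear h1 h2 hv
        induction hz using Submodule.smul_induction_on' with
        | smul i hi y _ =>
          obtain ⟨y', hy'⟩ := hsurj y
          exact ⟨i • y', Submodule.smul_mem_smul hi trivial, by rw [smul_comm]; exact congrArg (i • ·) hy'⟩
        | add a _ b _ ha hb =>
          obtain ⟨a', ha', h⟩ := ha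
          obtain ⟨b', hb', h'⟩ := hb
          exact ⟨a' + b', add_mem ha' hb', by rw [smul_add, h, h']⟩
      obtain ⟨z'', hz'', h⟩ := this
      intro z' hz'
      have : z' = z'' := hinj (show t • z' = t • z'' by rw [h, hz'])
      exact this ▸ hz''
    exact h3 _ h2 _ rfl

section bridge

variable {P Q : Type u} [CommRing P] [CommRing Q] {g : P →+* Q} {W : Submonoid Q}
  {N : Type u} [AddCommGroup N] [Module Q N] {S : Type u} [CommRing S] (φ : P →+* S)
  {M : Type u} [AddCommGroup M] [Module Q M] [Module S M]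
  (hφ : ∀ (p : P) (m : M), φ p • m = g p • m)

include hφ in
theorem mem_map_smul_top_iff [SMulCommClass Q S M] (𝔞 : Ideal P) (m : M) :
    m ∈ 𝔞.map φ • (⊤ : Submodule S M) ↔ m ∈ 𝔞.map g • (⊤ : Submodule Q M) := by
  constructor
  · intro hm
    induction hm using Submodule.smul_induction_on' with
    | smul s hs y _ =>
      have : ∀ y : M, s • y ∈ 𝔞.map g • (⊤ : Submodule Q M) := by
        induction hs using Submodule.span_induction with
        | mem _ h => obtain ⟨p, hp, rfl⟩ := h; intro y; rw [hφ]; exact Submodule.smul_mem_smul (Ideal.mem_map_of_mem g hp) trivial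
        | zero => intro y; simp
        | add a b _ _ ha hb => intro y; rw [add_smul]; exact add_mem (ha y) (hb y)
        | smul c a _ ha => intro y; rw [smul_eq_mul, mul_comm, mul_smul]; exact ha _
      exact this y
    | add a _ b _ ha hb => exact add_mem ha hb
  · intro hm
    induction hm using Submodule.smul_induction_on' with
    | smul s hs y _ =>
      have : ∀ y : M, s • y ∈ 𝔞.map φ • (⊤ : Submodule S M) := by
        induction hs using Submodule.span_induction with
        | mem _ h => obtain ⟨p, hp, rfl⟩ := h; intro y; rw [← hφ]; exact Submodule.smul_mem_smul (Ideal.mem_map_of_mem φ hp) trivial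
        | zero => intro y; simp
        | add a b _ _ ha hb => intro y; rw [add_smul]; exact add_mem (ha y) (hb y)
        | smul c a _ ha => intro y; rw [smul_eq_mul, mul_comm, mul_smul]; exact ha _
      exact this y
    | add a _ b _ ha hb => exact add_mem ha hb

/-- Flatness of the fibre gives trivial relations upstairs. -/
theorem triv_of_flat [SMulCommClass Q S M] (j : N →ₗ[Q] M) [IsLocalizedModule W j]
    (hφ : ∀ (p : P) (m : M), φ p • m = g p • m)
    (hsurj : ∀ s : S, ∃ p u, g u ∈ W ∧ φ u * s = φ p) (𝔞 : Ideal P) (J : Ideal S) (hJ : 𝔞.map φ = J)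
    (hker : ∀ p, φ p ∈ J → ∃ u, g u ∈ W ∧ u * p ∈ 𝔞)
    [Module.Flat (S ⧸ J) (M ⧸ J • (⊤ : Submodule S M))] : Triv g W 𝔞 N := by
  intro k f x hx
  have hrel : ∑ i, (Ideal.Quotient.mk J (φ (f i))) • (Submodule.Quotient.mk (j (x i)) : M ⧸ J • (⊤ : Submodule S M)) = 0 := by
    have e : ∀ i, (Ideal.Quotient.mk J (φ (f i))) • (Submodule.Quotient.mk (j (x i)) : M ⧸ J • (⊤ : Submodule S M)) =
        Submodule.Quotient.mk (j (g (f i) • x i)) := fun i => by
      rw [map_smul, ← hφ]
      rfl
    simp only [e]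
    simp only [← Submodule.mkQ_apply, ← map_sum]
    rw [Submodule.mkQ_apply, Submodule.Quotient.mk_eq_zero, ← hJ, mem_map_smul_top_iff φ hφ]
    exact (localized_mem_smul_iff W j _ _).2 ⟨1, W.one_mem, by rwa [one_smul]⟩
  obtain ⟨l, a, y, hy, ha⟩ := Module.Flat.isTrivialRelation_of_sum_smul_eq_zero hrel
  choose a₀ ha₀ using fun i j => Ideal.Quotient.mk_surjective (a i j)
  choose pa ua hua hpa using fun i j => hsurj (a₀ i j)
  choose y₀ hy₀ using fun j => Submodule.Quotient.mk_surjective _ (y j)
  choose yn hyn using fun l' => IsLocalizedModule.surj W j (y₀ l')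
  classical
  let U : P := ∏ i, ∏ j', ua i j'
  have hU : g U ∈ W := by
    simp only [U, map_prod]
    exact W.prod_mem fun i _ => W.prod_mem fun j' _ => hua i j'
  have hA : ∀ i j', ∃ A, φ A = φ U * a₀ i j' := fun i j' => by
    obtain ⟨c, hc⟩ : ua i j' ∣ U :=
      (Finset.dvd_prod_of_mem _ (Finset.mem_univ j')).trans (Finset.dvd_prod_of_mem (fun i => ∏ j', ua i j') (Finset.mem_univ i))
    exact ⟨c * pa i j', by rw [map_mul, ← hpa, hc, map_mul]; ring⟩
  choose A hA using hA
  have hsum : ∀ j', φ (∑ i, f i * A i j') ∈ J := fun j' => by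
    rw [← Ideal.Quotient.eq_zero_iff_mem]
    calc Ideal.Quotient.mk J (φ (∑ i, f i * A i j'))
        = Ideal.Quotient.mk J (φ U) * ∑ i, Ideal.Quotient.mk J (φ (f i)) * a i j' := by
          rw [map_sum, map_sum, Finset.mul_sum]
          refine Finset.sum_congr rfl fun i _ => ?_
          rw [map_mul, hA, map_mul, map_mul, ha₀]
          ring
      _ = 0 := by rw [ha, mul_zero]
  choose v hv hva using fun j' => hker _ (hsum j')
  let V : P := ∏ j', v j'
  have hV : g V ∈ W := by
    simp only [V, map_prod]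
    exact W.prod_mem fun j' _ => hv j'
  let T : Q := ∏ j', ((yn j').2 : Q)
  have hT : T ∈ W := W.prod_mem fun j' _ => (yn j').2.2
  choose tc htc using fun j' => (Finset.dvd_prod_of_mem (fun j' => ((yn j').2 : Q)) (Finset.mem_univ j') : ((yn j').2 : Q) ∣ T)
  have hmem : ∀ i, ∃ w ∈ W,
      w • ((g V * g U * T) • x i - ∑ j', g (V * A i j') • (tc j' • (yn j').1)) ∈ 𝔞.map g • (⊤ : Submodule Q N) := by
    intro i
    refine (localized_mem_smul_iff W j _ _).1 ?_
    rw [← mem_map_smul_top_iff φ hφ, hJ, map_sub, map_sum, ← Submodule.Quotient.mk_eq_zero]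
    have e1 : ∀ j', j (g (V * A i j') • (tc j' • (yn j').1)) = (φ V * φ U * a₀ i j') • (T • y₀ j') := fun j' => by
      rw [map_smul, map_smul, ← hyn j', Submonoid.smul_def, smul_smul (tc j'), mul_comm (tc j'), ← htc j', ← hφ, map_mul, hA]
      simp only [mul_assoc]
      rfl
    have e2 : j ((g V * g U * T) • x i) = (φ V * φ U) • (T • j (x i)) := by
      rw [map_smul, mul_smul, ← map_mul, ← hφ, map_mul]
    simp only [e1, e2]
    have h0 : j (x i) - ∑ j', a₀ i j' • y₀ j' ∈ J • (⊤ : Submodule S M) := by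
      rw [← Submodule.Quotient.mk_eq_zero, Submodule.Quotient.mk_sub]
      have hy' := hy i
      beta_reduce at hy'
      rw [hy', sub_eq_zero, ← Submodule.mkQ_apply, map_sum]
      refine Finset.sum_congr rfl fun j' _ => ?_
      rw [← hy₀, ← ha₀]
      rfl
    rw [Submodule.Quotient.mk_eq_zero]
    have h1 : T • ((φ V * φ U) • (j (x i) - ∑ j', a₀ i j' • y₀ j')) ∈ J • (⊤ : Submodule S M) := by
      rw [← hJ, mem_map_smul_top_iff φ hφ]
      refine Submodule.smul_mem _ _ ?_
      rw [← mem_map_smul_top_iff φ hφ, hJ]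
      exact Submodule.smul_mem _ _ h0
    convert h1 using 1
    simp only [smul_sub, Finset.smul_sum, ← smul_smul]
    simp only [smul_comm T (φ _), smul_comm T (a₀ _ _)]
  choose w hw hwm using hmem
  let S₀ : Q := ∏ i, w i
  have hS₀ : S₀ ∈ W := W.prod_mem fun i _ => hw i
  refine ⟨S₀ * (g V * g U * T), W.mul_mem hS₀ (W.mul_mem (W.mul_mem hV hU) hT), l, fun i j' => V * A i j',
    fun j' => S₀ • (tc j' • (yn j').1), fun i => ?_, fun j' => ?_⟩
  · obtain ⟨c, hc⟩ : w i ∣ S₀ := Finset.dvd_prod_of_mem w (Finset.mem_univ i)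
    simp only [smul_comm (g _) S₀, ← Finset.smul_sum, mul_smul S₀, ← smul_sub]
    rw [hc, mul_comm, mul_smul]
    exact Submodule.smul_mem _ _ (hwm i)
  · have : ∑ i, f i * (V * A i j') = V * ∑ i, f i * A i j' := by
      rw [Finset.mul_sum]; exact Finset.sum_congr rfl fun i _ => by ring
    rw [this]
    obtain ⟨c, hc⟩ : v j' ∣ V := Finset.dvd_prod_of_mem v (Finset.mem_univ j')
    rw [hc, mul_comm (v j'), mul_assoc]
    exact 𝔞.mul_mem_left _ (hva j')

/-- Trivial relations upstairs give flatness of the localised fibre. -/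
theorem flat_of_triv [SMulCommClass Q S M] (j : N →ₗ[Q] M) [IsLocalizedModule W j]
    (hφ : ∀ (p : P) (m : M), φ p • m = g p • m)
    (hsurj : ∀ s : S, ∃ p u, g u ∈ W ∧ φ u * s = φ p) (hWunit : ∀ u, g u ∈ W → IsUnit (φ u))
    (hWS : ∀ w ∈ W, ∀ m : M, ∀ J : Ideal S, w • m ∈ J • (⊤ : Submodule S M) → m ∈ J • (⊤ : Submodule S M))
    (𝔞 : Ideal P) (J : Ideal S) (hJle : 𝔞.map φ ≤ J)
    (hJge : ∀ m : M, m ∈ J • (⊤ : Submodule S M) → m ∈ 𝔞.map φ • (⊤ : Submodule S M))
    (h : Triv g W 𝔞 N) : Module.Flat (S ⧸ J) (M ⧸ J • (⊤ : Submodule S M)) := by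
  classical
  refine Module.Flat.of_forall_isTrivialRelation fun {k f x} hfx => ?_
  choose f₀ hf₀ using fun i => Ideal.Quotient.mk_surjective (f i)
  choose pf uf huf hpf using fun i => hsurj (f₀ i)
  choose x₀ hx₀ using fun i => Submodule.Quotient.mk_surjective _ (x i)
  choose xn hxn using fun i => IsLocalizedModule.surj W j (x₀ i)
  -- scale the coefficients
  let U : P := ∏ i, uf i
  have hU : g U ∈ W := by simp only [U, map_prod]; exact W.prod_mem fun i _ => huf i
  have hF : ∀ i, ∃ F, φ F = φ U * f₀ i := fun i => by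
    obtain ⟨c, hc⟩ : uf i ∣ U := Finset.dvd_prod_of_mem uf (Finset.mem_univ i)
    exact ⟨c * pf i, by rw [map_mul, ← hpf, hc, map_mul]; ring⟩
  choose F hF using hF
  let T : Q := ∏ i, ((xn i).2 : Q)
  have hT : T ∈ W := W.prod_mem fun i _ => (xn i).2.2
  choose tc htc using fun i => (Finset.dvd_prod_of_mem (fun i => ((xn i).2 : Q)) (Finset.mem_univ i) : ((xn i).2 : Q) ∣ T)
  have hX : ∀ i, j (tc i • (xn i).1) = T • x₀ i := fun i => by
    rw [map_smul, ← hxn i, Submonoid.smul_def, smul_smul, mul_comm, ← htc i]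
  have h0 : ∑ i, g (F i) • j (tc i • (xn i).1) ∈ 𝔞.map g • (⊤ : Submodule Q M) := by
    have : ∑ i, f₀ i • x₀ i ∈ J • (⊤ : Submodule S M) := by
      rw [← Submodule.Quotient.mk_eq_zero, ← Submodule.mkQ_apply, map_sum, ← hfx]
      refine Finset.sum_congr rfl fun i _ => ?_
      rw [← hf₀, ← hx₀]
      rfl
    have h1 := (mem_map_smul_top_iff φ hφ 𝔞 _).1 (hJge _ (Submodule.smul_mem _ (φ U) this))
    have h2 := Submodule.smul_mem _ T h1
    simp only [Finset.smul_sum] at h2
    refine (Finset.sum_congr rfl fun i _ => ?_).subst (motive := (· ∈ 𝔞.map g • (⊤ : Submodule Q M))) h2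
    rw [hX, ← hφ, hF, smul_comm T, smul_comm T, smul_smul]
  obtain ⟨w, hw, hwm⟩ : ∃ w ∈ W, w • (∑ i, g (F i) • (tc i • (xn i).1)) ∈ 𝔞.map g • (⊤ : Submodule Q N) :=
    (localized_mem_smul_iff W j _ _).1 (by rwa [map_sum, Finset.sum_congr rfl fun i _ => map_smul j _ _])
  obtain ⟨s, hs, l, a, y, hy, ha⟩ := h k F (fun i => w • (tc i • (xn i).1)) (by
    simpa only [Finset.smul_sum, smul_comm w] using hwm)
  have hswT : s * w * T ∈ W := W.mul_mem (W.mul_mem hs hw) hT
  have hdiv : ∀ j', ∃ z, (s * w * T) • z = j (y j') := fun j' =>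
    ((Module.End.isUnit_iff _).1 (IsLocalizedModule.map_units j (⟨_, hswT⟩ : W))).2 (j (y j'))
  choose z hz using hdiv
  refine ⟨l, fun i j' => Ideal.Quotient.mk J (φ (a i j')), fun j' => Submodule.Quotient.mk (z j'), fun i => ?_, fun j' => ?_⟩
  · have h1 : (s * w * T) • (x₀ i - ∑ j', φ (a i j') • z j') ∈ J • (⊤ : Submodule S M) := by
      refine Submodule.smul_mono_left hJle ((mem_map_smul_top_iff φ hφ 𝔞 _).2 ?_)
      have := (localized_mem_smul_iff W j (𝔞.map g) (s • w • tc i • (xn i).1 - ∑ j', g (a i j') • y j')).2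
        ⟨1, W.one_mem, by rw [one_smul]; exact hy i⟩
      rw [map_sub, map_sum, map_smul, map_smul, hX] at this
      rw [smul_sub, Finset.smul_sum, mul_smul, mul_smul]
      refine (congrArg₂ (· - ·) rfl (Finset.sum_congr rfl fun j' _ => ?_)).subst
        (motive := (· ∈ 𝔞.map g • (⊤ : Submodule Q M))) this
      rw [map_smul, smul_comm (s * w * T), hz, hφ]
    have h2 := hWS _ hswT _ J h1
    rw [← Submodule.Quotient.mk_eq_zero, Submodule.Quotient.mk_sub, sub_eq_zero, hx₀, ← Submodule.mkQ_apply,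
      map_sum] at h2
    exact h2
  · have h3 : φ U * ∑ i, f₀ i * φ (a i j') ∈ J := by
      have : φ U * ∑ i, f₀ i * φ (a i j') = φ (∑ i, F i * a i j') := by
        rw [map_sum, Finset.mul_sum]
        exact Finset.sum_congr rfl fun i _ => by rw [map_mul, hF, mul_assoc]
      exact this ▸ hJle (Ideal.mem_map_of_mem φ (ha j'))
    rw [Ideal.unit_mul_mem_iff_mem _ (hWunit U hU), ← Ideal.Quotient.eq_zero_iff_mem, map_sum] at h3
    simpa only [map_mul, hf₀] using h3

end bridge

/-- A faithfully flat module that is flat over the base makes the ring flat over the base. -/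
theorem flat_of_faithfullyFlat_module {R S M : Type u} [CommRing R] [CommRing S] [Algebra R S] [AddCommGroup M]
    [Module R M] [Module S M] [IsScalarTower R S M] [Module.FaithfullyFlat S M] [Module.Flat R M] :
    Module.Flat R S := by
  rw [Module.Flat.iff_lTensor_preserves_injective_linearMap]
  intro X Y _ _ _ _ u hu
  let f : S ⊗[R] X →ₗ[S] S ⊗[R] Y := u.baseChange S
  have : Function.Injective (f.lTensor M) := by
    intro z z' h
    apply (AlgebraTensorModule.cancelBaseChange R S S M X).injective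
    apply Module.Flat.lTensor_preserves_injective_linearMap (M := M) u hu
    have e : ∀ z, u.lTensor M (AlgebraTensorModule.cancelBaseChange R S S M X z) =
        AlgebraTensorModule.cancelBaseChange R S S M Y (f.lTensor M z) := by
      intro z
      induction z using TensorProduct.induction_on with
      | zero => simp
      | tmul m w =>
        induction w using TensorProduct.induction_on with
        | zero => simp
        | tmul c x => simp [f]
        | add a b ha hb => simp only [tmul_add, map_add, ha, hb]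
      | add a b ha hb => simp only [map_add, ha, hb]
    rw [e, e, h]
  exact (Module.FaithfullyFlat.lTensor_injective_iff_injective S M f).1 this

end Groth.Agent.FlatModel
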