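import Mathlib
import Groth.Agent.LocalCrit.Flatness

/-!
The smallest flattening ideal over a complete Noetherian local ring.
-/

set_option autoImplicit false

universe u

open TensorProduct IsLocalRing
open Groth.Agent.LocalCrit

namespace Groth.Agent.FlatteningIdeal

variable {R : Type u} [CommRing R] (P : Type u) [AddCommGroup P] [Module R P]

/-- `P / J P` is flat over `R / J`. -/
def FlatMod (J : Ideal R) : Prop := Module.Flat (R ⧸ J) ((R ⧸ J) ⊗[R] P)

variable {P}

theorem FlatMod.mono {J J' : Ideal R} (hJ : J ≤ J') (h : FlatMod P J) : FlatMod P J' := by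
  letI : Algebra (R ⧸ J) (R ⧸ J') := (Ideal.Quotient.factor hJ).toAlgebra
  haveI : IsScalarTower R (R ⧸ J) (R ⧸ J') := IsScalarTower.of_algebraMap_eq fun _ ↦ rfl
  haveI : Module.Flat (R ⧸ J) ((R ⧸ J) ⊗[R] P) := h
  exact Module.Flat.of_linearEquiv
    (AlgebraTensorModule.cancelBaseChange R (R ⧸ J) (R ⧸ J') (R ⧸ J') P).symm

theorem flatMod_of_subsingleton [Subsingleton P] (J : Ideal R) : FlatMod P J := by
  haveI : Subsingleton ((R ⧸ J) ⊗[R] P) := by
    refine ⟨fun a b ↦ ?_⟩
    have : ∀ x : (R ⧸ J) ⊗[R] P, x = 0 := by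
      intro x
      induction x with
      | zero => rfl
      | tmul c m => rw [Subsingleton.elim m 0, tmul_zero]
      | add a b ha hb => rw [ha, hb, add_zero]
    rw [this a, this b]
  exact (inferInstance : Module.Flat (R ⧸ J) ((R ⧸ J) ⊗[R] P))

lemma mk_eq_zero_iff (J : Ideal R) (p : P) :
    (1 : R ⧸ J) ⊗ₜ[R] p = 0 ↔ p ∈ J • (⊤ : Submodule R P) := by
  rw [← (TensorProduct.quotTensorEquivQuotSMul P J).map_eq_zero_iff, ← map_one (Ideal.Quotient.mk J),
    TensorProduct.quotTensorEquivQuotSMul_mk_tmul, one_smul, Submodule.Quotient.mk_eq_zero]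

variable (P) [IsLocalRing R]

/-- Over an Artinian truncation there is an ideal controlling flatness. -/
theorem exists_control {n : ℕ} (hn : 0 < n) :
    ∃ C : Ideal R, maximalIdeal R ^ n ≤ C ∧ C ≤ maximalIdeal R ∧
      ∀ J : Ideal R, maximalIdeal R ^ n ≤ J → J ≤ maximalIdeal R → (FlatMod P J ↔ C ≤ J) := by
  classical
  set m := maximalIdeal R
  letI : Field (R ⧸ m) := Ideal.Quotient.field m
  let b := Module.Free.chooseBasis (R ⧸ m) ((R ⧸ m) ⊗[R] P)
  let ι := Module.Free.ChooseBasisIndex (R ⧸ m) ((R ⧸ m) ⊗[R] P)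
  have hsurj : Function.Surjective (TensorProduct.mk R (R ⧸ m) P 1) := by
    intro z
    induction z with
    | zero => exact ⟨0, map_zero _⟩
    | tmul c p =>
      obtain ⟨c, rfl⟩ := Ideal.Quotient.mk_surjective c
      refine ⟨c • p, ?_⟩
      rw [TensorProduct.mk_apply, ← smul_tmul, Algebra.smul_def, mul_one]
      rfl
    | add x y hx hy =>
      obtain ⟨p, rfl⟩ := hx
      obtain ⟨q, rfl⟩ := hy
      exact ⟨p + q, map_add _ _ _⟩
  choose e he using fun i ↦ hsurj (b i)
  let Φ : (ι →₀ R) →ₗ[R] P := Finsupp.linearCombination R e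
  have hΦk : ∀ x : ι →₀ R, (1 : R ⧸ m) ⊗ₜ[R] Φ x =
      Finsupp.linearCombination (R ⧸ m) (fun i ↦ b i) (x.mapRange (Ideal.Quotient.mk m) (map_zero _)) := by
    intro x
    induction x using Finsupp.induction_linear with
    | zero => simp
    | add x y hx hy => simp [map_add, tmul_add, hx, hy, Finsupp.mapRange_add]
    | single i r =>
      simp only [Φ, Finsupp.linearCombination_single, Finsupp.mapRange_single]
      rw [tmul_smul, ← TensorProduct.mk_apply, he, ← Ideal.Quotient.algebraMap_eq,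
        IsScalarTower.algebraMap_smul]
  -- generation
  have hgen1 : LinearMap.range Φ ⊔ m • (⊤ : Submodule R P) = ⊤ := by
    rw [eq_top_iff]
    intro p _
    obtain ⟨x, hx⟩ := Finsupp.mapRange_surjective (α := ι) (Ideal.Quotient.mk m) (map_zero _)
      Ideal.Quotient.mk_surjective (b.repr ((1 : R ⧸ m) ⊗ₜ[R] p))
    refine Submodule.mem_sup.mpr ⟨Φ x, ⟨x, rfl⟩, p - Φ x, ?_, by abel⟩
    rw [← mk_eq_zero_iff, tmul_sub, hΦk, hx, b.linearCombination_repr, sub_self]
  have hgen : ∀ j, LinearMap.range Φ ⊔ m ^ j • (⊤ : Submodule R P) = ⊤ := by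
    intro j
    induction j with
    | zero => simp
    | succ j ih =>
      refine eq_top_iff.mpr (ih.ge.trans (sup_le le_sup_left ?_))
      conv_lhs => rw [← hgen1]
      rw [Submodule.smul_sup, ← Submodule.mul_smul, ← pow_succ]
      exact sup_le (Submodule.smul_le_right.trans le_sup_left) le_sup_right
  -- lifting elements of `J P`
  have hJP : ∀ (J : Ideal R) (p : P), p ∈ J • (⊤ : Submodule R P) →
      ∃ x : ι →₀ R, (∀ i, x i ∈ J) ∧ p - Φ x ∈ m ^ n • (⊤ : Submodule R P) := by
    intro J p hp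
    refine Submodule.smul_induction_on hp ?_ ?_
    · intro r hr q _
      obtain ⟨_, ⟨y, rfl⟩, z, hz, rfl⟩ := Submodule.mem_sup.mp ((hgen n).ge (Submodule.mem_top (x := q)))
      refine ⟨r • y, fun i ↦ J.mul_mem_right _ hr, ?_⟩
      rw [map_smul, smul_add, add_sub_cancel_left]
      exact Submodule.smul_mem _ r hz
    · intro p q hp hq
      obtain ⟨x, hx, hx'⟩ := hp
      obtain ⟨y, hy, hy'⟩ := hq
      refine ⟨x + y, fun i ↦ J.add_mem (hx i) (hy i), ?_⟩
      rw [map_add, add_sub_add_comm]
      exact add_mem hx' hy'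
  -- independence modulo `m`
  have hind : ∀ x : ι →₀ R, Φ x ∈ m • (⊤ : Submodule R P) → ∀ i, x i ∈ m := by
    intro x hx i
    rw [← mk_eq_zero_iff, hΦk] at hx
    have := linearIndependent_iff.mp b.linearIndependent _ hx
    rw [← Ideal.Quotient.eq_zero_iff_mem]
    simpa using DFunLike.congr_fun this i
  let C : Ideal R := m ^ n ⊔ Ideal.span
    {r | ∃ (x : ι →₀ R) (i : ι), Φ x ∈ m ^ n • (⊤ : Submodule R P) ∧ x i = r}
  refine ⟨C, le_sup_left, sup_le (Ideal.pow_le_self hn.ne') (Ideal.span_le.mpr ?_), fun J hJn hJm ↦ ?_⟩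
  · rintro _ ⟨x, i, hx, rfl⟩
    exact hind x (Submodule.smul_mono_left (Ideal.pow_le_self hn.ne') hx) i
  -- the comparison map
  let v : ι → (R ⧸ J) ⊗[R] P := fun i ↦ 1 ⊗ₜ e i
  have hv : ∀ x : ι →₀ R, (1 : R ⧸ J) ⊗ₜ[R] Φ x =
      Finsupp.linearCombination (R ⧸ J) v (x.mapRange (Ideal.Quotient.mk J) (map_zero _)) := by
    intro x
    induction x using Finsupp.induction_linear with
    | zero => simp
    | add x y hx hy => simp [map_add, tmul_add, hx, hy, Finsupp.mapRange_add]
    | single i r =>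
      simp only [Φ, v, Finsupp.linearCombination_single, Finsupp.mapRange_single]
      rw [tmul_smul, ← Ideal.Quotient.algebraMap_eq, IsScalarTower.algebraMap_smul]
  constructor
  · intro hflat
    haveI : Module.Flat (R ⧸ J) ((R ⧸ J) ⊗[R] P) := hflat
    haveI : Nontrivial (R ⧸ J) :=
      Ideal.Quotient.nontrivial_iff.mpr fun h ↦ (maximalIdeal.isMaximal R).ne_top (top_le_iff.mp (h ▸ hJm))
    haveI : IsLocalRing (R ⧸ J) := .of_surjective' _ Ideal.Quotient.mk_surjective
    haveI : IsLocalHom (Ideal.Quotient.mk J) := .of_surjective _ Ideal.Quotient.mk_surjective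
    have hli : LinearIndependent (R ⧸ J) v := by
      refine Module.IsLocalRing.linearIndependent_of_flat v ?_
      -- compare the residue fields
      let q := Ideal.Quotient.factor (S := J) (T := m) hJm
      letI : Algebra (R ⧸ J) (R ⧸ m) := q.toAlgebra
      haveI : IsScalarTower R (R ⧸ J) (R ⧸ m) := IsScalarTower.of_algebraMap_eq fun _ ↦ rfl
      rw [linearIndependent_iff]
      intro l hl
      obtain ⟨x, hx⟩ := Finsupp.mapRange_surjective (α := ι)
        ((residue (R ⧸ J)).comp (Ideal.Quotient.mk J)) (map_zero _)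
        (residue_surjective.comp Ideal.Quotient.mk_surjective) l
      let x' : ι →₀ R ⧸ J := x.mapRange (Ideal.Quotient.mk J) (map_zero _)
      have h0 : TensorProduct.mk (R ⧸ J) (ResidueField (R ⧸ J)) ((R ⧸ J) ⊗[R] P) 1
          ((1 : R ⧸ J) ⊗ₜ[R] Φ x) = 0 := by
        rw [hv x, Finsupp.apply_linearCombination, ← hl, ← hx]
        clear hl hx
        induction x using Finsupp.induction_linear with
        | zero => simp
        | add x y hx hy => simp [map_add, Finsupp.mapRange_add, hx, hy]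
        | single i r =>
          simp only [Finsupp.linearCombination_single, Finsupp.mapRange_single, RingHom.comp_apply,
            Function.comp_apply]
          rw [← ResidueField.algebraMap_eq, IsScalarTower.algebraMap_smul]
      replace h0 := (mk_eq_zero_iff (R := R ⧸ J) (maximalIdeal (R ⧸ J)) _).mp h0
      have hx0 : Φ x ∈ m • (⊤ : Submodule R P) := by
        rw [← mk_eq_zero_iff]
        let ψ : (R ⧸ J) ⊗[R] P →ₗ[R ⧸ J] (R ⧸ m) ⊗[R] P :=
          AlgebraTensorModule.map (Algebra.linearMap (R ⧸ J) (R ⧸ m)) LinearMap.id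
        have hψ : ∀ z ∈ maximalIdeal (R ⧸ J) • (⊤ : Submodule (R ⧸ J) ((R ⧸ J) ⊗[R] P)), ψ z = 0 := by
          intro z hz
          refine Submodule.smul_induction_on hz ?_ ?_
          · intro c hc w _
            obtain ⟨c, rfl⟩ := Ideal.Quotient.mk_surjective c
            have hcm : c ∈ m := fun hu ↦ hc (hu.map (Ideal.Quotient.mk J))
            rw [map_smul, ← Ideal.Quotient.algebraMap_eq, IsScalarTower.algebraMap_smul,
              ← IsScalarTower.algebraMap_smul (R ⧸ m), Ideal.Quotient.algebraMap_eq,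
              Ideal.Quotient.eq_zero_iff_mem.mpr hcm, zero_smul]
          · intro a b ha hb
            rw [map_add, ha, hb, add_zero]
        simpa [ψ] using hψ _ h0
      ext i
      rw [← hx, Finsupp.mapRange_apply, RingHom.comp_apply, Finsupp.zero_apply,
        residue_eq_zero_iff]
      exact (mem_maximalIdeal _).mpr fun hu ↦ (hind x hx0 i) (IsUnit.of_map (Ideal.Quotient.mk J) _ hu)
    refine sup_le hJn (Ideal.span_le.mpr ?_)
    rintro _ ⟨x, i, hx, rfl⟩
    have h0 : (1 : R ⧸ J) ⊗ₜ[R] Φ x = 0 :=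
      (mk_eq_zero_iff J _).mpr (Submodule.smul_mono_left hJn hx)
    rw [hv x] at h0
    have := DFunLike.congr_fun (linearIndependent_iff.mp hli _ h0) i
    exact Ideal.Quotient.eq_zero_iff_mem.mp (by simpa using this)
  · intro hCJ
    have hbij : Function.Bijective (Finsupp.linearCombination (R ⧸ J) v) := by
      refine ⟨?_, fun z ↦ ?_⟩
      · rw [injective_iff_map_eq_zero]
        intro y hy
        obtain ⟨x, rfl⟩ := Finsupp.mapRange_surjective (α := ι) (Ideal.Quotient.mk J) (map_zero _)
          Ideal.Quotient.mk_surjective y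
        rw [← hv, mk_eq_zero_iff] at hy
        obtain ⟨x', hx', hxx⟩ := hJP J _ hy
        ext i
        rw [Finsupp.mapRange_apply, Finsupp.zero_apply, Ideal.Quotient.eq_zero_iff_mem]
        have h1 : (x - x') i ∈ C := Ideal.mem_sup_right
          (Ideal.subset_span ⟨x - x', i, by rwa [map_sub], rfl⟩)
        have := J.add_mem (hCJ h1) (hx' i)
        simpa using this
      · induction z with
        | zero => exact ⟨0, map_zero _⟩
        | tmul c p =>
          obtain ⟨c, rfl⟩ := Ideal.Quotient.mk_surjective c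
          obtain ⟨_, ⟨y, rfl⟩, w, hw, rfl⟩ := Submodule.mem_sup.mp ((hgen n).ge (Submodule.mem_top (x := p)))
          refine ⟨(c • y).mapRange (Ideal.Quotient.mk J) (map_zero _), ?_⟩
          rw [← hv, map_smul, tmul_add, ← Ideal.Quotient.algebraMap_eq, Algebra.algebraMap_eq_smul_one,
            smul_tmul, smul_tmul, (mk_eq_zero_iff J _).mpr (Submodule.smul_mem _ c
              (Submodule.smul_mono_left hJn hw)), add_zero]
        | add a b ha hb =>
          obtain ⟨x, rfl⟩ := ha
          obtain ⟨y, rfl⟩ := hb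
          exact ⟨x + y, map_add _ _ _⟩
    exact Module.Flat.of_linearEquiv (LinearEquiv.ofBijective _ hbij).symm

section Family

variable {R : Type u} [CommRing R] [IsLocalRing R] {κ : Type*} (Q : κ → Type u)
  [∀ i, AddCommGroup (Q i)] [∀ i, Module R (Q i)]

theorem exists_control_family (n : ℕ) :
    ∃ C : Ideal R, maximalIdeal R ^ (n + 1) ≤ C ∧ C ≤ maximalIdeal R ∧
      ∀ J : Ideal R, maximalIdeal R ^ (n + 1) ≤ J → J ≤ maximalIdeal R →
        ((∀ i, FlatMod (Q i) J) ↔ C ≤ J) := by
  choose C hC1 hC2 hC3 using fun i ↦ exists_control (R := R) (Q i) (n := n + 1) n.succ_pos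
  refine ⟨maximalIdeal R ^ (n + 1) ⊔ ⨆ i, C i, le_sup_left,
    sup_le (Ideal.pow_le_self n.succ_ne_zero) (iSup_le hC2), fun J hJn hJm ↦ ?_⟩
  simp [sup_le_iff, hJn, iSup_le_iff, fun i ↦ hC3 i J hJn hJm]

theorem exists_ideal_flat_truncations [IsNoetherianRing R] [IsAdicComplete (maximalIdeal R) R] :
    ∃ I : Ideal R, I ≤ maximalIdeal R ∧
      (∀ (n : ℕ) i, FlatMod (Q i) (I ⊔ maximalIdeal R ^ (n + 1))) ∧
      ∀ J : Ideal R, (∀ i, FlatMod (Q i) J) → I ≤ J := by
  set m := maximalIdeal R
  choose I h1 h2 h3 using exists_control_family (R := R) Q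
  have hflat : ∀ n i, FlatMod (Q i) (I n) := fun n ↦ (h3 n (I n) (h1 n) (h2 n)).mpr le_rfl
  have hanti : ∀ n, I (n + 1) ≤ I n := fun n ↦
    (h3 (n + 1) (I n) ((Ideal.pow_le_pow_right (n + 1).le_succ).trans (h1 n)) (h2 n)).mp (hflat n)
  have hanti' : Antitone I := antitone_nat_of_succ_le hanti
  have hstep : ∀ n, I n ≤ I (n + 1) ⊔ m ^ (n + 1) := fun n ↦
    (h3 n _ le_sup_right (sup_le (h2 _) (Ideal.pow_le_self n.succ_ne_zero))).mp
      fun i ↦ (hflat (n + 1) i).mono le_sup_left
  have hclosed : ∀ n, (⨅ k, I k) ⊔ m ^ (n + 1) = I n := by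
    intro n
    refine le_antisymm (sup_le (iInf_le _ n) (h1 n)) fun x hx ↦ ?_
    have hnext : ∀ k (a : R), a ∈ I (n + k) → ∃ b, b ∈ I (n + (k + 1)) ∧ b - a ∈ m ^ (n + k + 1) := by
      intro k a ha
      obtain ⟨b, hb, c, hc, rfl⟩ := Submodule.mem_sup.mp (hstep (n + k) ha)
      exact ⟨b, hb, by rw [sub_add_cancel_left]; exact neg_mem hc⟩
    choose nx hnx1 hnx2 using hnext
    let f : ∀ k, {a // a ∈ I (n + k)} := fun k ↦
      Nat.rec (motive := fun k ↦ {a // a ∈ I (n + k)}) ⟨x, hx⟩
        (fun k a ↦ ⟨nx k a.1 a.2, hnx1 k a.1 a.2⟩) k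
    have hdiff : ∀ a b, a ≤ b → (f b).1 - (f a).1 ∈ m ^ (n + a + 1) := by
      intro a b hab
      induction b, hab using Nat.le_induction with
      | base => simp
      | succ b hab ih =>
        have : (f (b + 1)).1 - (f b).1 ∈ m ^ (n + a + 1) :=
          Ideal.pow_le_pow_right (by omega) (hnx2 b (f b).1 (f b).2)
        simpa using add_mem this ih
    obtain ⟨L, hL⟩ := IsPrecomplete.prec' (I := m) (fun k ↦ (f k).1) fun {a b} hab ↦ by
      rw [SModEq.sub_mem, smul_eq_mul, Ideal.mul_top, ← neg_sub]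
      exact neg_mem (Ideal.pow_le_pow_right (by omega) (hdiff a b hab))
    have hLf : ∀ k, L - (f k).1 ∈ m ^ (n + k + 1) := by
      intro k
      have h1 := hL (n + k + 1)
      rw [SModEq.sub_mem, smul_eq_mul, Ideal.mul_top] at h1
      have h2 := hdiff k (n + k + 1) (by omega)
      have := sub_mem h2 h1
      convert this using 1
      ring
    have hLI : L ∈ ⨅ k, I k := by
      rw [Submodule.mem_iInf]
      intro k
      have : L ∈ I (n + k) := by
        have := add_mem (h1 (n + k) (hLf k)) (f k).2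
        simpa using this
      exact hanti' (Nat.le_add_left k n) this
    have := hLf 0
    rw [← sub_sub_cancel L x]
    exact sub_mem (Ideal.mem_sup_left hLI) (Ideal.mem_sup_right this)
  refine ⟨⨅ k, I k, (iInf_le I 0).trans (h2 0), fun n i ↦ (hclosed n).symm ▸ hflat n i, fun J hJ ↦ ?_⟩
  rcases eq_or_ne J ⊤ with rfl | hne
  · exact le_top
  have hJm := IsLocalRing.le_maximalIdeal hne
  intro x hx
  have hmem : ∀ k, x ∈ J ⊔ m ^ (k + 1) := fun k ↦
    (h3 k _ le_sup_right (sup_le hJm (Ideal.pow_le_self k.succ_ne_zero))).mp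
      (fun i ↦ (hJ i).mono le_sup_left) ((Submodule.mem_iInf I).mp hx k)
  haveI : Nontrivial (R ⧸ J) := Ideal.Quotient.nontrivial_iff.mpr hne
  haveI : IsLocalRing (R ⧸ J) := .of_surjective' _ Ideal.Quotient.mk_surjective
  rw [← Ideal.Quotient.eq_zero_iff_mem, ← Submodule.mem_bot (R ⧸ J),
    ← Ideal.iInf_pow_eq_bot_of_isLocalRing (m.map (Ideal.Quotient.mk J)) (by
      intro h
      have := congrArg (Ideal.comap (Ideal.Quotient.mk J)) h
      rw [Ideal.comap_map_of_surjective _ Ideal.Quotient.mk_surjective, Ideal.comap_top,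
        ← RingHom.ker_eq_comap_bot, Ideal.mk_ker, sup_eq_left.mpr hJm] at this
      exact (maximalIdeal.isMaximal R).ne_top this), Submodule.mem_iInf]
  intro k
  obtain ⟨a, ha, c, hc, rfl⟩ := Submodule.mem_sup.mp (hmem k)
  rw [map_add, Ideal.Quotient.eq_zero_iff_mem.mpr ha, zero_add, ← Ideal.map_pow]
  exact Ideal.mem_map_of_mem _ (Ideal.pow_le_pow_right k.le_succ hc)

end Family

section Global

variable {R : Type u} [CommRing R] (I : Ideal R)

/-- Base change of `KeepsInjective` to a quotient ring. -/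
theorem keepsInjective_baseChange {M : Type u} [AddCommGroup M] [Module R M] (J : Ideal R)
    (h : KeepsInjective (I ⊔ J) M) :
    KeepsInjective (J.map (Ideal.Quotient.mk I)) ((R ⧸ I) ⊗[R] M) := by
  intro N N' _ _ _ _ g hN hN' hg
  letI : Module R N := Module.compHom N (algebraMap R (R ⧸ I))
  haveI : IsScalarTower R (R ⧸ I) N := IsScalarTower.of_compHom _ _ _
  letI : Module R N' := Module.compHom N' (algebraMap R (R ⧸ I))
  haveI : IsScalarTower R (R ⧸ I) N' := IsScalarTower.of_compHom _ _ _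
  have htor : ∀ (T : Type u) [AddCommGroup T] [Module R T] [Module (R ⧸ I) T]
      [IsScalarTower R (R ⧸ I) T],
      Module.IsTorsionBySet (R ⧸ I) T (J.map (Ideal.Quotient.mk I) : Ideal _) →
      Module.IsTorsionBySet R T (I ⊔ J : Ideal R) := by
    intro T _ _ _ _ hT t ⟨r, hr⟩
    show r • t = 0
    rw [← IsScalarTower.algebraMap_smul (R ⧸ I)]
    refine @hT t ⟨_, ?_⟩
    rw [Ideal.Quotient.algebraMap_eq]
    obtain ⟨a, ha, c, hc, rfl⟩ := Submodule.mem_sup.mp hr
    rw [map_add, Ideal.Quotient.eq_zero_iff_mem.mpr ha, zero_add]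
    exact Ideal.mem_map_of_mem _ hc
  have h1 := h (g.restrictScalars R) (htor N hN) (htor N' hN') hg
  let eN : ∀ (T : Type u) [AddCommGroup T] [Module R T] [Module (R ⧸ I) T] [IsScalarTower R (R ⧸ I) T],
      T ⊗[R ⧸ I] ((R ⧸ I) ⊗[R] M) ≃ₗ[R ⧸ I] T ⊗[R] M :=
    fun T _ _ _ _ ↦ AlgebraTensorModule.cancelBaseChange R (R ⧸ I) (R ⧸ I) T M
  have h2 : ∀ x, (g.restrictScalars R).rTensor M (eN N x) = eN N' (g.rTensor _ x) := by
    intro x
    induction x using TensorProduct.induction_on with
    | zero => simp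
    | tmul p y =>
      induction y using TensorProduct.induction_on with
      | zero => simp
      | tmul c z => simp [eN]
      | add y z hy hz => simp only [tmul_add, map_add, hy, hz]
    | add x y hx hy => simp only [map_add, hx, hy]
  intro x y hxy
  exact (eN N).injective (h1 ((h2 x).trans ((congrArg (eN N') hxy).trans (h2 y).symm)))

theorem keepsInjective_congr {A : Type u} [CommRing A] (J : Ideal A) {M M' : Type u} [AddCommGroup M]
    [Module A M] [AddCommGroup M'] [Module A M'] (e : M ≃ₗ[A] M') (h : KeepsInjective J M) :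
    KeepsInjective J M' := by
  intro N N' _ _ _ _ g hN hN' hg
  have h3 : ∀ x, g.rTensor M' (LinearEquiv.lTensor N e x) = LinearEquiv.lTensor N' e (g.rTensor _ x) := by
    intro x
    induction x using TensorProduct.induction_on with
    | zero => simp
    | tmul p y => simp
    | add x y hx hy => simp only [map_add, hx, hy]
  intro x y hxy
  obtain ⟨x, rfl⟩ := (LinearEquiv.lTensor N e).surjective x
  obtain ⟨y, rfl⟩ := (LinearEquiv.lTensor N e).surjective y
  rw [h3, h3] at hxy
  rw [h g hN hN' hg ((LinearEquiv.lTensor N' e).injective hxy)]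

/-- `(R / I) ⊗ M` as a quotient by a submodule over a bigger ring. -/
noncomputable def quotEquiv {B : Type u} [CommRing B] [Algebra R B] (M : Type u) [AddCommGroup M] [Module R M]
    [Module B M] [IsScalarTower R B M] :
    (R ⧸ I) ⊗[R] M ≃ₗ[R] M ⧸ (I.map (algebraMap R B) • (⊤ : Submodule B M)) :=
  TensorProduct.quotTensorEquivQuotSMul M I ≪≫ₗ
    Submodule.quotEquivOfEq _ _ (by rw [Ideal.smul_restrictScalars, Submodule.restrictScalars_top]) ≪≫ₗ
    Submodule.Quotient.restrictScalarsEquiv R (I.map (algebraMap R B) • (⊤ : Submodule B M))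

end Global

/-- Flatness modulo all powers of the maximal ideal gives flatness over `R / I`. -/
theorem flatMod_of_truncations {R : Type u} [CommRing R] [IsLocalRing R] [IsNoetherianRing R]
    {B : Type u} [CommRing B] [IsNoetherianRing B] [Algebra R B]
    {M : Type u} [AddCommGroup M] [Module R M] [Module B M] [IsScalarTower R B M] [Module.Finite B M]
    (hB : (maximalIdeal R).map (algebraMap R B) ≤ Ideal.jacobson ⊥) (I : Ideal R)
    (h : ∀ n, FlatMod M (I ⊔ maximalIdeal R ^ (n + 1))) : FlatMod M I := by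
  let K : Ideal B := I.map (algebraMap R B)
  let M' := M ⧸ (K • (⊤ : Submodule B M))
  letI : Algebra (R ⧸ I) (B ⧸ K) :=
    (Ideal.quotientMap K (algebraMap R B) Ideal.le_comap_map).toAlgebra
  haveI : IsScalarTower R (R ⧸ I) (B ⧸ K) := IsScalarTower.of_algebraMap_eq fun _ ↦ rfl
  letI : Module (R ⧸ I) M' := Module.compHom M' (algebraMap (R ⧸ I) (B ⧸ K))
  haveI : IsScalarTower (R ⧸ I) (B ⧸ K) M' := IsScalarTower.of_compHom _ _ _
  haveI : IsScalarTower R (R ⧸ I) M' := ⟨fun r a x ↦ by
    induction x using Submodule.Quotient.induction_on with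
    | _ p =>
      obtain ⟨a, rfl⟩ := Ideal.Quotient.mk_surjective a
      show algebraMap (R ⧸ I) (B ⧸ K) (r • Ideal.Quotient.mk I a) • Submodule.Quotient.mk p =
        r • (algebraMap (R ⧸ I) (B ⧸ K) (Ideal.Quotient.mk I a) • (Submodule.Quotient.mk p : M'))
      rw [Algebra.smul_def, map_mul, mul_smul, ← IsScalarTower.algebraMap_apply R (R ⧸ I) (B ⧸ K),
        IsScalarTower.algebraMap_apply R B (B ⧸ K)]
      generalize algebraMap (R ⧸ I) (B ⧸ K) (Ideal.Quotient.mk I a) • (Submodule.Quotient.mk p : M') = z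
      induction z using Submodule.Quotient.induction_on with
      | _ z =>
        show Submodule.Quotient.mk (algebraMap R B r • z) = Submodule.Quotient.mk (r • z)
        rw [IsScalarTower.algebraMap_smul]⟩
  haveI : IsScalarTower B (B ⧸ K) M' := inferInstance
  haveI : Module.Finite (B ⧸ K) M' := Module.Finite.of_restrictScalars_finite B (B ⧸ K) M'
  let e : (R ⧸ I) ⊗[R] M ≃ₗ[R ⧸ I] M' :=
    LinearEquiv.extendScalarsOfSurjective Ideal.Quotient.mk_surjective (quotEquiv I M)
  have key : Module.Flat (R ⧸ I) M' := by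
    refine flat_of_forall_quotient_pow (B := B ⧸ K) ((maximalIdeal R).map (Ideal.Quotient.mk I)) ?_
      fun n ↦ ?_
    · rw [Ideal.map_map]
      show Ideal.map ((Ideal.Quotient.mk K).comp (algebraMap R B)) (maximalIdeal R) ≤ _
      rw [← Ideal.map_map]
      refine (Ideal.map_mono hB).trans ?_
      refine Ideal.map_le_iff_le_comap.mpr fun b hb ↦ ?_
      rw [Ideal.mem_comap, Ideal.mem_jacobson_bot]
      intro y
      obtain ⟨y, rfl⟩ := Ideal.Quotient.mk_surjective y
      rw [← map_mul, ← map_one (Ideal.Quotient.mk K), ← map_add]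
      exact (Ideal.mem_jacobson_bot.mp hb y).map _
    · rw [← Ideal.map_pow]
      refine keepsInjective_congr _ e (keepsInjective_baseChange I _ ?_)
      rcases n with _ | n
      · rw [pow_zero, Ideal.one_eq_top, sup_top_eq]
        intro N N' _ _ _ _ g hN _ _
        have : Subsingleton N := ⟨fun a b ↦ by
          have ha := @hN a ⟨1, trivial⟩
          have hb := @hN b ⟨1, trivial⟩
          simp only [one_smul] at ha hb
          rw [ha, hb]⟩
        exact Function.injective_of_subsingleton _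
      · haveI : Module.Flat (R ⧸ (I ⊔ maximalIdeal R ^ (n + 1)))
            ((R ⧸ (I ⊔ maximalIdeal R ^ (n + 1))) ⊗[R] M) := h n
        exact keepsInjective_of_flat _ _
  exact Module.Flat.of_linearEquiv e

end Groth.Agent.FlatteningIdeal
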