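import Groth.Agent.FlatModel.Spread
import Groth.Agent.FlatModel.FlatteningIdeal
import Groth.Agent.S0398
import Mathlib.RingTheory.HopkinsLevitzki

/-!
Universal property of the flattening ideal over a complete local ring.
-/

set_option autoImplicit false
set_option linter.style.haveILetI false
set_option linter.unusedSectionVars false
set_option backward.isDefEq.respectTransparency false

universe u

open TensorProduct IsLocalRing

namespace Groth.Agent.FlattenUniv

open FlatSpread

attribute [local instance] Algebra.TensorProduct.rightAlgebra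

/-- Flatness at the primes avoiding a submonoid gives flatness of the localisation. -/
theorem flat_localized_of_forall {R S : Type u} [CommRing R] [CommRing S] [Algebra R S] {N : Type u}
    [AddCommGroup N] [Module S N] [Module R N] [IsScalarTower R S N] (W : Submonoid S)
    (h : ∀ (Q : Ideal S) [Q.IsPrime], Disjoint (Q : Set S) W → FlatCA.FlatAt R Q N) :
    Module.Flat R (LocalizedModule W N) := by
  rw [FlatModel.flat_localized_iff W (LocalizedModule.mkLinearMap W N)]
  intro J y hy
  by_contra hne
  push Not at hne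
  obtain ⟨Q, hQ, hle, hdisj⟩ := Ideal.exists_le_prime_disjoint
    (LinearMap.ker (LinearMap.toSpanSingleton S (N ⊗[R] J) y)) W
    (Set.disjoint_left.2 fun s hs hsW => hne s hsW hs)
  haveI := hQ
  obtain ⟨s, hs, hsy⟩ := (FlatModel.flat_localized_iff (Ideal.primeCompl Q)
    (LocalizedModule.mkLinearMap (Ideal.primeCompl Q) N)).1 (h Q hdisj) J y hy
  exact hs (hle hsy)

variable {R S R' S' : Type u} [CommRing R] [IsLocalRing R] [IsNoetherianRing R] [CommRing S]
  [CommRing R'] [IsLocalRing R'] [CommRing S'] [Algebra R S] [Algebra R R'] [IsLocalHom (algebraMap R R')]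
  [Algebra S S'] [Algebra R' S'] [Algebra R S'] [IsScalarTower R S S'] [IsScalarTower R R' S']
  [Algebra.IsPushout R R' S S'] {M : Type u} [AddCommGroup M] [Module S M] [Module R M] [IsScalarTower R S M]

/-- Flatness over `R / I` gives flatness after base change to rings where `I` dies. -/
theorem flatAt_of_le_ker (I : Ideal R) (hker : I ≤ RingHom.ker (algebraMap R R'))
    (hI : ∀ (q : Ideal S) [q.IsPrime], q.comap (algebraMap R S) = maximalIdeal R →
      Module.Flat (R ⧸ I) ((R ⧸ I) ⊗[R] LocalizedModule q.primeCompl M))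
    (q' : Ideal S') [q'.IsPrime] (hq' : q'.comap (algebraMap R' S') = maximalIdeal R') :
    FlatCA.FlatAt R' q' (S' ⊗[S] M) := by
  let q := q'.comap (algebraMap S S')
  have hq : q.comap (algebraMap R S) = maximalIdeal R := by
    rw [Ideal.comap_comap, ← IsScalarTower.algebraMap_eq, IsScalarTower.algebraMap_eq R R' S',
      ← Ideal.comap_comap, hq', maximalIdeal_comap]
  let W := q.primeCompl
  let P := LocalizedModule W M
  haveI : Module.Flat (R ⧸ I) ((R ⧸ I) ⊗[R] P) := hI q hq
  letI : Algebra (R ⧸ I) R' := (Ideal.Quotient.lift I (algebraMap R R') fun a ha => hker ha).toAlgebra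
  haveI : IsScalarTower R (R ⧸ I) R' := IsScalarTower.of_algebraMap_eq fun _ => rfl
  haveI : Module.Flat R' (R' ⊗[R] P) :=
    Module.Flat.of_linearEquiv (AlgebraTensorModule.cancelBaseChange R (R ⧸ I) R' R' P).symm
  haveI : Module.Flat R' (LocalizedModule (Algebra.algebraMapSubmonoid S' W) (S' ⊗[S] M)) :=
    (flat_localized_baseChange (R := R) (A := R') (T := S') W (LocalizedModule.mkLinearMap W M)).2 inferInstance
  exact FlatModel.flat_localized_mono (L₁ := LocalizedModule (Algebra.algebraMapSubmonoid S' W) (S' ⊗[S] M))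
    (L₂ := LocalizedModule q'.primeCompl (S' ⊗[S] M)) (Algebra.algebraMapSubmonoid S' W) q'.primeCompl
    (fun s hs => ⟨1, by rw [one_mul]; obtain ⟨w, hw, rfl⟩ := hs; exact hw⟩)
    (LocalizedModule.mkLinearMap (Algebra.algebraMapSubmonoid S' W) (S' ⊗[S] M))
    (LocalizedModule.mkLinearMap q'.primeCompl (S' ⊗[S] M))

/-- Flatness after base change forces the flattening ideal into all powers of the maximal ideal. -/
theorem map_le_pow_of_flatAt (I : Ideal R)
    (hmin : ∀ J : Ideal R, (∀ (q : Ideal S) [q.IsPrime], q.comap (algebraMap R S) = maximalIdeal R →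
      Module.Flat (R ⧸ J) ((R ⧸ J) ⊗[R] LocalizedModule q.primeCompl M)) → I ≤ J)
    (h : ∀ (q' : Ideal S') [q'.IsPrime], q'.comap (algebraMap R' S') = maximalIdeal R' →
      FlatCA.FlatAt R' q' (S' ⊗[S] M)) (n : ℕ) :
    I.map (algebraMap R R') ≤ maximalIdeal R' ^ (n + 1) := by
  let mn := maximalIdeal R' ^ (n + 1)
  let A := R' ⧸ mn
  let J := RingHom.ker (algebraMap R A)
  suffices I ≤ J by
    rw [Ideal.map_le_iff_le_comap]
    intro x hx
    exact Ideal.mem_comap.2 (Ideal.Quotient.eq_zero_iff_mem.1 (this hx : algebraMap R A x = 0))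
  refine hmin J fun q _ hq => ?_
  have hmJ : maximalIdeal R ^ (n + 1) ≤ J := fun x hx => by
    refine Ideal.Quotient.eq_zero_iff_mem.2 ?_
    have := Ideal.mem_map_of_mem (algebraMap R R') hx
    rw [Ideal.map_pow] at this
    exact Ideal.pow_right_mono (Ideal.map_le_iff_le_comap.2 (maximalIdeal_comap (algebraMap R R')).ge) _ this
  haveI : Nontrivial A := Ideal.Quotient.nontrivial_iff.2 fun h0 =>
    (maximalIdeal.isMaximal R').ne_top (top_le_iff.1 (h0.ge.trans (Ideal.pow_le_self n.succ_ne_zero)))
  haveI : Nontrivial (R ⧸ J) := Ideal.Quotient.nontrivial_iff.2 (RingHom.ker_ne_top _)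
  haveI : IsLocalRing (R ⧸ J) := .of_surjective' _ Ideal.Quotient.mk_surjective
  haveI : IsArtinianRing (R ⧸ J) := by
    rw [isArtinianRing_iff_isNilpotent_maximalIdeal]
    refine ⟨n + 1, ?_⟩
    have hle : maximalIdeal (R ⧸ J) ≤ (maximalIdeal R).map (Ideal.Quotient.mk J) := fun x hx => by
      obtain ⟨r, rfl⟩ := Ideal.Quotient.mk_surjective x
      exact Ideal.mem_map_of_mem _ ((mem_maximalIdeal r).2 fun hu => hx (hu.map _))
    refine le_bot_iff.1 ((Ideal.pow_right_mono hle _).trans ?_)
    rw [← Ideal.map_pow, le_bot_iff, Ideal.map_eq_bot_iff_le_ker, Ideal.mk_ker]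
    exact hmJ
  letI : Algebra (R ⧸ J) A := (RingHom.kerLift (algebraMap R A)).toAlgebra
  haveI : IsScalarTower R (R ⧸ J) A := IsScalarTower.of_algebraMap_eq fun _ => rfl
  let P := LocalizedModule q.primeCompl M
  -- the truncated pushout
  let T := A ⊗[R'] S'
  letI : Algebra S T := ((algebraMap S' T).comp (algebraMap S S')).toAlgebra
  haveI : IsScalarTower S S' T := IsScalarTower.of_algebraMap_eq fun _ => rfl
  haveI : IsScalarTower R S T := IsScalarTower.of_algebraMap_eq fun r => by
    show _ = algebraMap S' T (algebraMap S S' (algebraMap R S r))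
    rw [← IsScalarTower.algebraMap_apply R S S', IsScalarTower.algebraMap_apply R R' S',
      ← IsScalarTower.algebraMap_apply R' S' T, ← IsScalarTower.algebraMap_apply R R' T]
  haveI : IsScalarTower R S' T := IsScalarTower.of_algebraMap_eq fun r => by
    rw [IsScalarTower.algebraMap_apply R R' S', ← IsScalarTower.algebraMap_apply R' S' T, ← IsScalarTower.algebraMap_apply R R' T]
  haveI : Algebra.IsPushout R' A S' T := inferInstance
  haveI : Algebra.IsPushout R R' S S' := inferInstance
  haveI : Algebra.IsPushout R A S T :=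
    (Algebra.IsPushout.comp_iff (R := R) (S := R') (R' := S) (S' := S') (T := A) (T' := T)).2 inferInstance
  haveI : Module.Flat A (LocalizedModule (Algebra.algebraMapSubmonoid T q.primeCompl) (T ⊗[S] M)) := by
    refine flat_localized_of_forall (R := A) (N := T ⊗[S] M) _ fun Q _ hQ => ?_
    let q' := Q.comap (algebraMap S' T)
    have hq' : q'.comap (algebraMap R' S') = maximalIdeal R' := by
      refine ((maximalIdeal.isMaximal R').eq_of_le (Ideal.IsPrime.ne_top inferInstance) fun r hr => ?_).symm
      show algebraMap S' T (algebraMap R' S' r) ∈ Q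
      rw [← IsScalarTower.algebraMap_apply R' S' T, IsScalarTower.algebraMap_apply R' A T]
      refine Ideal.IsPrime.mem_of_pow_mem ‹Q.IsPrime› (n + 1) ?_
      rw [← map_pow, ← map_pow, show algebraMap R' A (r ^ (n + 1)) = 0 from
        Ideal.Quotient.eq_zero_iff_mem.2 (Ideal.pow_mem_pow hr _), map_zero]
      exact zero_mem _
    exact RG.flatAt_congr Q (AlgebraTensorModule.cancelBaseChange S S' T T M)
      (flatAt_baseChange (A := R') (A' := A) (T := S') (T' := T) Q (h q' hq'))
  haveI : Module.Flat A (A ⊗[R] P) :=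
    (flat_localized_baseChange (R := R) (A := A) (T := T) q.primeCompl (LocalizedModule.mkLinearMap q.primeCompl M)).1
      inferInstance
  haveI : Module.Flat A (A ⊗[R ⧸ J] ((R ⧸ J) ⊗[R] P)) :=
    Module.Flat.of_linearEquiv (AlgebraTensorModule.cancelBaseChange R (R ⧸ J) A A P)
  exact S0398.result (RingHom.kerLift_injective _)

end Groth.Agent.FlattenUniv
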