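import Mathlib

/-!
A relation between polynomials modulo the maximal ideal of a local ring, whose data come from a
subring, is already a relation modulo the contracted prime of the subring, up to a factor outside a
given prime.
-/

set_option autoImplicit false

namespace Groth.Agent.FlatModel

open MvPolynomial

universe u

/-- Coefficientwise application of an additive map. -/
noncomputable def coeffwise {n : ℕ} {k F : Type u} [CommRing k] [CommRing F] (l : k →+ F)
    (f : MvPolynomial (Fin n) k) : MvPolynomial (Fin n) F :=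
  ∑ d ∈ f.support, monomial d (l (f.coeff d))

theorem coeff_coeffwise {n : ℕ} {k F : Type u} [CommRing k] [CommRing F] (l : k →+ F)
    (f : MvPolynomial (Fin n) k) (d : Fin n →₀ ℕ) : (coeffwise l f).coeff d = l (f.coeff d) := by
  classical
  by_cases h : d ∈ f.support
  · simp [coeffwise, coeff_sum, coeff_monomial, h]
  · simp [coeffwise, coeff_sum, coeff_monomial, h, notMem_support_iff.1 h]

theorem coeffwise_sub_sum {n : ℕ} {k F : Type u} [CommRing k] [CommRing F] (l : k →+ F) {κ : Type*}
    [Fintype κ] (f : MvPolynomial (Fin n) k) (g : κ → MvPolynomial (Fin n) k) :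
    coeffwise l (f - ∑ j, g j) = coeffwise l f - ∑ j, coeffwise l (g j) := by
  ext d
  simp [coeff_coeffwise, coeff_sum]

theorem coeffwise_mul {n : ℕ} {k F : Type u} [CommRing k] [CommRing F] (i : F →+* k) (l : k →+ F)
    (hl : ∀ z c, l (z * i c) = l z * c) (f : MvPolynomial (Fin n) k) (g : MvPolynomial (Fin n) F) :
    coeffwise l (f * MvPolynomial.map i g) = coeffwise l f * g := by
  classical
  ext d
  simp [coeff_coeffwise, coeff_mul, coeff_map, hl]

theorem exists_poly_descent {R₁ R : Type u} [CommRing R₁] [CommRing R] [IsLocalRing R] [Algebra R₁ R]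
    {n : ℕ} (Q : Ideal (MvPolynomial (Fin n) R))
    (hQ : (IsLocalRing.maximalIdeal R).map C ≤ Q)
    {ι κ : Type*} [Fintype κ] (v : ι → MvPolynomial (Fin n) R₁) (g : κ → ι → MvPolynomial (Fin n) R₁)
    (s : MvPolynomial (Fin n) R) (hs : s ∉ Q) (a : κ → MvPolynomial (Fin n) R)
    (h : ∀ i, s * MvPolynomial.map (algebraMap R₁ R) (v i) -
      ∑ j, a j * MvPolynomial.map (algebraMap R₁ R) (g j i) ∈ (IsLocalRing.maximalIdeal R).map C) :
    ∃ t, MvPolynomial.map (algebraMap R₁ R) t ∉ Q ∧ ∃ b : κ → MvPolynomial (Fin n) R₁,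
      ∀ i, t * v i - ∑ j, b j * g j i ∈ ((IsLocalRing.maximalIdeal R).comap (algebraMap R₁ R)).map C := by
  classical
  let p := (IsLocalRing.maximalIdeal R).comap (algebraMap R₁ R)
  have : p.IsPrime := Ideal.IsPrime.comap _
  let k := IsLocalRing.ResidueField R
  let i0 : R₁ ⧸ p →+* k := Ideal.Quotient.lift p ((IsLocalRing.residue R).comp (algebraMap R₁ R))
    (fun r hr => (IsLocalRing.residue_eq_zero_iff _).2 hr)
  have hi0 : Function.Injective i0 := RingHom.lift_injective_of_ker_le_ideal _ _ fun r hr =>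
    (IsLocalRing.residue_eq_zero_iff _).1 hr
  let i1 : FractionRing (R₁ ⧸ p) →+* k := IsFractionRing.lift hi0
  let : Algebra (FractionRing (R₁ ⧸ p)) k := i1.toAlgebra
  let bk := Module.Free.chooseBasis (FractionRing (R₁ ⧸ p)) k
  let π : MvPolynomial (Fin n) R →+* MvPolynomial (Fin n) k := MvPolynomial.map (IsLocalRing.residue R)
  let e : R₁ →+* FractionRing (R₁ ⧸ p) :=
    (algebraMap (R₁ ⧸ p) (FractionRing (R₁ ⧸ p))).comp (Ideal.Quotient.mk p)
  let π₁ : MvPolynomial (Fin n) R₁ →+* MvPolynomial (Fin n) (FractionRing (R₁ ⧸ p)) := MvPolynomial.map e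
  have hcomp : ∀ f, MvPolynomial.map i1 (π₁ f) = π (MvPolynomial.map (algebraMap R₁ R) f) := by
    intro f
    have h1 : i1.comp e = (IsLocalRing.residue R).comp (algebraMap R₁ R) :=
      RingHom.ext fun r => by simp [e, i1, i0]
    simp only [π, π₁, MvPolynomial.map_map, h1]
  have hπ : Function.Surjective π := MvPolynomial.map_surjective _ IsLocalRing.residue_surjective
  have hker : ∀ f, π f = 0 → f ∈ (IsLocalRing.maximalIdeal R).map C := fun f hf =>
    mem_map_C_iff.2 fun d => (IsLocalRing.residue_eq_zero_iff _).1 (by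
      have := congrArg (coeff d) hf
      simp only [π, coeff_map, coeff_zero] at this
      exact this)
  -- a coordinate keeping `s` outside `Q`
  obtain ⟨j₀, hj₀⟩ : ∃ j, MvPolynomial.map i1 (coeffwise (bk.coord j).toAddMonoidHom (π s)) ∉ Q.map π := by
    by_contra! hall
    let J := (π s).support.biUnion fun d => (bk.repr ((π s).coeff d)).support
    have hsum : π s = ∑ j ∈ J, C (bk j) * MvPolynomial.map i1 (coeffwise (bk.coord j).toAddMonoidHom (π s)) := by
      ext d
      rw [coeff_sum]
      simp only [coeff_C_mul, coeff_map, coeff_coeffwise, LinearMap.toAddMonoidHom_coe, Module.Basis.coord_apply]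
      conv_lhs => rw [← bk.linearCombination_repr ((π s).coeff d)]
      rw [Finsupp.linearCombination_apply, Finsupp.sum_of_support_subset _ (s := J) _ _ (by simp)]
      · exact Finset.sum_congr rfl fun j _ => by rw [Algebra.smul_def, mul_comm]; rfl
      · intro j hj
        by_cases hd : d ∈ (π s).support
        · exact Finset.mem_biUnion.2 ⟨d, hd, hj⟩
        · simp [notMem_support_iff.1 hd] at hj
    have hmem : π s ∈ Q.map π := hsum ▸ Submodule.sum_mem _ fun j _ => Ideal.mul_mem_left _ _ (hall j)
    obtain ⟨q, hq, hqs⟩ := (Ideal.mem_map_iff_of_surjective π hπ).1 hmem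
    have h1 : q - s ∈ Q := hQ (hker _ (by rw [map_sub, hqs, sub_self]))
    have := sub_mem hq h1
    rw [sub_sub_cancel] at this
    exact hs this
  let l : k →+ FractionRing (R₁ ⧸ p) := (bk.coord j₀).toAddMonoidHom
  have hl : ∀ z c, l (z * i1 c) = l z * c := fun z c => by
    rw [mul_comm z, mul_comm (l z)]
    show bk.coord j₀ (i1 c * z) = _
    rw [show i1 c * z = c • z from (Algebra.smul_def c z).symm, map_smul]
    rfl
  have hrel : ∀ i, coeffwise l (π s) * π₁ (v i) - ∑ j, coeffwise l (π (a j)) * π₁ (g j i) = 0 := by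
    intro i
    simp only [← coeffwise_mul i1 l hl, ← coeffwise_sub_sum, hcomp, ← map_mul, ← map_sum, ← map_sub]
    have h0 : π (s * MvPolynomial.map (algebraMap R₁ R) (v i) -
        ∑ j, a j * MvPolynomial.map (algebraMap R₁ R) (g j i)) = 0 := by
      ext d
      simp only [π, coeff_map, coeff_zero]
      exact (IsLocalRing.residue_eq_zero_iff _).2 (mem_map_C_iff.1 (h i) d)
    rw [h0]
    ext d
    simp [coeff_coeffwise]
  -- common denominator
  let P : Option κ → MvPolynomial (Fin n) (FractionRing (R₁ ⧸ p)) := fun o =>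
    o.elim (coeffwise l (π s)) fun j => coeffwise l (π (a j))
  obtain ⟨⟨c, hc⟩, hint⟩ := IsLocalization.exist_integer_multiples_of_finite (nonZeroDivisors (R₁ ⧸ p))
    (fun x : (o : Option κ) × (P o).support => (P x.1).coeff x.2.1)
  have hlift : ∀ o, ∃ T, π₁ T = C (algebraMap _ (FractionRing (R₁ ⧸ p)) c) * P o := by
    intro o
    have : C (algebraMap _ (FractionRing (R₁ ⧸ p)) c) * P o ∈ Set.range (MvPolynomial.map e) := by
      rw [MvPolynomial.mem_range_map_iff_coeffs_subset]
      intro x hx
      obtain ⟨d, hd, rfl⟩ := mem_coeffs_iff.1 hx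
      rw [coeff_C_mul]
      by_cases hd' : d ∈ (P o).support
      · obtain ⟨y, hy⟩ := hint ⟨o, ⟨d, hd'⟩⟩
        obtain ⟨y, rfl⟩ := Ideal.Quotient.mk_surjective y
        exact ⟨y, by rw [← Algebra.smul_def]; exact hy⟩
      · exact ⟨0, by simp [notMem_support_iff.1 hd']⟩
    exact this
  choose T hT using hlift
  have hcu : IsUnit (algebraMap _ (FractionRing (R₁ ⧸ p)) c) := IsLocalization.map_units _ ⟨c, hc⟩
  refine ⟨T none, fun hmem => hj₀ ?_, fun j => T (some j), fun i => mem_map_C_iff.2 fun d => ?_⟩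
  · have h1 := Ideal.mem_map_of_mem π hmem
    rw [← hcomp, hT, map_mul, map_C] at h1
    exact (Ideal.unit_mul_mem_iff_mem _ ((hcu.map i1).map C)).1 h1
  · have h0 : π₁ (T none * v i - ∑ j, T (some j) * g j i) = 0 := by
      simp only [map_sub, map_mul, map_sum, hT, P, Option.elim, mul_assoc, ← Finset.mul_sum, ← mul_sub, hrel,
        mul_zero]
    have h1 := congrArg (coeff d) h0
    simp only [π₁, coeff_map, coeff_zero, e, RingHom.comp_apply,
      IsFractionRing.to_map_eq_zero_iff] at h1
    exact Ideal.Quotient.eq_zero_iff_mem.1 h1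

end Groth.Agent.FlatModel
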