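import Groth.Agent.FlatModel.Local
import Groth.Agent.FlatModel.PolyDescent
import Groth.Agent.FlatModel.NoethCrit

/-!
The criterion of flatness of a cokernel by injectivity modulo the maximal ideal, for finitely
presented modules over a polynomial ring over an arbitrary local ring, at a prime.
-/

set_option autoImplicit false

namespace Groth.Agent.FlatModel

open MvPolynomial TensorProduct

universe u

variable {a b n : ℕ} {R₁ R : Type u} [CommRing R₁] [CommRing R] [Algebra R₁ R]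

theorem mem_smul_top_of_mem_CJ {J : Ideal R} {x : V a n R} (hx : x ∈ CJ a n J) :
    x ∈ (J.map C : Ideal (MvPolynomial (Fin n) R)) • (⊤ : Submodule (MvPolynomial (Fin n) R) (V a n R)) := by
  rw [pi_eq_sum_univ x]
  exact Submodule.sum_mem _ fun i _ => Submodule.smul_mem_smul (mem_CJ.1 hx i) trivial

theorem mapV_mem_CJ {J₁ : Ideal R₁} {J : Ideal R} (h : J₁ ≤ J.comap (algebraMap R₁ R)) {v : V a n R₁}
    (hv : v ∈ CJ a n J₁) : mapV (algebraMap R₁ R) v ∈ CJ a n J :=
  mem_CJ.2 fun i => mem_map_C_iff.2 fun d => by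
    rw [mapV_apply, MvPolynomial.coeff_map]
    exact h (mem_map_C_iff.1 (mem_CJ.1 hv i) d)

variable (R) in
theorem KK_eq_span_image {G : Set (V a n R₁)} (K : Submodule (MvPolynomial (Fin n) R₁) (V a n R₁))
    (hG : Submodule.span (MvPolynomial (Fin n) R₁) G = K) :
    KK K R = Submodule.span (MvPolynomial (Fin n) R) (mapV (algebraMap R₁ R) '' G) := by
  refine le_antisymm (Submodule.span_le.2 ?_) (Submodule.span_mono (Set.image_mono ?_))
  · rintro _ ⟨w, hw, rfl⟩
    exact mapV_mem_span _ (hG ▸ hw)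
  · exact fun w hw => hG ▸ Submodule.subset_span hw

/-- The presented module over `R` is the base change of the one over `R₁`. -/
theorem exists_tensor_map (K : Submodule (MvPolynomial (Fin n) R₁) (V a n R₁)) :
    ∃ ψ : (V a n R₁ ⧸ K) ⊗[R₁] R →ₗ[R₁] V a n R ⧸ KK K R, Function.Bijective ψ ∧
      (∀ v r, ψ (Submodule.Quotient.mk v ⊗ₜ r) = r • Submodule.Quotient.mk (mapL R v)) ∧
      ∀ (t : MvPolynomial (Fin n) R₁) z, ψ (t • z) = MvPolynomial.map (algebraMap R₁ R) t • ψ z := by
  let γ : (V a n R₁ ⧸ K) →ₗ[R₁] V a n R ⧸ KK K R :=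
    (Submodule.liftQ (K.restrictScalars R₁) ((KK K R).mkQ.restrictScalars R₁ ∘ₗ mapL R)
      (fun w hw => (Submodule.Quotient.mk_eq_zero _).2 (mapL_mem_KK K hw))) ∘ₗ
      (Submodule.Quotient.restrictScalarsEquiv R₁ K).symm.toLinearMap
  have hγ : ∀ v, γ (Submodule.Quotient.mk v) = Submodule.Quotient.mk (mapL R v) := fun v => rfl
  let ψ : (V a n R₁ ⧸ K) ⊗[R₁] R →ₗ[R₁] V a n R ⧸ KK K R :=
    TensorProduct.lift (((LinearMap.lsmul R (V a n R ⧸ KK K R)).flip.restrictScalars₁₂ R₁ R₁).comp γ)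
  have hψ : ∀ x r, ψ (x ⊗ₜ r) = r • γ x := fun x r => rfl
  let θ₀ : V a n R →ₗ[R₁] (V a n R₁ ⧸ K) ⊗[R₁] R :=
    (Finsupp.lsum R₁ fun e => TensorProduct.mk R₁ (V a n R₁ ⧸ K) R (Submodule.Quotient.mk (B a n R₁ e))) ∘ₗ
      ((B a n R).repr.toLinearMap.restrictScalars R₁)
  have hθ₀ : ∀ (r : R) w, θ₀ (r • mapL R w) = Submodule.Quotient.mk w ⊗ₜ r := by
    intro r w
    have : θ₀ ∘ₗ (Algebra.lsmul R₁ R₁ (V a n R) r : V a n R →ₗ[R₁] V a n R) ∘ₗ mapL R =
        (TensorProduct.mk R₁ (V a n R₁ ⧸ K) R).flip r ∘ₗ (K.mkQ.restrictScalars R₁) := by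
      refine (B a n R₁).ext fun e => ?_
      simp [θ₀, mapL_B]
    exact LinearMap.congr_fun this w
  have hθK : ∀ x ∈ KK K R, θ₀ x = 0 := by
    intro x hx
    have hx' : x ∈ ((⊤ : Ideal R).map C : Ideal (MvPolynomial (Fin n) R)) • KK K R := by
      rwa [Ideal.map_top, Submodule.top_smul]
    refine AddSubmonoid.closure_induction (fun y hy => ?_) (map_zero _) (fun y z _ _ hy hz => ?_)
      (smul_KK_le_closure K ⊤ hx')
    · obtain ⟨r, -, w, hw, rfl⟩ := hy
      rw [hθ₀, (Submodule.Quotient.mk_eq_zero _).2 hw, zero_tmul]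
    · rw [map_add, hy, hz, add_zero]
  have hleft : ∀ z x, ψ z = Submodule.Quotient.mk x → θ₀ x = z := by
    intro z
    induction z using TensorProduct.induction_on with
    | zero =>
      intro x hx
      exact hθK x ((Submodule.Quotient.mk_eq_zero _).1 (hx.symm.trans (map_zero _)))
    | tmul y r =>
      intro x hx
      obtain ⟨w, rfl⟩ := Submodule.Quotient.mk_surjective _ y
      rw [hψ, hγ, ← Submodule.Quotient.mk_smul] at hx
      have := hθK _ ((Submodule.Quotient.eq _).1 hx)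
      rw [map_sub, hθ₀, sub_eq_zero] at this
      exact this.symm
    | add y z hy hz =>
      intro x hx
      obtain ⟨x₁, h₁⟩ := Submodule.Quotient.mk_surjective _ (ψ y)
      have := hz (x - x₁) (by rw [Submodule.Quotient.mk_sub, ← hx, map_add, h₁, add_sub_cancel_left])
      rw [map_sub, hy x₁ h₁.symm, sub_eq_iff_eq_add] at this
      rw [this, add_comm]
  refine ⟨ψ, ⟨fun z z' h => ?_, fun y => ?_⟩, fun v r => by rw [hψ, hγ], fun t z => ?_⟩
  · obtain ⟨x, hx⟩ := Submodule.Quotient.mk_surjective _ (ψ z)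
    rw [← hleft z x hx.symm, hleft z' x (h ▸ hx.symm)]
  · obtain ⟨x, rfl⟩ := Submodule.Quotient.mk_surjective _ y
    rw [← (B a n R).linearCombination_repr x, Finsupp.linearCombination_apply, Finsupp.sum, ← Submodule.mkQ_apply,
      map_sum]
    refine ⟨∑ e ∈ ((B a n R).repr x).support, Submodule.Quotient.mk (B a n R₁ e) ⊗ₜ (B a n R).repr x e, ?_⟩
    rw [map_sum]
    exact Finset.sum_congr rfl fun e _ => by rw [hψ, hγ, mapL_B]; rfl
  · induction z using TensorProduct.induction_on with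
    | zero => simp
    | tmul y r =>
      obtain ⟨w, rfl⟩ := Submodule.Quotient.mk_surjective _ y
      rw [TensorProduct.smul_tmul', ← Submodule.Quotient.mk_smul, hψ, hψ, hγ, hγ, smul_comm,
        ← Submodule.Quotient.mk_smul]
      congr 2
      exact mapV_smul _ t w
    | add y z hy hz => rw [smul_add, map_add, hy, hz, map_add, smul_add]

/-- Flatness of the localisation of a presented module is inherited by the base change. -/
theorem ptFlat_baseChange (K : Submodule (MvPolynomial (Fin n) R₁) (V a n R₁))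
    (W₁ : Submonoid (MvPolynomial (Fin n) R₁)) (W : Submonoid (MvPolynomial (Fin n) R))
    (hW : ∀ t ∈ W₁, MvPolynomial.map (algebraMap R₁ R) t ∈ W)
    [Module.Flat R₁ (LocalizedModule W₁ (V a n R₁ ⧸ K))] : PtFlat K R W := by
  obtain ⟨ψ, hψ, hψt, hψs⟩ := exists_tensor_map (R := R) K
  rw [ptFlat_iff K W (KK K R).mkQ (Submodule.mkQ_surjective _) (Submodule.ker_mkQ _)]
  intro J y hy
  let γ : (V a n R₁ ⧸ K) →ₗ[R₁] V a n R ⧸ KK K R :=
    ψ ∘ₗ (TensorProduct.mk R₁ (V a n R₁ ⧸ K) R).flip 1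
  let ψJ : (V a n R₁ ⧸ K) ⊗[R₁] J →ₗ[R₁] (V a n R ⧸ KK K R) ⊗[R] J :=
    TensorProduct.lift (((TensorProduct.mk R (V a n R ⧸ KK K R) J).restrictScalars₁₂ R₁ R₁).comp γ)
  have hψJ : ∀ x j, ψJ (x ⊗ₜ j) = ψ (x ⊗ₜ 1) ⊗ₜ j := fun x j => rfl
  have hψr : ∀ x (r : R), ψ (x ⊗ₜ r) = r • ψ (x ⊗ₜ 1) := by
    intro x r
    obtain ⟨v, rfl⟩ := Submodule.Quotient.mk_surjective _ x
    rw [hψt, hψt, one_smul]
  have hsurj : Function.Surjective ψJ := by
    intro y
    induction y using TensorProduct.induction_on with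
    | zero => exact ⟨0, map_zero _⟩
    | tmul m j =>
      obtain ⟨z, rfl⟩ := hψ.2 m
      induction z using TensorProduct.induction_on with
      | zero => exact ⟨0, by simp⟩
      | tmul x r => exact ⟨x ⊗ₜ (r • j), by rw [hψJ, hψr x r, TensorProduct.smul_tmul]⟩
      | add z z' hz hz' =>
        obtain ⟨w, hw⟩ := hz; obtain ⟨w', hw'⟩ := hz'
        exact ⟨w + w', by rw [map_add, hw, hw', map_add, add_tmul]⟩
    | add y y' hy hy' =>
      obtain ⟨w, rfl⟩ := hy; obtain ⟨w', rfl⟩ := hy'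
      exact ⟨w + w', map_add _ _ _⟩
  obtain ⟨z, rfl⟩ := hsurj y
  let ι : J →ₗ[R₁] R := J.subtype.restrictScalars R₁
  have hψι : ∀ z, ψ (ι.lTensor _ z) = TensorProduct.rid R _ (J.subtype.lTensor _ (ψJ z)) := by
    intro z
    induction z using TensorProduct.induction_on with
    | zero => simp
    | tmul x j => simp [hψJ, ι, hψr x (j : R)]
    | add z z' hz hz' => simp only [map_add, hz, hz']
  have h0 : ι.lTensor _ z = 0 := hψ.1 (by rw [hψι, hy, map_zero, map_zero])
  let f : (V a n R₁ ⧸ K) →ₗ[MvPolynomial (Fin n) R₁] LocalizedModule W₁ (V a n R₁ ⧸ K) :=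
    LocalizedModule.mkLinearMap W₁ _
  let φ := AlgebraTensorModule.rTensor R₁ J f
  let φ' := AlgebraTensorModule.rTensor R₁ R f
  have h1 : ι.lTensor (LocalizedModule W₁ (V a n R₁ ⧸ K)) (φ z) = φ' (ι.lTensor _ z) := by
    clear h0 hy
    induction z using TensorProduct.induction_on with
    | zero => simp
    | tmul x j => simp [φ, φ']
    | add z z' hz hz' => simp only [map_add, hz, hz']
  rw [h0, map_zero] at h1
  have h2 : φ z = 0 := Module.Flat.lTensor_preserves_injective_linearMap (M := LocalizedModule W₁ (V a n R₁ ⧸ K)) ι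
    (fun x y h => Subtype.ext h) (h1.trans (map_zero _).symm)
  obtain ⟨⟨t, ht⟩, htz⟩ := (IsLocalizedModule.eq_zero_iff W₁ φ).1 h2
  refine ⟨_, hW t ht, ?_⟩
  have hψJs : ∀ z, ψJ (t • z) = MvPolynomial.map (algebraMap R₁ R) t • ψJ z := by
    intro z
    induction z using TensorProduct.induction_on with
    | zero => simp
    | tmul x j => rw [TensorProduct.smul_tmul', hψJ, hψJ, ← TensorProduct.smul_tmul', hψs, TensorProduct.smul_tmul']
    | add z z' hz hz' => rw [smul_add, map_add, hz, hz', map_add, smul_add]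
  rw [← hψJs, show t • z = 0 from htz, map_zero]

/-- A kernel element of the base change is killed outside the prime. -/
theorem smul_mem_KK_of_localized (KM : Submodule (MvPolynomial (Fin n) R₁) (V b n R₁))
    (KN : Submodule (MvPolynomial (Fin n) R₁) (V a n R₁))
    (U₁ : V b n R₁ →ₗ[MvPolynomial (Fin n) R₁] V a n R₁) (hU : KM ≤ KN.comap U₁)
    (UR : V b n R →ₗ[MvPolynomial (Fin n) R] V a n R) (hUR : ∀ v, UR (mapL R v) = mapL R (U₁ v))
    (W₁ : Submonoid (MvPolynomial (Fin n) R₁))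
    (hinj : Function.Injective (LocalizedModule.map W₁ (KM.mapQ KN U₁ hU)))
    [Module.Flat R₁ (LocalizedModule W₁ (V a n R₁ ⧸ KN) ⧸
      LinearMap.range (LocalizedModule.map W₁ (KM.mapQ KN U₁ hU)))]
    {v : V b n R} (hv : UR v ∈ KK KN R) :
    ∃ t ∈ W₁, MvPolynomial.map (algebraMap R₁ R) t • v ∈ KK KM R := by
  obtain ⟨ψM, hψM, hψMt, hψMs⟩ := exists_tensor_map (R := R) KM
  obtain ⟨ψN, hψN, hψNt, -⟩ := exists_tensor_map (R := R) KN
  let u₁ := KM.mapQ KN U₁ hU
  have hUK : KK KM R ≤ (KK KN R).comap UR := by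
    refine Submodule.span_le.2 ?_
    rintro _ ⟨w, hw, rfl⟩
    show UR (mapL R w) ∈ KK KN R
    rw [hUR]
    exact mapL_mem_KK KN (hU hw)
  let uR := (KK KM R).mapQ (KK KN R) UR hUK
  have hcomm : ∀ z, ψN ((u₁.restrictScalars R₁).rTensor R z) = uR (ψM z) := by
    intro z
    induction z using TensorProduct.induction_on with
    | zero => simp
    | tmul x r =>
      obtain ⟨w, rfl⟩ := Submodule.Quotient.mk_surjective _ x
      rw [LinearMap.rTensor_tmul, hψMt, LinearMap.map_smul_of_tower]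
      show ψN (Submodule.Quotient.mk (U₁ w) ⊗ₜ r) = r • Submodule.Quotient.mk (UR (mapL R w))
      rw [hψNt, hUR]
    | add z z' hz hz' => simp only [map_add, hz, hz']
  obtain ⟨z, hz⟩ := hψM.2 (Submodule.Quotient.mk v)
  have h0 : (u₁.restrictScalars R₁).rTensor R z = 0 := hψN.1 (by
    rw [hcomm, hz, map_zero]
    exact (Submodule.Quotient.mk_eq_zero _).2 hv)
  let uW := (LocalizedModule.map W₁ u₁).restrictScalars R₁
  let φM := AlgebraTensorModule.rTensor R₁ R (LocalizedModule.mkLinearMap W₁ (V b n R₁ ⧸ KM))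
  let φN := AlgebraTensorModule.rTensor R₁ R (LocalizedModule.mkLinearMap W₁ (V a n R₁ ⧸ KN))
  have h1 : uW.rTensor R (φM z) = φN ((u₁.restrictScalars R₁).rTensor R z) := by
    clear h0 hz
    induction z using TensorProduct.induction_on with
    | zero => simp
    | tmul x r => simp [φM, φN, uW, LocalizedModule.map_mk]
    | add z z' hz hz' => simp only [map_add, hz, hz']
  rw [h0, map_zero] at h1
  have : Module.Flat R₁ (LocalizedModule W₁ (V a n R₁ ⧸ KN) ⧸ LinearMap.range uW) :=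
    Module.Flat.of_linearEquiv (Submodule.Quotient.restrictScalarsEquiv R₁
      (LinearMap.range (LocalizedModule.map W₁ (KM.mapQ KN U₁ hU))))
  have hinjR : Function.Injective (uW.rTensor R) := by
    have h := LinearMap.lTensor_injective_of_exact_of_flat (LinearMap.range uW).mkQ (Submodule.mkQ_surjective _) uW
      hinj (LinearMap.exact_map_mkQ_range uW) R
    intro x y hxy
    apply (TensorProduct.comm R₁ _ R).injective
    apply h
    rw [← LinearMap.comm_comp_rTensor_comp_comm_eq]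
    simp [hxy]
  have h2 : φM z = 0 := hinjR (h1.trans (map_zero _).symm)
  obtain ⟨⟨t, ht⟩, htz⟩ := (IsLocalizedModule.eq_zero_iff W₁ φM).1 h2
  refine ⟨t, ht, (Submodule.Quotient.mk_eq_zero _).1 ?_⟩
  rw [Submodule.Quotient.mk_smul, ← hz, ← hψMs, show t • z = 0 from htz, map_zero]

/-- The criterion with presentations over a noetherian subring. -/
theorem injective_flat_of_noetherian [IsNoetherianRing R₁] [IsLocalRing R]
    (Q : Ideal (MvPolynomial (Fin n) R)) [Q.IsPrime] (hQ : (IsLocalRing.maximalIdeal R).map C ≤ Q)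
    (KM : Submodule (MvPolynomial (Fin n) R₁) (V b n R₁))
    (KN : Submodule (MvPolynomial (Fin n) R₁) (V a n R₁)) [Module.Flat R₁ (V a n R₁ ⧸ KN)]
    (U₁ : V b n R₁ →ₗ[MvPolynomial (Fin n) R₁] V a n R₁) (hU : KM ≤ KN.comap U₁)
    (UR : V b n R →ₗ[MvPolynomial (Fin n) R] V a n R) (hUR : ∀ v, UR (mapL R v) = mapL R (U₁ v))
    (hu : ∀ v, (∃ s ∉ Q, s • UR v ∈ KK KN R ⊔ CJ a n (IsLocalRing.maximalIdeal R)) →
      ∃ s ∉ Q, s • v ∈ KK KM R ⊔ CJ b n (IsLocalRing.maximalIdeal R)) :
    (∀ v, UR v ∈ KK KN R → ∃ s ∉ Q, s • v ∈ KK KM R) ∧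
      PtFlat (KN ⊔ LinearMap.range U₁) R Q.primeCompl := by
  classical
  let φ : MvPolynomial (Fin n) R₁ →+* MvPolynomial (Fin n) R := MvPolynomial.map (algebraMap R₁ R)
  let Q₁ : Ideal (MvPolynomial (Fin n) R₁) := Q.comap φ
  let p : Ideal R₁ := (IsLocalRing.maximalIdeal R).comap (algebraMap R₁ R)
  have : p.IsPrime := Ideal.IsPrime.comap _
  have : Q₁.IsPrime := Ideal.IsPrime.comap _
  have hQC : Q.comap C = IsLocalRing.maximalIdeal R :=
    ((IsLocalRing.maximalIdeal.isMaximal R).eq_of_le (Ideal.IsPrime.comap C).ne_top (Ideal.map_le_iff_le_comap.1 hQ)).symm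
  have hp : p = (IsLocalRing.maximalIdeal (Localization.AtPrime Q₁)).comap
      (algebraMap R₁ (Localization.AtPrime Q₁)) := by
    rw [IsScalarTower.algebraMap_eq R₁ (MvPolynomial (Fin n) R₁), ← Ideal.comap_comap,
      show (IsLocalRing.maximalIdeal (Localization.AtPrime Q₁)).comap
        (algebraMap (MvPolynomial (Fin n) R₁) (Localization.AtPrime Q₁)) = Q₁ from
        IsLocalization.AtPrime.under_maximalIdeal (Localization.AtPrime Q₁) Q₁]
    ext r
    show algebraMap R₁ R r ∈ IsLocalRing.maximalIdeal R ↔ φ (C r) ∈ Q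
    rw [← hQC, Ideal.mem_comap, MvPolynomial.map_C]
  have : Module.Flat R₁ (LocalizedModule Q₁.primeCompl (V a n R₁ ⧸ KN)) := by
    rw [flat_localized_iff Q₁.primeCompl (LocalizedModule.mkLinearMap Q₁.primeCompl _)]
    exact fun J y hy => ⟨1, one_mem _, by
      rw [one_smul]
      exact Module.Flat.lTensor_preserves_injective_linearMap (M := V a n R₁ ⧸ KN) J.subtype Subtype.val_injective
        (hy.trans (map_zero _).symm)⟩
  let u₁ := KM.mapQ KN U₁ hU
  let uW := LocalizedModule.map Q₁.primeCompl u₁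
  have hpmap : p.map (algebraMap R₁ (Localization.AtPrime Q₁)) =
      ((p.map C : Ideal (MvPolynomial (Fin n) R₁))).map (algebraMap _ (Localization.AtPrime Q₁)) := by
    rw [Ideal.map_map]; rfl
  have hred : ∀ v : V b n R₁, (∃ s ∉ Q₁, s • U₁ v ∈ KN ⊔ CJ a n p) → ∃ t ∉ Q₁, t • v ∈ KM ⊔ CJ b n p := by
    rintro v ⟨s, hs, hsv⟩
    obtain ⟨w, hw, c, hc, hwc⟩ := Submodule.mem_sup.1 hsv
    have h1 : φ s • UR (mapL R v) ∈ KK KN R ⊔ CJ a n (IsLocalRing.maximalIdeal R) := by
      rw [hUR]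
      show φ s • mapV _ (U₁ v) ∈ _
      rw [← mapV_smul, ← hwc, mapV_add]
      exact Submodule.add_mem_sup (mapL_mem_KK KN hw) (mapV_mem_CJ le_rfl hc)
    obtain ⟨s', hs', hsv'⟩ := hu _ ⟨φ s, hs, h1⟩
    obtain ⟨w', hw', c', hc', hwc'⟩ := Submodule.mem_sup.1 hsv'
    obtain ⟨G, hG⟩ := (IsNoetherian.noetherian KM : KM.FG)
    rw [KK_eq_span_image R KM hG, ← Subtype.range_coe (s := (G : Set (V b n R₁))), ← Set.range_comp,
      Submodule.mem_span_range_iff_exists_fun] at hw'
    obtain ⟨co, hco⟩ := hw'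
    obtain ⟨t, ht, bb, hb⟩ := exists_poly_descent Q hQ v (fun j : (G : Set (V b n R₁)) => (j : V b n R₁)) s' hs' co
      (fun i => by
        have := mem_CJ.1 hc' i
        rw [eq_sub_of_add_eq' hwc', ← hco] at this
        simpa [mapL, Finset.sum_apply] using this)
    refine ⟨t, ht, ?_⟩
    have hd : t • v - ∑ j, bb j • (j : V b n R₁) ∈ CJ b n p := mem_CJ.2 fun i => by
      simpa [Finset.sum_apply] using hb i
    rw [← add_sub_cancel (∑ j, bb j • (j : V b n R₁)) (t • v)]
    exact Submodule.add_mem_sup (Submodule.sum_mem _ fun j _ => Submodule.smul_mem _ _ (hG ▸ Submodule.subset_span j.2)) hd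
  have hquot : ∀ {c : ℕ} (K : Submodule (MvPolynomial (Fin n) R₁) (V c n R₁)) (v : V c n R₁),
      Submodule.Quotient.mk v ∈ (p.map C : Ideal (MvPolynomial (Fin n) R₁)) •
        (⊤ : Submodule (MvPolynomial (Fin n) R₁) (V c n R₁ ⧸ K)) ↔ v ∈ K ⊔ CJ c n p := by
    intro c K v
    rw [← Submodule.range_mkQ, ← Submodule.map_top, ← Submodule.map_smul'', ← Submodule.mkQ_apply,
      ← Submodule.mem_comap, Submodule.comap_map_mkQ]
    exact ⟨fun h => SetLike.le_def.1 (sup_le_sup_left (smul_le_CJ p ⊤) _) h,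
      fun h => SetLike.le_def.1 (sup_le_sup_left (fun x hx => mem_smul_top_of_mem_CJ hx) _) h⟩
  have hcrit : ∀ x, uW x ∈ p • (⊤ : Submodule R₁ _) → x ∈ p • (⊤ : Submodule R₁ _) := by
    intro x hx
    rw [← Submodule.restrictScalars_top R₁ (Localization.AtPrime Q₁), ← Submodule.restrictScalars_map_smul_eq,
      Submodule.restrictScalars_mem, hpmap] at hx ⊢
    induction x using LocalizedModule.induction_on with
    | h m s =>
      obtain ⟨v, rfl⟩ := Submodule.Quotient.mk_surjective _ m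
      have hsplit : LocalizedModule.mk (Submodule.Quotient.mk v) s = Localization.mk 1 s •
          LocalizedModule.mkLinearMap Q₁.primeCompl (V b n R₁ ⧸ KM) (Submodule.Quotient.mk v) := by
        simp [LocalizedModule.mk_smul_mk]
      rw [hsplit] at hx ⊢
      refine Submodule.smul_mem _ _ ?_
      rw [map_smul] at hx
      have hu' : uW (LocalizedModule.mkLinearMap Q₁.primeCompl (V b n R₁ ⧸ KM) (Submodule.Quotient.mk v)) =
          LocalizedModule.mkLinearMap Q₁.primeCompl (V a n R₁ ⧸ KN) (Submodule.Quotient.mk (U₁ v)) := by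
        simp [uW, u₁, LocalizedModule.map_mk]
      have hunit : IsUnit (Localization.mk 1 s : Localization.AtPrime Q₁) := by
        rw [Localization.mk_eq_mk']
        exact (IsLocalization.AtPrime.isUnit_mk'_iff _ Q₁ _ _).2 (one_mem _)
      obtain ⟨e, he⟩ := hunit
      rw [hu', ← he] at hx
      have hx' := Submodule.smul_mem _ (↑e⁻¹ : Localization.AtPrime Q₁) hx
      rw [smul_smul, e.inv_mul, one_smul] at hx'
      rw [localized_mem_map_smul_iff Q₁.primeCompl] at hx' ⊢
      obtain ⟨t, ht, htx⟩ := hx'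
      rw [← Submodule.Quotient.mk_smul, hquot] at htx
      obtain ⟨t', ht', h'⟩ := hred v ⟨t, ht, htx⟩
      exact ⟨t', ht', by rwa [← Submodule.Quotient.mk_smul, hquot]⟩
  obtain ⟨hinj, hflat⟩ := injective_flat_of_prime p hp uW hcrit
  refine ⟨fun v hv => ?_, ?_⟩
  · obtain ⟨t, ht, htv⟩ := smul_mem_KK_of_localized KM KN U₁ hU UR hUR Q₁.primeCompl hinj hv
    exact ⟨φ t, ht, htv⟩
  · let q : (V a n R₁ ⧸ KN) →ₗ[MvPolynomial (Fin n) R₁] V a n R₁ ⧸ (KN ⊔ LinearMap.range U₁) :=
      Submodule.factor le_sup_left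
    have hq : Function.Exact u₁ q := by
      rw [LinearMap.exact_iff]
      simp only [q, u₁, Submodule.factor, Submodule.ker_mapQ, Submodule.range_mapQ, Submodule.comap_id, Submodule.map_sup]
      simp
    have hqs : Function.Surjective q := Submodule.factor_surjective le_sup_left
    let qW := LocalizedModule.map Q₁.primeCompl q
    have hex : Function.Exact uW qW := LocalizedModule.map_exact Q₁.primeCompl u₁ q hq
    have hsur : Function.Surjective qW := LocalizedModule.map_surjective Q₁.primeCompl q hqs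
    have : Module.Flat R₁ (LocalizedModule Q₁.primeCompl (V a n R₁ ⧸ (KN ⊔ LinearMap.range U₁))) :=
      Module.Flat.of_linearEquiv ((hex.linearEquivOfSurjective hsur).restrictScalars R₁).symm
    exact ptFlat_baseChange _ Q₁.primeCompl Q.primeCompl fun t ht => ht

end Groth.Agent.FlatModel
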