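import Groth.Agent.FlatModel.FibreCrit
import Groth.Agent.CAlgOdd.FlatDescFinite
import Mathlib.RingTheory.IntegralClosure.IsIntegralClosure.Basic
import Mathlib.Algebra.Polynomial.Lifts

/-!
Flatness of finitely presented modules over polynomial rings descends along injective integral maps.
-/

set_option autoImplicit false

namespace Groth.Agent.FlatModel

open TensorProduct

universe u

/-- Flatness of the presented module is inherited by base change. -/
theorem flat_KK_of_baseChange {a n : ℕ} {R₀ R₁ R : Type u} [CommRing R₀] [CommRing R₁] [CommRing R] [Algebra R₀ R₁]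
    [Algebra R₁ R] [Algebra R₀ R] [IsScalarTower R₀ R₁ R]
    (K₀ : Submodule (MvPolynomial (Fin n) R₀) (V a n R₀)) (h : Module.Flat R₁ (V a n R₁ ⧸ KK K₀ R₁)) :
    Module.Flat R (V a n R ⧸ KK K₀ R) := by
  obtain ⟨j, hj, -⟩ := exists_baseChange_KK (R := R) (KK K₀ R₁)
  have := Module.Flat.isBaseChange R₁ R (V a n R₁ ⧸ KK K₀ R₁) (V a n R ⧸ KK (KK K₀ R₁) R) hj
  exact Module.Flat.of_linearEquiv ((Submodule.quotEquivOfEq _ _ (KK_KK (R₁ := R₁) K₀).symm).restrictScalars R)

/-- Descent of flatness of the presented module along a finite injective map. -/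
theorem flat_KK_descend_finite {a n : ℕ} {R₀ R₁ S₂ : Type u} [CommRing R₀] [CommRing R₁] [CommRing S₂]
    [IsNoetherianRing R₁] [Algebra R₀ R₁] [Algebra R₁ S₂] [Algebra R₀ S₂] [IsScalarTower R₀ R₁ S₂]
    [Module.Finite R₁ S₂] (hinj : Function.Injective (algebraMap R₁ S₂))
    (K₀ : Submodule (MvPolynomial (Fin n) R₀) (V a n R₀)) (h : Module.Flat S₂ (V a n S₂ ⧸ KK K₀ S₂)) :
    Module.Flat R₁ (V a n R₁ ⧸ KK K₀ R₁) := by
  obtain ⟨j, hj, -⟩ := exists_baseChange_KK (R := S₂) (KK K₀ R₁)
  have : Module.Flat S₂ (S₂ ⊗[R₁] (V a n R₁ ⧸ KK K₀ R₁)) := Module.Flat.of_linearEquiv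
    (hj.equiv.trans ((Submodule.quotEquivOfEq _ _ (KK_KK (R₁ := R₁) K₀)).restrictScalars S₂))
  exact CAlgOdd.FlatDesc.flat_of_finite_injective (S := S₂) (M := V a n R₁ ⧸ KK K₀ R₁) hinj

/-- The inclusion between subalgebras over different bases. -/
def subalgebraHom {R₀ R₁ S : Type u} [CommRing R₀] [CommRing R₁] [CommRing S] [Algebra R₀ S] [Algebra R₁ S]
    (A : Subalgebra R₀ S) (B : Subalgebra R₁ S) (h : ∀ x ∈ A, x ∈ B) : A →+* B :=
  RingHom.codRestrict A.val.toRingHom B fun x => h x.1 x.2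

/-- Descent of flatness from a subalgebra generated by finitely many integral elements. -/
theorem flat_KK_of_finset {a n : ℕ} {R₀ R₁ R S : Type u} [CommRing R₀] [CommRing R₁] [CommRing R] [CommRing S]
    [IsNoetherianRing R₁] [Algebra R₀ R₁] [Algebra R₀ R] [Algebra R₁ R] [IsScalarTower R₀ R₁ R] [Algebra R S]
    [Algebra R₀ S] [Algebra R₁ S] [IsScalarTower R₀ R₁ S] [IsScalarTower R₁ R S]
    (hinj : Function.Injective (algebraMap R S)) {hinj₁ : Function.Injective (algebraMap R₁ R)}
    (t : Finset S) (hint : ∀ x ∈ t, IsIntegral R₁ x)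
    (K₀ : Submodule (MvPolynomial (Fin n) R₀) (V a n R₀))
    (h : Module.Flat (Algebra.adjoin R₀ (t : Set S)) (V a n (Algebra.adjoin R₀ (t : Set S)) ⧸
      KK K₀ (Algebra.adjoin R₀ (t : Set S)))) :
    Module.Flat R (V a n R ⧸ KK K₀ R) := by
  have : Module.Finite R₁ (Algebra.adjoin R₁ (t : Set S)) :=
    Module.Finite.iff_fg.2 (fg_adjoin_of_finite t.finite_toSet hint)
  have hle₁ : ∀ x ∈ Algebra.adjoin R₀ (t : Set S), x ∈ Algebra.adjoin R₁ (t : Set S) := by
    intro x hx
    induction hx using Algebra.adjoin_induction with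
    | mem x hx => exact Algebra.subset_adjoin hx
    | algebraMap r => rw [IsScalarTower.algebraMap_apply R₀ R₁ S r]; exact Subalgebra.algebraMap_mem _ _
    | add a b _ _ ha hb => exact add_mem ha hb
    | mul a b _ _ ha hb => exact mul_mem ha hb
  let := (subalgebraHom (Algebra.adjoin R₀ (t : Set S)) (Algebra.adjoin R₁ (t : Set S)) hle₁).toAlgebra
  have : IsScalarTower R₀ (Algebra.adjoin R₀ (t : Set S)) (Algebra.adjoin R₁ (t : Set S)) :=
    IsScalarTower.of_algebraMap_eq fun x => Subtype.ext rfl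
  have h₂ := flat_KK_of_baseChange (R := Algebra.adjoin R₁ (t : Set S)) K₀ h
  have h₁ : Function.Injective (algebraMap R₁ (Algebra.adjoin R₁ (t : Set S))) := fun x y e =>
    hinj₁ (hinj (by
      rw [← IsScalarTower.algebraMap_apply, ← IsScalarTower.algebraMap_apply]
      exact congrArg Subtype.val e))
  exact flat_KK_of_baseChange K₀ (flat_KK_descend_finite h₁ K₀ h₂)

/-- Flatness descends along injective integral maps for finitely presented modules over polynomial rings. -/
theorem flat_of_flat_baseChange_integral (R S : Type u) [CommRing R] [CommRing S] [Algebra R S]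
    [Algebra.IsIntegral R S] (hinj : Function.Injective (algebraMap R S)) (n : ℕ)
    (M : Type u) [AddCommGroup M] [Module (MvPolynomial (Fin n) R) M] [Module R M]
    [IsScalarTower R (MvPolynomial (Fin n) R) M] [Module.FinitePresentation (MvPolynomial (Fin n) R) M]
    [Module.Flat S (S ⊗[R] M)] : Module.Flat R M := by
  classical
  rcases subsingleton_or_nontrivial R with hR | hR
  · have := Module.subsingleton R M
    infer_instance
  obtain ⟨a, π, hπ⟩ := Module.Finite.exists_fin' (MvPolynomial (Fin n) R) M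
  obtain ⟨G, hG⟩ := Module.FinitePresentation.fg_ker π hπ
  let c : Finset R := G.biUnion fun v => Finset.univ.biUnion fun i => (v i).coeffs
  let R₀ : Subalgebra ℤ R := Algebra.adjoin ℤ (c : Set R)
  have : Algebra.FiniteType ℤ R₀ := (Subalgebra.fg_iff_finiteType R₀).1 (Subalgebra.fg_adjoin_finset c)
  have : IsNoetherianRing R₀ := Algebra.FiniteType.isNoetherianRing ℤ R₀
  have hGdesc : ∀ v ∈ G, ∃ w : V a n R₀, mapV (algebraMap R₀ R) w = v := by
    intro v hv
    choose w hw using fun i => (MvPolynomial.mem_range_map_iff_coeffs_subset (f := algebraMap R₀ R)).2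
      (show ((v i).coeffs : Set R) ⊆ Set.range (algebraMap R₀ R) from fun x hx =>
        ⟨⟨x, Algebra.subset_adjoin (Finset.mem_biUnion.2 ⟨v, hv, Finset.mem_biUnion.2 ⟨i, Finset.mem_univ _, hx⟩⟩)⟩, rfl⟩)
    exact ⟨w, funext hw⟩
  choose! lv hlv using hGdesc
  let K₀ : Submodule (MvPolynomial (Fin n) R₀) (V a n R₀) := Submodule.span _ (lv '' G)
  have hker : LinearMap.ker π = KK K₀ R := by
    rw [KK_eq_span_image R K₀ rfl, Set.image_image, (Set.image_congr hlv).trans (Set.image_id' _), hG]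
  let eM : (V a n R ⧸ KK K₀ R) ≃ₗ[R] M :=
    (((Submodule.quotEquivOfEq _ _ hker.symm).trans (π.quotKerEquivOfSurjective hπ))).restrictScalars R
  have hflatS : FlatC K₀ S := by
    rw [flatC_iff_flat]
    obtain ⟨j, hj, -⟩ := exists_baseChange_KK (R := S) (KK K₀ R)
    have : Module.Flat S (V a n S ⧸ KK (KK K₀ R) S) :=
      Module.Flat.of_linearEquiv (hj.equiv.symm.trans (eM.baseChange R S _ _))
    exact Module.Flat.of_linearEquiv ((Submodule.quotEquivOfEq _ _ (KK_KK (R₁ := R) K₀).symm).restrictScalars S)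
  obtain ⟨S₁, hS₁, hflat₁⟩ := exists_fg_flatC K₀ hflatS
  obtain ⟨t, rfl⟩ := hS₁
  choose P hPm hP0 using fun x : S => Algebra.IsIntegral.isIntegral (R := R) x
  let c' : Finset R := c ∪ t.biUnion fun x => (P x).coeffs
  let R₁ : Subalgebra ℤ R := Algebra.adjoin ℤ (c' : Set R)
  have : Algebra.FiniteType ℤ R₁ := (Subalgebra.fg_iff_finiteType R₁).1 (Subalgebra.fg_adjoin_finset c')
  have : IsNoetherianRing R₁ := Algebra.FiniteType.isNoetherianRing ℤ R₁
  have hle : R₀ ≤ R₁ := Algebra.adjoin_mono (Finset.coe_subset.2 Finset.subset_union_left)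
  let := (Subalgebra.inclusion hle).toRingHom.toAlgebra
  have : IsScalarTower R₀ R₁ R := IsScalarTower.of_algebraMap_eq fun x => rfl
  have : IsScalarTower R₀ R₁ S := IsScalarTower.of_algebraMap_eq fun x => rfl
  have hint : ∀ x ∈ t, IsIntegral R₁ x := by
    intro x hx
    have hl : P x ∈ Polynomial.lifts (algebraMap R₁ R) := by
      rw [Polynomial.lifts_iff_coeff_lifts]
      intro k
      by_cases hk : (P x).coeff k = 0
      · exact ⟨0, by rw [hk, map_zero]⟩
      · exact ⟨⟨_, Algebra.subset_adjoin (Finset.mem_union_right _ (Finset.mem_biUnion.2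
          ⟨x, hx, Polynomial.coeff_mem_coeffs hk⟩))⟩, rfl⟩
    obtain ⟨q, hq, -, hqm⟩ := Polynomial.lifts_and_degree_eq_and_monic hl (hPm x)
    refine ⟨q, hqm, ?_⟩
    rw [IsScalarTower.algebraMap_eq R₁ R S, ← Polynomial.eval₂_map, hq]
    exact hP0 x
  have := flat_KK_of_finset (hinj₁ := fun x y e => Subtype.ext e) (R₁ := R₁) hinj t hint K₀ ((flatC_iff_flat K₀).1 hflat₁)
  exact Module.Flat.of_linearEquiv eM.symm

end Groth.Agent.FlatModel
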