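import Groth.Agent.FlatModel.EssFPModel
import Groth.Agent.FlatModel.FibreEss
import Groth.Agent.FlatSyz5.Colim
import Groth.Agent.RG.ElemFlat
import Groth.Agent.DevFlat.Transfer
import Mathlib.LinearAlgebra.TensorProduct.DirectLimit

/-!
Flatness at primes of base changes, along localisations and directed colimits of base rings.
-/

set_option autoImplicit false
set_option linter.style.haveILetI false
set_option linter.unusedSectionVars false
set_option backward.isDefEq.respectTransparency false

universe u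

open TensorProduct

namespace Groth.Agent.FlatSpread

/-- Tensoring a localisation gives a localisation. -/
theorem isLocalizedModule_baseChange {S₀ T : Type u} [CommRing S₀] [CommRing T] [Algebra S₀ T] (W : Submonoid S₀)
    {M₀ M₁ : Type u} [AddCommGroup M₀] [Module S₀ M₀] [AddCommGroup M₁] [Module S₀ M₁]
    (f : M₀ →ₗ[S₀] M₁) [IsLocalizedModule W f] :
    IsLocalizedModule (Algebra.algebraMapSubmonoid T W) (f.baseChange T) := by
  haveI h0 : IsLocalizedModule W ((f.baseChange T).restrictScalars S₀) := by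
    have heq : (f.baseChange T).restrictScalars S₀ = ((TensorProduct.comm S₀ M₁ T).toLinearMap ∘ₗ
        AlgebraTensorModule.rTensor S₀ T f) ∘ₗ (TensorProduct.comm S₀ T M₀).toLinearMap := by
      ext t m
      simp
    rw [heq]
    exact IsLocalizedModule.of_linearEquiv_right W _ _
  refine FlatModel.isLocalizedModule_of_tower W _ (fun w hw => Algebra.mem_algebraMapSubmonoid_of_mem (⟨w, hw⟩ : W)) ?_ _
  rintro _ ⟨w, hw, rfl⟩
  have hu := IsLocalizedModule.map_units ((f.baseChange T).restrictScalars S₀) (⟨w, hw⟩ : W)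
  rw [Module.End.isUnit_iff] at hu ⊢
  have : ⇑(algebraMap T (Module.End T (T ⊗[S₀] M₁)) (algebraMap S₀ T w)) =
      ⇑(algebraMap S₀ (Module.End S₀ (T ⊗[S₀] M₁)) w) := by
    ext x
    simp [algebraMap_smul]
  rw [this]
  exact hu

section Transfer

variable {R A S₀ T : Type u} [CommRing R] [CommRing A] [CommRing S₀] [CommRing T]
  [Algebra R A] [Algebra R S₀] [Algebra R T] [Algebra A T] [Algebra S₀ T]
  [IsScalarTower R A T] [IsScalarTower R S₀ T] [Algebra.IsPushout R A S₀ T]
  (W : Submonoid S₀) {M₀ M₁ : Type u} [AddCommGroup M₀] [Module S₀ M₀]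
  [AddCommGroup M₁] [Module S₀ M₁] [Module R M₁] [IsScalarTower R S₀ M₁]

/-- The base change of a localisation, over the base rings. -/
theorem flat_localized_baseChange (f₁ : M₀ →ₗ[S₀] M₁) [IsLocalizedModule W f₁] :
    Module.Flat A (LocalizedModule (Algebra.algebraMapSubmonoid T W) (T ⊗[S₀] M₀)) ↔ Module.Flat A (A ⊗[R] M₁) := by
  haveI := isLocalizedModule_baseChange (T := T) W f₁
  let W' := Algebra.algebraMapSubmonoid T W
  have h1 : Module.Flat A (LocalizedModule W' (T ⊗[S₀] M₀)) ↔ Module.Flat A (T ⊗[S₀] M₁) :=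
    (FlatModel.flat_localized_iff (R := A) (N := LocalizedModule W' (T ⊗[S₀] M₀)) W' (LocalizedModule.mkLinearMap W' (T ⊗[S₀] M₀))).trans
      (FlatModel.flat_localized_iff (R := A) W' (f₁.baseChange T)).symm
  let e := ((DevFlat.isBaseChange_iff (A := R) (A' := A) (TensorProduct.mk S₀ T M₁ 1)).1
    (TensorProduct.isBaseChange S₀ M₁ T)).equiv
  exact h1.trans ⟨fun _ => Module.Flat.of_linearEquiv e, fun _ => Module.Flat.of_linearEquiv e.symm⟩

end Transfer

/-- Flatness at all primes avoiding an element. -/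
def Good (A : Type u) {T : Type u} [CommRing A] [CommRing T] [Algebra A T] (N : Type u) [AddCommGroup N]
    [Module T N] [Module A N] [IsScalarTower A T N] (t : T) : Prop :=
  ∀ (q : Ideal T) [q.IsPrime], t ∉ q → FlatCA.FlatAt A q N

/-- Flatness at a prime is stable under base change. -/
theorem flatAt_baseChange {A A' T T' : Type u} [CommRing A] [CommRing A'] [CommRing T] [CommRing T']
    [Algebra A A'] [Algebra A T] [Algebra A T'] [Algebra A' T'] [Algebra T T'] [IsScalarTower A A' T']
    [IsScalarTower A T T'] [Algebra.IsPushout A A' T T'] {N : Type u} [AddCommGroup N] [Module T N] [Module A N]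
    [IsScalarTower A T N] (q' : Ideal T') [q'.IsPrime]
    (h : FlatCA.FlatAt A (q'.comap (algebraMap T T')) N) : FlatCA.FlatAt A' q' (T' ⊗[T] N) := by
  let W := (q'.comap (algebraMap T T')).primeCompl
  haveI : Module.Flat A (LocalizedModule W N) := h
  haveI : Module.Flat A' (LocalizedModule (Algebra.algebraMapSubmonoid T' W) (T' ⊗[T] N)) :=
    (flat_localized_baseChange (R := A) (A := A') (T := T') W (LocalizedModule.mkLinearMap W N)).2 inferInstance
  exact FlatModel.flat_localized_mono (L₁ := LocalizedModule (Algebra.algebraMapSubmonoid T' W) (T' ⊗[T] N)) (L₂ := LocalizedModule q'.primeCompl (T' ⊗[T] N)) (Algebra.algebraMapSubmonoid T' W) q'.primeCompl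
    (fun s hs => ⟨1, by rw [one_mul]; obtain ⟨w, hw, rfl⟩ := hs; exact hw⟩)
    (LocalizedModule.mkLinearMap (Algebra.algebraMapSubmonoid T' W) (T' ⊗[T] N))
    (LocalizedModule.mkLinearMap q'.primeCompl (T' ⊗[T] N))

theorem Good.congr {A T N N' : Type u} [CommRing A] [CommRing T] [Algebra A T] [AddCommGroup N]
    [Module T N] [Module A N] [IsScalarTower A T N] [AddCommGroup N'] [Module T N'] [Module A N'] [IsScalarTower A T N']
    (e : N ≃ₗ[T] N') {t : T} (h : Good A N t) : Good A N' t :=
  fun q _ hq => RG.flatAt_congr q e (h q hq)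

theorem Good.baseChange {A A' T T' : Type u} [CommRing A] [CommRing A'] [CommRing T] [CommRing T']
    [Algebra A A'] [Algebra A T] [Algebra A T'] [Algebra A' T'] [Algebra T T'] [IsScalarTower A A' T']
    [IsScalarTower A T T'] [Algebra.IsPushout A A' T T'] {N : Type u} [AddCommGroup N] [Module T N] [Module A N]
    [IsScalarTower A T N] {t : T} (h : Good A N t) : Good A' (T' ⊗[T] N) (algebraMap T T' t) :=
  fun q _ hq => flatAt_baseChange q (h _ hq)

section Localization

variable {R S₀ S A T SA : Type u} [CommRing R] [CommRing S₀] [CommRing S] [CommRing A] [CommRing T] [CommRing SA]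
  [Algebra R S₀] [Algebra R S] [Algebra S₀ S] [IsScalarTower R S₀ S] (W : Submonoid S₀) [IsLocalization W S]
  [Algebra R A] [Algebra R T] [Algebra A T] [Algebra S₀ T] [IsScalarTower R A T] [IsScalarTower R S₀ T]
  [Algebra.IsPushout R S₀ A T]
  [Algebra R SA] [Algebra A SA] [Algebra S SA] [IsScalarTower R A SA] [IsScalarTower R S SA]
  [Algebra.IsPushout R S A SA] [Algebra T SA] [IsScalarTower A T SA] [Algebra S₀ SA] [IsScalarTower S₀ T SA]
  [IsScalarTower S₀ S SA]
  {M₀ M MA : Type u} [AddCommGroup M₀] [Module S₀ M₀]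
  [AddCommGroup M] [Module S M] [Module S₀ M] [IsScalarTower S₀ S M]
  [AddCommGroup MA] [Module SA MA] [Module S MA] [IsScalarTower S SA MA] [Module A MA] [IsScalarTower A SA MA]

variable (R) in
include R W in
/-- Flatness at a prime of a base change of a localisation. -/
theorem flatAt_iff_of_localization (f₀ : M₀ →ₗ[S₀] M) [IsLocalizedModule W f₀] (f : M →ₗ[S] MA)
    (hf : IsBaseChange SA f) (q : Ideal SA) [q.IsPrime] :
    FlatCA.FlatAt A q MA ↔ FlatCA.FlatAt A (q.comap (algebraMap T SA)) (T ⊗[S₀] M₀) := by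
  haveI : IsScalarTower R T SA := IsScalarTower.of_algebraMap_eq fun r => by
    rw [IsScalarTower.algebraMap_apply R A T, ← IsScalarTower.algebraMap_apply A T SA, ← IsScalarTower.algebraMap_apply R A SA]
  haveI : IsScalarTower R S₀ SA := IsScalarTower.of_algebraMap_eq fun r => by
    rw [IsScalarTower.algebraMap_apply S₀ S SA, ← IsScalarTower.algebraMap_apply R S₀ S, ← IsScalarTower.algebraMap_apply R S SA]
  haveI hp : Algebra.IsPushout S₀ S T SA :=
    (Algebra.IsPushout.comp_iff (R := R) (S := S₀) (R' := A) (S' := T) (T := S) (T' := SA)).1 inferInstance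
  haveI hloc : IsLocalization (Algebra.algebraMapSubmonoid T W) SA :=
    (Algebra.isLocalization_iff_isPushout W S).2 hp.symm
  letI : Module T MA := Module.compHom MA (algebraMap T SA)
  haveI : IsScalarTower T SA MA := IsScalarTower.of_algebraMap_smul fun _ _ => rfl
  letI : Module S₀ MA := Module.compHom MA (algebraMap S₀ SA)
  haveI : IsScalarTower S₀ SA MA := IsScalarTower.of_algebraMap_smul fun _ _ => rfl
  haveI : IsScalarTower S₀ T MA := IsScalarTower.of_algebraMap_smul fun s m => by
    rw [← algebraMap_smul SA (algebraMap S₀ T s) m, ← IsScalarTower.algebraMap_apply S₀ T SA, algebraMap_smul]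
  haveI : IsScalarTower S₀ S MA := IsScalarTower.of_algebraMap_smul fun s m => by
    rw [← algebraMap_smul SA (algebraMap S₀ S s) m, ← IsScalarTower.algebraMap_apply S₀ S SA, algebraMap_smul]
  haveI : IsScalarTower A T MA := IsScalarTower.of_algebraMap_smul fun a m => by
    rw [← algebraMap_smul SA (algebraMap A T a) m, ← IsScalarTower.algebraMap_apply A T SA, algebraMap_smul]
  have hN := TensorProduct.isBaseChange S₀ M₀ T
  have hc : IsBaseChange SA ((f.restrictScalars S₀) ∘ₗ f₀) :=
    IsBaseChange.comp ((isLocalizedModule_iff_isBaseChange W S f₀).1 inferInstance) hf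
  let ψ : T ⊗[S₀] M₀ →ₗ[T] MA := hN.lift ((f.restrictScalars S₀) ∘ₗ f₀)
  have hψ : IsBaseChange SA ψ := by
    refine IsBaseChange.of_comp hN ?_
    convert hc using 1
    exact hN.lift_comp _
  haveI : IsLocalizedModule (Algebra.algebraMapSubmonoid T W) ψ :=
    (isLocalizedModule_iff_isBaseChange _ SA ψ).2 hψ
  let q₀ := q.comap (algebraMap T SA)
  let L := LocalizedModule q.primeCompl MA
  haveI hL : IsLocalizedModule q₀.primeCompl ((LocalizedModule.mkLinearMap q.primeCompl MA).restrictScalars T ∘ₗ ψ) := by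
    haveI : IsLocalization q₀.primeCompl (Localization.AtPrime q) :=
      IsLocalization.isLocalization_isLocalization_atPrime_isLocalization (Algebra.algebraMapSubmonoid T W) (Localization.AtPrime q) q
    rw [isLocalizedModule_iff_isBaseChange q₀.primeCompl (Localization.AtPrime q)]
    exact IsBaseChange.comp hψ ((isLocalizedModule_iff_isBaseChange q.primeCompl (Localization.AtPrime q)
      (LocalizedModule.mkLinearMap q.primeCompl MA)).1 inferInstance)
  exact (FlatModel.flat_localized_iff (R := A) q₀.primeCompl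
      ((LocalizedModule.mkLinearMap q.primeCompl MA).restrictScalars T ∘ₗ ψ)).trans
    (FlatModel.flat_localized_iff (R := A) (N := LocalizedModule q₀.primeCompl (T ⊗[S₀] M₀)) q₀.primeCompl (LocalizedModule.mkLinearMap q₀.primeCompl (T ⊗[S₀] M₀))).symm

end Localization

section Colim

/-- Flatness on a basic open spreads to a stage of a colimit. -/
theorem exists_stage_good {R S₀ : Type u} [CommRing R] [CommRing S₀] [Algebra R S₀] [Algebra.FinitePresentation R S₀]
    (M₀ : Type u) [AddCommGroup M₀] [Module S₀ M₀] [Module R M₀] [IsScalarTower R S₀ M₀] [Module.FinitePresentation S₀ M₀]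
    {ι : Type u} [Preorder ι] (G : ι → Type u) [∀ i, CommRing (G i)] [∀ i, Algebra R (G i)]
    (g : ∀ i j, i ≤ j → G i →ₐ[R] G j) (A : Type u) [CommRing A] [Algebra R A] [∀ i, Algebra (G i) A]
    [∀ i, IsScalarTower R (G i) A]
    (hcolim : FlatCA.IsDirectedColimitRing G (fun i j h => (g i j h).toRingHom) A)
    {T : Type u} [CommRing T] [Algebra R T] [Algebra A T] [Algebra S₀ T] [IsScalarTower R A T] [IsScalarTower R S₀ T]
    [Algebra.IsPushout R A S₀ T] (g₀ : S₀) (h : Good A (T ⊗[S₀] M₀) (algebraMap S₀ T g₀)) :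
    ∃ k, ∀ (Tk : Type u) [CommRing Tk] [Algebra R Tk] [Algebra (G k) Tk] [Algebra S₀ Tk] [IsScalarTower R (G k) Tk]
      [IsScalarTower R S₀ Tk] [Algebra.IsPushout R (G k) S₀ Tk],
      Good (G k) (Tk ⊗[S₀] M₀) (algebraMap S₀ Tk g₀) := by
  let S₁ := Localization.Away g₀
  haveI : Algebra.FinitePresentation S₀ S₁ := IsLocalization.Away.finitePresentation g₀
  haveI : Algebra.FinitePresentation R S₁ := Algebra.FinitePresentation.trans R S₀ S₁
  let M₁ := LocalizedModule (Submonoid.powers g₀) M₀
  haveI : Module.FinitePresentation S₁ M₁ :=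
    inferInstanceAs (Module.FinitePresentation (Localization (Submonoid.powers g₀)) (LocalizedModule (Submonoid.powers g₀) M₀))
  have h1 : Module.Flat A (A ⊗[R] M₁) := by
    rw [← flat_localized_baseChange (T := T) (Submonoid.powers g₀) (LocalizedModule.mkLinearMap (Submonoid.powers g₀) M₀),
      Algebra.algebraMapSubmonoid_powers]
    exact RG.flat_powers_of_forall _ h
  obtain ⟨k, hk⟩ := FlatSyz5.exists_flat_stage (B₀ := S₁) G g A hcolim M₁ h1
  refine ⟨k, fun Tk _ _ _ _ _ _ _ q _ hq => ?_⟩
  rw [← flat_localized_baseChange (T := Tk) (Submonoid.powers g₀) (LocalizedModule.mkLinearMap (Submonoid.powers g₀) M₀),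
    Algebra.algebraMapSubmonoid_powers] at hk
  exact RG.flatAt_of_powers hk q hq

variable {R : Type u} [CommRing R] {ι : Type u} [Preorder ι] {G : ι → Type u} [∀ i, CommRing (G i)]
  [∀ i, Algebra R (G i)] {R' : Type u} [CommRing R'] [Algebra R R'] [∀ i, Algebra (G i) R']
  [∀ i, IsScalarTower R (G i) R'] (g : ∀ i j, i ≤ j → G i →ₐ[R] G j)
  (hcolim : FlatCA.IsDirectedColimitRing G (fun i j h => (g i j h).toRingHom) R') (X : Type u) [AddCommGroup X] [Module R X]

include hcolim in
/-- Elements of a tensor product with a colimit come from a stage. -/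
theorem exists_tensor_stage (z : R' ⊗[R] X) :
    ∃ i, ∃ y : G i ⊗[R] X, (IsScalarTower.toAlgHom R (G i) R').toLinearMap.rTensor X y = z := by
  obtain ⟨hdir, ⟨i₀⟩, -, hcomp, halg, hsurj, -⟩ := hcolim
  induction z using TensorProduct.induction_on with
  | zero => exact ⟨i₀, 0, map_zero _⟩
  | tmul a x =>
    obtain ⟨i, b, rfl⟩ := hsurj a
    exact ⟨i, b ⊗ₜ x, rfl⟩
  | add a b ha hb =>
    obtain ⟨i, y, rfl⟩ := ha
    obtain ⟨j, z, rfl⟩ := hb
    obtain ⟨k, hik, hjk⟩ := hdir.directed i j
    refine ⟨k, (g i k hik).toLinearMap.rTensor X y + (g j k hjk).toLinearMap.rTensor X z, ?_⟩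
    rw [map_add, ← LinearMap.rTensor_comp_apply, ← LinearMap.rTensor_comp_apply]
    have e : ∀ i k (h : i ≤ k), (IsScalarTower.toAlgHom R (G k) R').toLinearMap ∘ₗ (g i k h).toLinearMap =
        (IsScalarTower.toAlgHom R (G i) R').toLinearMap :=
      fun i k h => LinearMap.ext fun x => RingHom.congr_fun (halg i k h) x
    rw [e, e]

include hcolim in
/-- An element vanishing in the tensor product with a colimit vanishes at a stage. -/
theorem exists_tensor_zero {i : ι} (y : G i ⊗[R] X)
    (h : (IsScalarTower.toAlgHom R (G i) R').toLinearMap.rTensor X y = 0) :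
    ∃ j, ∃ hij : i ≤ j, (g i j hij).toLinearMap.rTensor X y = 0 := by
  classical
  obtain ⟨hdir, hne, hid, hcomp, halg, hsurj, hinj⟩ := hcolim
  haveI : IsDirected ι (· ≤ ·) := hdir
  let f : ∀ a b, a ≤ b → G a →ₗ[R] G b := fun a b h => (g a b h).toLinearMap
  haveI : DirectedSystem G fun a b h => f a b h :=
    ⟨fun a x => RingHom.congr_fun (hid a) x, fun {a b c} hcb hba x => RingHom.congr_fun (hcomp _ _ _ hcb hba) x⟩
  let L : Module.DirectLimit G f →ₗ[R] R' := Module.DirectLimit.lift R ι G f
    (fun a => (IsScalarTower.toAlgHom R (G a) R').toLinearMap) fun a b hab x => RingHom.congr_fun (halg a b hab) x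
  have hL : ∀ a x, L (Module.DirectLimit.of R ι G f a x) = algebraMap (G a) R' x := fun a x =>
    Module.DirectLimit.lift_of _ _ _
  have hLb : Function.Bijective L := by
    refine ⟨(injective_iff_map_eq_zero L).2 fun x hx => ?_, fun r => ?_⟩
    · obtain ⟨a, x, rfl⟩ := Module.DirectLimit.exists_of x
      obtain ⟨b, hab, hb⟩ := hinj a x ((hL a x).symm.trans hx)
      rw [← Module.DirectLimit.of_f (hij := hab), show f a b hab x = 0 from hb, map_zero]
    · obtain ⟨a, x, rfl⟩ := hsurj r
      exact ⟨_, hL a x⟩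
  have hcomp' : L ∘ₗ Module.DirectLimit.of R ι G f i = (IsScalarTower.toAlgHom R (G i) R').toLinearMap :=
    LinearMap.ext (hL i)
  rw [← hcomp', LinearMap.rTensor_comp_apply] at h
  have h0 := ((LinearEquiv.ofBijective L hLb).rTensor X).injective (h.trans (map_zero _).symm)
  refine Module.DirectLimit.of.zero_exact (G := fun a => G a ⊗[R] X) (f := fun a b hab => (f a b hab).rTensor X) ?_
  rw [← TensorProduct.directLimitLeft_rTensor_of, h0, map_zero]

end Colim

end Groth.Agent.FlatSpread
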