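import Groth.Agent.FlatModel.EssFPModel
import Groth.Agent.FlatMisc.ValuationLocalFP

/-!
The criterion of flatness of a cokernel over a valuation ring, over an essentially finitely
presented local algebra.
-/

set_option autoImplicit false

namespace Groth.Agent.FlatModel

universe u

theorem injective_flat_of_valuationRing {A S N M : Type u} [CommRing A] [IsDomain A] [ValuationRing A]
    [CommRing S] [IsLocalRing S] [Algebra A S] [IsLocalHom (algebraMap A S)] [Algebra.EssFiniteType A S]
    (hS : CAlgX.IsEssFinitePresentation A S)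
    [AddCommGroup N] [Module S N] [Module A N] [IsScalarTower A S N] [Module.Finite S N]
    [AddCommGroup M] [Module S M] [Module A M] [IsScalarTower A S M] [Module.Finite S M] [Module.Flat A M]
    (uS : N →ₗ[S] M)
    (hu0 : ∀ x, uS x ∈ IsLocalRing.maximalIdeal A • (⊤ : Submodule A M) →
      x ∈ IsLocalRing.maximalIdeal A • (⊤ : Submodule A N)) :
    Function.Injective uS ∧ Module.Flat A (M ⧸ LinearMap.range uS) := by
  let m := IsLocalRing.maximalIdeal A
  have htf : ∀ (a : A) (x : M), a ≠ 0 → a • x = 0 → x = 0 := fun a x ha hx => by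
    have h3 : x ∈ Submodule.torsion A M := ⟨⟨a, mem_nonZeroDivisors_of_ne_zero ha⟩, hx⟩
    rwa [Module.Flat.torsion_eq_bot, Submodule.mem_bot] at h3
  have : Module.Flat A (LinearMap.range uS) := by
    refine (Module.Flat.flat_iff_torsion_eq_bot_of_isBezout (R := A) (M := LinearMap.range uS)).2 ?_
    rw [eq_bot_iff]
    rintro ⟨x, hx⟩ ⟨a, ha⟩
    exact Subtype.ext (htf a x (nonZeroDivisors.ne_zero a.2) (congrArg Subtype.val ha))
  have : Module.FinitePresentation S (LinearMap.range uS) :=
    Groth.Agent.FlatMisc.ValuationLocalFP.finitePresentation (A := A) (B := S) (M := LinearMap.range uS)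
  have hKfg : (LinearMap.ker uS.rangeRestrict).FG :=
    Module.FinitePresentation.fg_ker _ uS.surjective_rangeRestrict
  rw [LinearMap.ker_rangeRestrict] at hKfg
  have hK : LinearMap.ker uS = ⊥ := by
    refine Submodule.eq_bot_of_le_smul_of_le_jacobson_bot (m.map (algebraMap A S)) _ hKfg (fun x hx => ?_)
      ((le_trans ?_ (IsLocalRing.maximalIdeal_le_jacobson _)))
    · have hxm := hu0 x (by rw [show uS x = 0 from hx]; exact zero_mem _)
      obtain ⟨a, ha, y, rfl⟩ : ∃ a ∈ m, ∃ y, x = a • y := by
        clear hx
        induction hxm using Submodule.smul_induction_on' with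
        | smul a ha y _ => exact ⟨a, ha, y, rfl⟩
        | add y _ z _ hy hz =>
          obtain ⟨a, ha, y, rfl⟩ := hy
          obtain ⟨b, hb, z, rfl⟩ := hz
          rcases ValuationRing.dvd_total a b with ⟨c, rfl⟩ | ⟨c, rfl⟩
          · exact ⟨a, ha, y + c • z, by rw [smul_add, mul_smul]⟩
          · exact ⟨b, hb, c • y + z, by rw [smul_add, mul_smul]⟩
      by_cases ha0 : a = 0
      · rw [ha0, zero_smul]; exact zero_mem _
      have hy : y ∈ LinearMap.ker uS := htf a (uS y) ha0 (by
        rw [← LinearMap.map_smul_of_tower]; exact hx)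
      rw [← algebraMap_smul S a y]
      exact Submodule.smul_mem_smul (Ideal.mem_map_of_mem _ ha) hy
    · exact Ideal.map_le_iff_le_comap.2 fun r hr => map_nonunit (algebraMap A S) r hr
  have hinj : Function.Injective uS := LinearMap.ker_eq_bot.1 hK
  have : Module.Flat A N := by
    rw [Module.Flat.flat_iff_torsion_eq_bot_of_isBezout, eq_bot_iff]
    rintro x ⟨a, ha⟩
    refine hinj ((htf a (uS x) (nonZeroDivisors.ne_zero a.2) ?_).trans (map_zero uS).symm)
    show (a : A) • uS x = 0
    rw [← LinearMap.map_smul_of_tower, show (a : A) • x = 0 from ha, map_zero]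
  have : Module.FinitePresentation S M := Groth.Agent.FlatMisc.ValuationLocalFP.finitePresentation (A := A) (B := S) (M := M)
  have : Module.FinitePresentation S N := Groth.Agent.FlatMisc.ValuationLocalFP.finitePresentation (A := A) (B := S) (M := N)
  have hmem : ∀ {X : Type u} [AddCommGroup X] [Module S X] [Module A X] [IsScalarTower A S X] (x : X),
      x ∈ m.map (algebraMap A S) • (⊤ : Submodule S X) ↔ x ∈ m • (⊤ : Submodule A X) := by
    intro X _ _ _ _ x
    rw [← Submodule.restrictScalars_mem A, Submodule.restrictScalars_map_smul_eq, Submodule.restrictScalars_top]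
  obtain ⟨-, hflat⟩ := Groth.Agent.FlatModel.injective_flat_of_injective_mod_max_essFP hS uS
    (fun x hx => (hmem x).2 (hu0 x ((hmem _).1 hx)))
  exact ⟨hinj, hflat⟩

end Groth.Agent.FlatModel
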