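import Mathlib

/-!
Vectors of polynomials, their behaviour under change of coefficients, and descent of membership in
spans to finitely generated subalgebras.
-/

namespace Groth.Agent.FlatModel

open MvPolynomial

universe u v w

variable {a n : ℕ}

/-- Vectors of polynomials. -/
abbrev V (a n : ℕ) (R : Type u) [CommRing R] := Fin a → MvPolynomial (Fin n) R

section map

variable {R : Type u} {S : Type v} {T : Type w} [CommRing R] [CommRing S] [CommRing T]

/-- Change of coefficients. -/
noncomputable def mapV (g : R →+* S) (v : V a n R) : V a n S := fun i => MvPolynomial.map g (v i)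

@[simp] theorem mapV_apply (g : R →+* S) (v : V a n R) (i : Fin a) : mapV g v i = MvPolynomial.map g (v i) := rfl

@[simp] theorem mapV_zero (g : R →+* S) : mapV g (0 : V a n R) = 0 := by ext i; simp

theorem mapV_add (g : R →+* S) (v w : V a n R) : mapV g (v + w) = mapV g v + mapV g w := by ext i; simp

theorem mapV_sub (g : R →+* S) (v w : V a n R) : mapV g (v - w) = mapV g v - mapV g w := by ext i; simp

theorem mapV_smul (g : R →+* S) (p : MvPolynomial (Fin n) R) (v : V a n R) :
    mapV g (p • v) = MvPolynomial.map g p • mapV g v := by ext i; simp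

theorem mapV_mapV (g : R →+* S) (h : S →+* T) (v : V a n R) : mapV h (mapV g v) = mapV (h.comp g) v := by
  ext i; simp [MvPolynomial.map_map]

theorem mapV_injective {g : R →+* S} (hg : Function.Injective g) : Function.Injective (mapV (a := a) (n := n) g) :=
  fun v w h => funext fun i => MvPolynomial.map_injective g hg (congrFun h i)

/-- `mapV` as an additive map. -/
noncomputable def mapVHom (g : R →+* S) : V a n R →+ V a n S :=
  { toFun := mapV g, map_zero' := mapV_zero g, map_add' := mapV_add g }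

theorem mapV_mem_span (g : R →+* S) {G : Set (V a n R)} {x : V a n R}
    (hx : x ∈ Submodule.span (MvPolynomial (Fin n) R) G) :
    mapV g x ∈ Submodule.span (MvPolynomial (Fin n) S) (mapV g '' G) := by
  induction hx using Submodule.span_induction with
  | mem x hx => exact Submodule.subset_span ⟨x, hx, rfl⟩
  | zero => simp
  | add x y _ _ hx hy => rw [mapV_add]; exact add_mem hx hy
  | smul p x _ hx => rw [mapV_smul]; exact Submodule.smul_mem _ _ hx

theorem mem_image_of_mem_span {g : R →+* S} (hg : Function.Surjective g)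
    (K : Submodule (MvPolynomial (Fin n) R) (V a n R)) {x : V a n S}
    (hx : x ∈ Submodule.span (MvPolynomial (Fin n) S) (mapV g '' K)) : ∃ w ∈ K, mapV g w = x := by
  induction hx using Submodule.span_induction with
  | mem x hx => exact hx
  | zero => exact ⟨0, zero_mem _, mapV_zero g⟩
  | add x y _ _ hx hy =>
    obtain ⟨w, hw, rfl⟩ := hx; obtain ⟨w', hw', rfl⟩ := hy
    exact ⟨w + w', add_mem hw hw', mapV_add _ _ _⟩
  | smul p x _ hx =>
    obtain ⟨w, hw, rfl⟩ := hx
    obtain ⟨q, rfl⟩ := MvPolynomial.map_surjective g hg p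
    exact ⟨q • w, K.smul_mem _ hw, mapV_smul _ _ _⟩

end map

section descent

variable {R₀ : Type u} [CommRing R₀] {R : Type v} [CommRing R] [Algebra R₀ R]

theorem mapV_algebraMap {R' : Type w} [CommRing R'] [Algebra R₀ R'] (g : R' →ₐ[R₀] R) (v : V a n R₀) :
    mapV g.toRingHom (mapV (algebraMap R₀ R') v) = mapV (algebraMap R₀ R) v := by
  rw [mapV_mapV, show g.toRingHom.comp (algebraMap R₀ R') = algebraMap R₀ R from g.comp_algebraMap]

theorem span_mono_subalgebra {R₁ R₂ : Subalgebra R₀ R} (h : R₁ ≤ R₂) {G : Set (V a n R₀)} {x : V a n R₁}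
    (hx : x ∈ Submodule.span (MvPolynomial (Fin n) R₁) (mapV (algebraMap R₀ R₁) '' G)) :
    mapV (Subalgebra.inclusion h).toRingHom x ∈ Submodule.span (MvPolynomial (Fin n) R₂) (mapV (algebraMap R₀ R₂) '' G) := by
  have := mapV_mem_span (Subalgebra.inclusion h).toRingHom hx
  rwa [Set.image_image, Set.image_congr fun v _ => mapV_algebraMap (Subalgebra.inclusion h) v] at this

theorem mapV_val_inclusion {R₁ R₂ : Subalgebra R₀ R} (h : R₁ ≤ R₂) (x : V a n R₁) :
    mapV R₂.val.toRingHom (mapV (Subalgebra.inclusion h).toRingHom x) = mapV R₁.val.toRingHom x := by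
  rw [mapV_mapV]; rfl

/-- A membership in a span holds over some finitely generated subalgebra. -/
theorem exists_fg_span_descent {G : Set (V a n R₀)} {x : V a n R}
    (hx : x ∈ Submodule.span (MvPolynomial (Fin n) R) (mapV (algebraMap R₀ R) '' G)) :
    ∃ R₁ : Subalgebra R₀ R, R₁.FG ∧ ∃ x₁ ∈ Submodule.span (MvPolynomial (Fin n) R₁) (mapV (algebraMap R₀ R₁) '' G),
      mapV R₁.val.toRingHom x₁ = x := by
  classical
  induction hx using Submodule.span_induction with
  | mem x hx =>
    obtain ⟨w, hw, rfl⟩ := hx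
    exact ⟨⊥, Subalgebra.fg_bot, mapV (algebraMap R₀ _) w, Submodule.subset_span ⟨w, hw, rfl⟩,
      mapV_algebraMap (⊥ : Subalgebra R₀ R).val w⟩
  | zero => exact ⟨⊥, Subalgebra.fg_bot, 0, zero_mem _, mapV_zero _⟩
  | add x y _ _ hx hy =>
    obtain ⟨R₁, h₁, x₁, hx₁, rfl⟩ := hx; obtain ⟨R₂, h₂, y₂, hy₂, rfl⟩ := hy
    refine ⟨R₁ ⊔ R₂, h₁.sup h₂, _, add_mem (span_mono_subalgebra (le_sup_left : R₁ ≤ R₁ ⊔ R₂) hx₁)
      (span_mono_subalgebra (le_sup_right : R₂ ≤ R₁ ⊔ R₂) hy₂), ?_⟩
    rw [mapV_add, mapV_val_inclusion, mapV_val_inclusion]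
  | smul p x _ hx =>
    obtain ⟨R₁, h₁, x₁, hx₁, rfl⟩ := hx
    let R₂ := Algebra.adjoin R₀ (p.coeffs : Set R)
    have hp : p ∈ Set.range (MvPolynomial.map (R₁ ⊔ R₂).val.toRingHom) :=
      MvPolynomial.mem_range_map_iff_coeffs_subset.2 fun c hc =>
        ⟨⟨c, (le_sup_right : R₂ ≤ R₁ ⊔ R₂) (Algebra.subset_adjoin hc)⟩, rfl⟩
    obtain ⟨q, hq⟩ := hp
    refine ⟨R₁ ⊔ R₂, h₁.sup (Subalgebra.fg_adjoin_finset _), q • mapV (Subalgebra.inclusion le_sup_left).toRingHom x₁,
      Submodule.smul_mem _ _ (span_mono_subalgebra le_sup_left hx₁), ?_⟩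
    rw [mapV_smul, mapV_val_inclusion, hq]

end descent

end Groth.Agent.FlatModel
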